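import Groth.Agent.FSProper.Main
import Groth.Agent.FormBlow.Adic

/-!
# Cohomology of coherent modules on a formal scheme proper over a formal spectrum
-/

set_option autoImplicit false
set_option backward.isDefEq.respectTransparency false
set_option backward.isDefEq.respectTransparency.types false
set_option linter.style.haveILetI false
set_option maxHeartbeats 1000000

universe u

open CategoryTheory CategoryTheory.Limits AlgebraicGeometry TopologicalSpace Opposite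
open Groth.Agent.SiteCoh Groth.Agent.ProjCech
open Groth.Agent.FSchCoh (OA RA JA projR pullSys toReal toReal_proj isCoh_pullSys isIso_toReal)

noncomputable section

namespace Groth.Agent.FSProper

section Image

variable {C : Type*} [Category C] [Abelian C] {X Y Z : C}

/-- An image is inside another when the cokernel of the second kills the first. -/
lemma imageSubobject_le_of_comp_cokernel (f : X ⟶ Z) (g : Y ⟶ Z) (h : f ≫ cokernel.π g = 0) :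
    imageSubobject f ≤ imageSubobject g := by
  have he := (ShortComplex.exact_iff_image_eq_kernel _).1
    (ShortComplex.exact_of_g_is_cokernel (ShortComplex.mk g (cokernel.π g) (cokernel.condition g))
      (cokernelIsCokernel g))
  refine le_of_le_of_eq (imageSubobject_le f (factorThruKernelSubobject (cokernel.π g) f h)
    (factorThruKernelSubobject_comp_arrow _ _ _)) he.symm

/-- A projective system with a cone whose images absorb those from far away is Mittag-Leffler. -/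
lemma isML_of_cone (G : ARSys.PS C) {T : C} (η : ∀ n, T ⟶ G.obj (op n))
    (hη : ∀ (n m : ℕ) (h : n ≤ m), η m ≫ ARSys.tr G h = η n)
    (H : ∀ n, ∃ r, ARSys.shiftMap G r n ≫ cokernel.π (η n) = 0) : ARSys.IsML G := fun n => by
  obtain ⟨r, hr⟩ := H n
  refine ⟨r, fun s hs => le_antisymm ?_ ?_⟩
  · have e : ARSys.shiftMap G s n =
        ARSys.tr G (show n + r ≤ n + s by omega) ≫ ARSys.shiftMap G r n := by
      dsimp only [ARSys.shiftMap, ARSys.tr]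
      rw [← G.map_comp]
      rfl
    refine imageSubobject_le_of_comp_cokernel _ _ ((congrArg (· ≫ cokernel.π _) e).trans ?_)
    exact (Category.assoc _ _ _).trans
      ((congrArg (_ ≫ ·) (cokernel.condition _)).trans comp_zero)
  · refine (imageSubobject_le_of_comp_cokernel _ _ hr).trans (imageSubobject_le_of_comp_cokernel _ _ ?_)
    refine (congrArg (· ≫ cokernel.π _) (hη n (n + s) (Nat.le_add_right n s)).symm).trans ?_
    exact (Category.assoc _ _ _).trans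
      ((congrArg (_ ≫ ·) (cokernel.condition _)).trans comp_zero)

end Image

lemma isAffineOpen_tupleProd_sep {X : Scheme.{u}} [X.IsSeparated] {ι : Type u} (U : ι → X.Opens)
    (hU : ∀ i, IsAffineOpen (U i)) (n : ℕ) (a : Fin (n + 1) → ι) : IsAffineOpen (tupleProd U a) := by
  rw [tupleProd_eq_iInf]
  have : ∀ s : Finset (Fin (n + 1)), ∀ hs : s.Nonempty, IsAffineOpen (s.inf' hs fun k => U (a k)) := fun s hs => by
    induction hs using Finset.Nonempty.cons_induction with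
    | singleton i => exact hU _
    | cons i s hi hs ih =>
      rw [Finset.inf'_cons hs]
      exact (hU (a i)).inf ih
  convert this Finset.univ Finset.univ_nonempty using 1
  rw [Finset.inf'_eq_inf, Finset.inf_univ_eq_iInf]

variable (𝔛 : FSch.Sys.{u}) (h𝔛 : 𝔛.IsLocNoethFormal)

section Transfer

variable {A : Type u} [CommRing A] [IsNoetherianRing A]
  {σ : Type u} [Fintype σ] {t : σ → A} {W : (𝔛.X 0).Opens}
  {ι : Type u} [Finite ι] (U : ι → (𝔛.X 0).Opens) (hcov : iSup U = W) {φ : A →+* OA 𝔛 h𝔛.1 W}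
  (hU : ∀ (n : ℕ) (a : Fin (n + 1) → ι), IsAffineOpen (tupleProd U a))
  (hJ : GensIdeal 𝔛 h𝔛 t φ) (hP : ProperBase 𝔛 h𝔛 φ)
  (F : FSch.ModF 𝔛 h𝔛.1) (hF : FSch.IsCohF 𝔛 h𝔛.1 F)

/-- The levels of a module. -/
abbrev FL (k : ℕ) : FSch.ModF 𝔛 h𝔛.1 :=
  (FSch.levelMor 𝔛 h𝔛.1 k).push.obj ((FSch.levelMor 𝔛 h𝔛.1 k).pull.obj F)

/-- The unit towards a level. -/
abbrev un (k : ℕ) : F ⟶ FL 𝔛 h𝔛 F k := (FSch.levelMor 𝔛 h𝔛.1 k).adj.unit.app F

lemma toReal_lp (k : ℕ) : toReal 𝔛 h𝔛.1 F ≫ lp 𝔛 h𝔛 (pullSys 𝔛 h𝔛.1 F) k = un 𝔛 h𝔛 F k :=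
  toReal_proj 𝔛 h𝔛.1 F k

include hF in
lemma lp_eq (k : ℕ) : haveI := isIso_toReal h𝔛 hF
    lp 𝔛 h𝔛 (pullSys 𝔛 h𝔛.1 F) k = inv (toReal 𝔛 h𝔛.1 F) ≫ un 𝔛 h𝔛 F k := by
  haveI := isIso_toReal h𝔛 hF
  rw [← toReal_lp, IsIso.inv_hom_id_assoc]

include hcov hU hJ hP hF in
/-- **Mittag-Leffler for the levels of a coherent module.** -/
theorem ml_coh (p : ℕ) : ∃ D : ℕ, ∀ (n m : ℕ), n + D ≤ m →
    ∀ g : FL 𝔛 h𝔛 F m ⟶ FL 𝔛 h𝔛 F n, un 𝔛 h𝔛 F m ≫ g = un 𝔛 h𝔛 F n →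
    ∀ c, ∃ y, hum W g p c = hum W (un 𝔛 h𝔛 F n) p y := by
  subst hcov
  haveI := isIso_toReal h𝔛 hF
  obtain ⟨D, hD⟩ := ml_hu 𝔛 h𝔛 U (pullSys 𝔛 h𝔛.1 F) hU hJ (isCoh_pullSys 𝔛 h𝔛.1 F h𝔛 hF) hP p
  refine ⟨D, fun n m hnm g hg c => ?_⟩
  obtain ⟨y, hy⟩ := hD n m hnm g (by rw [lp_eq 𝔛 h𝔛 F hF, lp_eq 𝔛 h𝔛 F hF, Category.assoc, hg]) c
  refine ⟨hum (iSup U) (inv (toReal 𝔛 h𝔛.1 F)) p y, hy.trans ?_⟩
  rw [lp_eq 𝔛 h𝔛 F hF, hum_comp]
  rfl

include hcov hU hJ hP hF in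
/-- **Injectivity.** -/
theorem hu_coh_eq_zero (p : ℕ) (c : CohSite.HU (ModSite.toAb F) p W)
    (hc : ∀ k, hum W (un 𝔛 h𝔛 F k) p c = 0) : c = 0 := by
  subst hcov
  haveI := isIso_toReal h𝔛 hF
  have h0 := hu_eq_zero 𝔛 h𝔛 U (pullSys 𝔛 h𝔛.1 F) hU hJ (isCoh_pullSys 𝔛 h𝔛.1 F h𝔛 hF) hP p
    (hum (iSup U) (toReal 𝔛 h𝔛.1 F) p c) fun k => by
      rw [← hum_comp, toReal_lp]
      exact hc k
  have h1 := congrArg (hum (iSup U) (inv (toReal 𝔛 h𝔛.1 F)) p) h0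
  rwa [← hum_comp, IsIso.hom_inv_id, hum_id, map_zero] at h1

include hcov hU hJ hP hF in
/-- **Surjectivity.** -/
theorem exists_hu_coh (p : ℕ) (c : ∀ k, CohSite.HU (ModSite.toAb (FL 𝔛 h𝔛 F k)) p W)
    (hc : ∀ k, hum W (FSch.levelTrans 𝔛 h𝔛.1 F k) p (c (k + 1)) = c k) :
    ∃ y, ∀ k, hum W (un 𝔛 h𝔛 F k) p y = c k := by
  subst hcov
  haveI := isIso_toReal h𝔛 hF
  obtain ⟨y, hy⟩ := exists_hu_of_compatible 𝔛 h𝔛 U (pullSys 𝔛 h𝔛.1 F) hU hJ (isCoh_pullSys 𝔛 h𝔛.1 F h𝔛 hF) hP p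
    (FSch.levelTrans 𝔛 h𝔛.1 F) (fun k => by
      rw [lp_eq 𝔛 h𝔛 F hF, lp_eq 𝔛 h𝔛 F hF, Category.assoc]
      exact congrArg (inv (toReal 𝔛 h𝔛.1 F) ≫ ·) (FSch.unit_levelTrans 𝔛 h𝔛.1 F k)) c hc
  refine ⟨hum (iSup U) (inv (toReal 𝔛 h𝔛.1 F)) p y, fun k => ?_⟩
  rw [← hum_comp, ← lp_eq 𝔛 h𝔛 F hF]
  exact hy k

end Transfer

section Spf

variable {A : Type u} [CommRing A] (J : Ideal A) (f : 𝔛 ⟶ FSch.spf A J)

/-- The scalars. -/
abbrev phiT : A →+* OA 𝔛 h𝔛.1 ⊤ := FormBlow.rho h𝔛.1 f ⊤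

lemma gensIdeal_spf (hf : FSch.IsAdicHom f) {σ : Type u} [Fintype σ] {t : σ → A} (ht : tI t = J) :
    GensIdeal 𝔛 h𝔛 t (phiT 𝔛 h𝔛 J f) := fun V e hV => by
  have h1 : scl (X := (𝔛.X 0).carrier) (O := 𝔛.Osh h𝔛.1) (phiT 𝔛 h𝔛 J f) e = FormBlow.rho h𝔛.1 f V :=
    RingHom.ext fun a => FormBlow.rho_rs h𝔛.1 f e a
  rw [h1, ht]
  have h2 := FormBlow.ker_projR_eq h𝔛.1 f hf (ht ▸ Submodule.fg_span (Set.finite_range t)) hV 0
  rw [zero_add, pow_one] at h2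
  exact h2.symm

lemma properBase_spf (hf : IsProper ((f : FSch.Hom 𝔛 (FSch.spf A J)).app 0)) :
    ProperBase 𝔛 h𝔛 (phiT 𝔛 h𝔛 J f) := by
  have hW : 𝔛.lvU h𝔛.1 0 ⊤ = ⊤ := FormBlow.lvU_zero h𝔛.1 ⊤
  haveI : IsIso (𝔛.lvU h𝔛.1 0 ⊤).ι := by
    rw [hW, ← Scheme.topIso_hom]
    infer_instance
  haveI : IsClosedImmersion (FSch.spfToSpec A J 0) := by
    show IsClosedImmersion (Spec.map (CommRingCat.ofHom (Ideal.Quotient.mk (J ^ (0 + 1)))))
    exact IsClosedImmersion.spec_of_surjective _ Ideal.Quotient.mk_surjective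
  have key : lvStr 𝔛 h𝔛.1 (phiT 𝔛 h𝔛 J f) 0 =
      (𝔛.lvU h𝔛.1 0 ⊤).ι ≫ (f : FSch.Hom 𝔛 (FSch.spf A J)).app 0 ≫ FSch.spfToSpec A J 0 := by
    refine ext_of_isAffine ?_
    refine (cancel_epi (Scheme.ΓSpecIso (CommRingCat.of A)).inv).1 ?_
    change _ ≫ ((𝔛.lvU h𝔛.1 0 ⊤).toSpecΓ ≫ Spec.map _).appTop =
      _ ≫ (_ ≫ _ ≫ Spec.map (CommRingCat.ofHom (Ideal.Quotient.mk (J ^ (0 + 1))))).appTop
    simp only [Scheme.Hom.comp_appTop, Scheme.Opens.toSpecΓ_appTop, Category.assoc]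
    erw [← Scheme.ΓSpecIso_inv_naturality_assoc, ← Scheme.ΓSpecIso_inv_naturality_assoc, Iso.inv_hom_id_assoc]
    refine CommRingCat.hom_ext (RingHom.ext fun a => ?_)
    refine (congrArg (𝔛.lvU h𝔛.1 0 ⊤).topIso.inv.hom (FormBlow.projR_rho h𝔛.1 f ⊤ 0 a)).trans ?_
    rw [Scheme.Opens.topIso_inv, Scheme.Hom.appLE, Scheme.Opens.ι_appTop]
    change ((((f : FSch.Hom 𝔛 (FSch.spf A J)).app 0).app ⊤ ≫ (𝔛.X 0).presheaf.map _) ≫ (𝔛.X 0).presheaf.map _).hom _ =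
      ((((f : FSch.Hom 𝔛 (FSch.spf A J)).app 0).app ⊤) ≫ (𝔛.X 0).presheaf.map _).hom _
    rw [Category.assoc, ← Functor.map_comp]
    rfl
  rw [ProperBase, key]
  haveI := hf
  infer_instance

end Spf

end Groth.Agent.FSProper
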