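import Groth.Agent.FSProper.Cech
import Groth.Agent.RDerLib.LES
import Groth.Agent.FSchCoh.RpushVanish
import Groth.Agent.SiteCoh.AcyclicCx

/-!
# Čech cocycles and sections of right derived functors, linearly

For a left exact functor between modules on ringed spaces, a cover and an open of the target over which the
functor takes the sections over the union of the cover, cocycles give sections of the derived functors, by
dimension shifting; the map is linear over the sections of the structure sheaf of the target.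
-/

set_option autoImplicit false
set_option backward.isDefEq.respectTransparency false
set_option backward.isDefEq.respectTransparency.types false
set_option linter.style.haveILetI false
set_option maxHeartbeats 1000000

universe u

open CategoryTheory CategoryTheory.Limits TopologicalSpace Opposite
open Groth.Agent.SiteCoh Groth.Agent.ProjCech
open Groth.Agent.RSFin (sc rsR rs rs_rs rs_smul ap)

noncomputable section

namespace Groth.Agent.FSProper.LinCmp

section Sections

variable {X : TopCat.{u}} {O : TopCat.Sheaf CommRingCat.{u} X}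

/-- Acyclicity over an open. -/
abbrev AcM (V : Opens X) (M : ModSite.Mod O) : Prop :=
  SiteCoh.Acyc (J := Opens.grothendieckTopology X) V (ModSite.toAb M)

lemma ses_toAb {S : ShortComplex (ModSite.Mod O)} (hS : S.ShortExact) :
    (S.map (SheafOfModules.toSheaf.{u} (ModSite.ringSh O))).ShortExact :=
  haveI : PreservesFiniteColimits (SheafOfModules.toSheaf.{u} (ModSite.ringSh O)) :=
    CohQC.toSheaf_preservesFiniteColimits _
  hS.map_of_exact _

lemma acM_X₂ {S : ShortComplex (ModSite.Mod O)} (hS : S.ShortExact) {V : Opens X} (h₁ : AcM V S.X₁)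
    (h₃ : AcM V S.X₃) : AcM V S.X₂ :=
  SiteCoh.acyc_middle (ses_toAb hS) h₁ h₃

lemma acM_X₃ {S : ShortComplex (ModSite.Mod O)} (hS : S.ShortExact) {V : Opens X} (h₁ : AcM V S.X₁)
    (h₂ : AcM V S.X₂) : AcM V S.X₃ :=
  SiteCoh.acyc_right (ses_toAb hS) h₁ h₂

lemma acM_of_iso {M N : ModSite.Mod O} (e : M ≅ N) {V : Opens X} (h : AcM V M) : AcM V N :=
  SiteCoh.acyc_of_iso ((SheafOfModules.toSheaf.{u} (ModSite.ringSh O)).mapIso e) h

lemma ap_surjective {S : ShortComplex (ModSite.Mod O)} (hS : S.ShortExact) {V : Opens X} (h₁ : AcM V S.X₁) :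
    Function.Surjective (ap S.g V) :=
  haveI : Subsingleton (CohSite.HU (S.map (SheafOfModules.toSheaf.{u} (ModSite.ringSh O))).X₁ 1 V) := h₁ 0
  SiteCoh.sections_surjective (ses_toAb hS) V

lemma exists_ap_eq {S : ShortComplex (ModSite.Mod O)} (hS : S.ShortExact) {V : Opens X}
    (t : ModSite.sect S.X₂ V) (ht : ap S.g V t = 0) : ∃ a, ap S.f V a = t := by
  haveI := hS.mono_f
  haveI : IsIso (kernel.lift S.g S.f S.zero) :=
    haveI := hS.exact.epi_kernelLift
    haveI : Mono (kernel.lift S.g S.f S.zero) := mono_of_mono_fac (kernel.lift_ι S.g S.f S.zero)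
    isIso_of_mono_of_epi _
  obtain ⟨b, rfl⟩ := (RSFin.kernel_sections S.g V).2 t ht
  refine ⟨ap (inv (kernel.lift S.g S.f S.zero)) V b, ?_⟩
  rw [← RSFin.ap_comp]
  exact congrArg (fun z => ap z V b) (by rw [IsIso.inv_comp_eq, kernel.lift_ι])

lemma acM_injective (I : ModSite.Mod O) [Injective I] (V : Opens X) : AcM V I := fun p =>
  haveI := FSchCoh.isFlasque_toAb_injective O I
  flasque_acyclic (ModSite.toAb I) V p

/-- The embedding into an injective module. -/
abbrev seq [EnoughInjectives (ModSite.Mod O)] (M : ModSite.Mod O) : ShortComplex (ModSite.Mod O) :=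
  ShortComplex.mk (Injective.ι M) (cokernel.π (Injective.ι M)) (cokernel.condition _)

lemma seq_shortExact [EnoughInjectives (ModSite.Mod O)] (M : ModSite.Mod O) : (seq M).ShortExact :=
  { exact := ShortComplex.exact_cokernel _
    mono_f := inferInstanceAs (Mono (Injective.ι M))
    epi_g := inferInstanceAs (Epi (cokernel.π (Injective.ι M))) }

variable {A : Type u} [CommRing A] {W : Opens X} (φ : A →+* sc O W) {ι : Type u} (U : ι → Opens X)
  (hle : ∀ i, U i ≤ W)

lemma mapF_comp {F G H : ModSite.Mod O} (f : F ⟶ G) (g : G ⟶ H) (n : ℕ) (x : (CoF φ U hle F n : Type u)) :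
    mapF φ U hle (f ≫ g) n x = mapF φ U hle g n (mapF φ U hle f n x) := rfl

lemma mapF_injective {F G : ModSite.Mod O} (f : F ⟶ G) [Mono f] (n : ℕ) :
    Function.Injective (mapF φ U hle f n) := fun _ _ h =>
  funext fun a => RSFin.injective_of_mono f (tupleProd U a) (congrFun h a)

lemma mapF_surjective {S : ShortComplex (ModSite.Mod O)} (hS : S.ShortExact) (h₁ : AcF U S.X₁) (n : ℕ) :
    Function.Surjective (mapF φ U hle S.g n) := fun y => by
  choose x hx using fun a => ap_surjective hS (V := tupleProd U a) (h₁ n a) (y a)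
  exact ⟨x, funext hx⟩

lemma exists_mapF_eq {S : ShortComplex (ModSite.Mod O)} (hS : S.ShortExact) (n : ℕ)
    (y : (CoF φ U hle S.X₂ n : Type u)) (hy : mapF φ U hle S.g n y = 0) :
    ∃ x, mapF φ U hle S.f n x = y := by
  choose x hx using fun a => exists_ap_eq hS (V := tupleProd U a) (y a) (congrFun hy a)
  exact ⟨x, funext hx⟩

lemma mapF_seq_zero (M : ModSite.Mod O) [EnoughInjectives (ModSite.Mod O)] (n : ℕ)
    (x : (CoF φ U hle M n : Type u)) : mapF φ U hle (seq M).g n (mapF φ U hle (seq M).f n x) = 0 := by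
  rw [← mapF_comp, (seq M).zero]
  rfl

lemma dF_dF (F : ModSite.Mod O) (n : ℕ) (x : (CoF φ U hle F n : Type u)) :
    dF φ U hle F (n + 1) (dF φ U hle F n x) = 0 :=
  cd_cd (Y := U) (P := PF F) (n := n) x

lemma acF_injective (I : ModSite.Mod O) [Injective I] : AcF U I := fun _ _ q => acM_injective I _ q

lemma acF_seq [EnoughInjectives (ModSite.Mod O)] {M : ModSite.Mod O} (hM : AcF U M) : AcF U (seq M).X₃ :=
  fun n a => acM_X₃ (seq_shortExact M) (hM n a) (acM_injective _ _)

end Sections

section Glue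

variable {X : TopCat.{u}} {O : TopCat.Sheaf CommRingCat.{u} X} {A : Type u} [CommRing A]
  {ι : Type u} (U : ι → Opens X) (φ : A →+* sc O (iSup U))

/-- Cochains of sections over the union. -/
def eps (M : ModSite.Mod O) :
    (secF φ M (le_refl (iSup U)) : Type u) →ₗ[A] (CoF φ U (le_iSup U) M 0 : Type u) where
  toFun s a := (rs M (tupleProd_le' U (le_iSup U) a) (show ModSite.sect M (iSup U) from s) :)
  map_add' s t := funext fun a => map_add (rs M (tupleProd_le' U (le_iSup U) a)) _ _
  map_smul' r s := funext fun a => by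
    refine (rs_smul M (tupleProd_le' U (le_iSup U) a) (scl φ le_rfl r) _).trans ?_
    rw [rsR_scl]
    rfl

lemma eps_eq_aug (M : ModSite.Mod O) (s : ModSite.sect M (iSup U)) :
    eps U φ M s = aug (opensData U) (ModSite.toAb M) s := rfl

lemma eps_injective (M : ModSite.Mod O) : Function.Injective (eps U φ M) := fun s t h =>
  aug_injective (opensData U) (ModSite.toAb M) h

lemma dF_eps (M : ModSite.Mod O) (s : (secF φ M (le_refl (iSup U)) : Type u)) :
    dF φ U (le_iSup U) M 0 (eps U φ M s) = 0 :=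
  cd_aug (opensData U) (ModSite.toAb M) s

lemma exists_eps {M : ModSite.Mod O} (x : (CoF φ U (le_iSup U) M 0 : Type u))
    (hx : dF φ U (le_iSup U) M 0 x = 0) : ∃ s, eps U φ M s = x :=
  exists_aug (opensData U) (ModSite.toAb M) x hx

lemma exists_d_eq_of_injective (I : ModSite.Mod O) [Injective I] (m : ℕ)
    (z : (CoF φ U (le_iSup U) I (m + 1) : Type u)) (hz : dF φ U (le_iSup U) I (m + 1) z = 0) :
    ∃ w, dF φ U (le_iSup U) I m w = z := by
  obtain ⟨cl, -, hker, -⟩ := exists_cls φ U (le_iSup U) (m + 1) m (m + 1 + 1)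
    (CochainComplex.prev_nat_succ m) (CochainComplex.next ℕ (m + 1))
  haveI : Subsingleton (CohSite.HU (ModSite.toAb I) (m + 1) (iSup U)) := acM_injective I (iSup U) m
  have hz' : z ∈ LinearMap.ker ((CF φ U (le_iSup U) I).d (m + 1) (m + 1 + 1)).hom := by
    rw [LinearMap.mem_ker, CF_d]
    exact hz
  obtain ⟨w, hw⟩ := (hker I (acF_injective U I) ⟨z, hz'⟩).1 (Subsingleton.elim _ _)
  refine ⟨w, ?_⟩
  rw [CF_d] at hw
  exact hw

end Glue

variable {X Y : TopCat.{u}} {O : TopCat.Sheaf CommRingCat.{u} X} {O' : TopCat.Sheaf CommRingCat.{u} Y}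
  (P : ModSite.Mod O ⥤ ModSite.Mod O') [P.Additive] [PreservesFiniteLimits P]
  [HasInjectiveResolutions (ModSite.Mod O)] [EnoughInjectives (ModSite.Mod O)]
  {ι : Type u} (U : ι → Opens X) {V : Opens Y} (φ : sc O' V →+* sc O (iSup U))
  (π : ∀ M, ModSite.sect (P.obj M) V ≃+ ModSite.sect M (iSup U))
  (hπn : ∀ (M N : ModSite.Mod O) (f : M ⟶ N) x, π N (ap (P.map f) V x) = ap f (iSup U) (π M x))
  (hπs : ∀ (M : ModSite.Mod O) (a : sc O' V) x, π M (a • x) = φ a • π M x)

/-- The cocycles. -/
abbrev Zc (q : ℕ) (M : ModSite.Mod O) : Submodule (sc O' V) (CoF φ U (le_iSup U) M q : Type u) :=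
  LinearMap.ker (dF φ U (le_iSup U) M q)

lemma mapF_mem {M N : ModSite.Mod O} (f : M ⟶ N) (q : ℕ) (z : Zc U φ q M) :
    mapF φ U (le_iSup U) f q z.1 ∈ Zc U φ q N := by
  rw [LinearMap.mem_ker, ← mapF_dF, LinearMap.mem_ker.1 z.2, map_zero]

/-- The map on cocycles. -/
abbrev zmap {M N : ModSite.Mod O} (f : M ⟶ N) (q : ℕ) (z : Zc U φ q M) : Zc U φ q N :=
  ⟨_, mapF_mem U φ f q z⟩

/-- Linear maps from cocycles to sections of a derived functor, natural in the module. -/
structure Data (q : ℕ) where
  /-- the map -/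
  L : ∀ M : ModSite.Mod O, AcF U M → Zc U φ q M →ₗ[sc O' V] ModSite.sect ((P.rightDerived q).obj M) V
  nat : ∀ (M N : ModSite.Mod O) (hM : AcF U M) (hN : AcF U N) (f : M ⟶ N) (z : Zc U φ q M),
    L N hN (zmap U φ f q z) = ap ((P.rightDerived q).map f) V (L M hM z)

/-- Gluing of cocycles of degree zero. -/
def glue (M : ModSite.Mod O) (z : Zc U φ 0 M) : ModSite.sect M (iSup U) :=
  (exists_eps U φ z.1 (LinearMap.mem_ker.1 z.2)).choose

lemma eps_glue (M : ModSite.Mod O) (z : Zc U φ 0 M) : eps U φ M (glue U φ M z) = z.1 :=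
  (exists_eps U φ z.1 (LinearMap.mem_ker.1 z.2)).choose_spec

include hπn hπs in
lemma exists_data_zero : Nonempty { D : Data P U φ 0 // ∀ M hM, Function.Bijective (D.L M hM) } := by
  let L0 : ∀ M : ModSite.Mod O, Zc U φ 0 M →ₗ[sc O' V] ModSite.sect (P.obj M) V := fun M =>
    { toFun := fun z => (π M).symm (glue U φ M z)
      map_add' := fun z z' => by
        refine (π M).injective ?_
        rw [map_add, AddEquiv.apply_symm_apply, AddEquiv.apply_symm_apply, AddEquiv.apply_symm_apply]
        refine eps_injective U φ M ?_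
        refine (eps_glue U φ M (z + z')).trans ?_
        refine Eq.trans ?_ (map_add (eps U φ M) _ _).symm
        rw [eps_glue, eps_glue]
        rfl
      map_smul' := fun a z => by
        refine (π M).injective ?_
        rw [RingHom.id_apply, hπs, AddEquiv.apply_symm_apply, AddEquiv.apply_symm_apply]
        refine eps_injective U φ M ?_
        refine (eps_glue U φ M (a • z)).trans ?_
        refine (congrArg (a • ·) (eps_glue U φ M z)).symm.trans ?_
        refine ((eps U φ M).map_smul a _).symm.trans (congrArg (eps U φ M) ?_)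
        show scl φ le_rfl a • glue U φ M z = φ a • glue U φ M z
        rw [show scl φ le_rfl a = φ a from RSFin.rsR_self _ (φ a)] }
  let e := P.rightDerivedZeroIsoSelf
  refine ⟨⟨⟨fun M _ => (ap (e.inv.app M) V).comp (L0 M), fun M N hM hN f z => ?_⟩, fun M hM => ?_⟩⟩
  · have h0 : L0 N (zmap U φ f 0 z) = ap (P.map f) V (L0 M z) := by
      refine (π N).injective ?_
      rw [hπn]
      change π N ((π N).symm (glue U φ N _)) = ap f _ (π M ((π M).symm (glue U φ M z)))
      rw [AddEquiv.apply_symm_apply, AddEquiv.apply_symm_apply]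
      refine eps_injective U φ N ((eps_glue U φ N _).trans ?_)
      refine funext fun a => ?_
      refine Eq.trans ?_ (RSFin.ap_rs f (tupleProd_le' U (le_iSup U) a) (glue U φ M z))
      exact congrArg (ap f (tupleProd U a)) (congrFun (eps_glue U φ M z) a).symm
    change ap (e.inv.app N) V (L0 N (zmap U φ f 0 z)) = ap ((P.rightDerived 0).map f) V (ap (e.inv.app M) V (L0 M z))
    rw [h0, ← RSFin.ap_comp, ← RSFin.ap_comp]
    exact congrArg (fun g => ap g V (L0 M z)) (e.inv.naturality f)
  · have h1 : Function.Bijective (ap (e.inv.app M) V) :=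
      ⟨RSFin.injective_of_mono (e.inv.app M) V, fun x => ⟨ap (e.hom.app M) V x, by
        rw [← RSFin.ap_comp, Iso.hom_inv_id_app, RSFin.ap_id]⟩⟩
    have h2 : Function.Bijective (L0 M) := by
      refine ⟨fun z z' h => ?_, fun x => ?_⟩
      · exact Subtype.ext ((eps_glue U φ M z).symm.trans
          ((congrArg (eps U φ M) ((π M).symm.injective h)).trans (eps_glue U φ M z')))
      · refine ⟨⟨eps U φ M (π M x), LinearMap.mem_ker.2 (dF_eps U φ M _)⟩, (π M).injective ?_⟩
        refine ((π M).apply_symm_apply _).trans (eps_injective U φ M ?_)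
        exact eps_glue U φ M _
    exact Function.Bijective.comp (g := ap (e.inv.app M) V) (f := L0 M) h1 h2

section Step

variable {P U φ} {q : ℕ} (D : Data P U φ q)

/-- The connecting map of the embedding. -/
abbrev dlt (M : ModSite.Mod O) (q : ℕ) :
    (P.rightDerived q).obj (seq M).X₃ ⟶ (P.rightDerived (q + 1)).obj M :=
  (RDerLib.derivedLES P).δ (seq M) (seq_shortExact M) q (q + 1) rfl

/-- The relation of the step. -/
def Lifts (M : ModSite.Mod O) (z : Zc U φ (q + 1) M) (w : (CoF φ U (le_iSup U) (seq M).X₂ q : Type u)) : Prop :=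
  dF φ U (le_iSup U) (seq M).X₂ q w = mapF φ U (le_iSup U) (seq M).f (q + 1) z.1

lemma exists_lifts (M : ModSite.Mod O) (z : Zc U φ (q + 1) M) : ∃ w, Lifts M z w :=
  haveI : Injective (seq M).X₂ := inferInstanceAs (Injective (Injective.under M))
  exists_d_eq_of_injective U φ _ q _ (LinearMap.mem_ker.1 (mapF_mem U φ (seq M).f (q + 1) z))

lemma red_mem {M : ModSite.Mod O} {z : Zc U φ (q + 1) M} {w} (h : Lifts M z w) :
    mapF φ U (le_iSup U) (seq M).g q w ∈ Zc U φ q (seq M).X₃ := by
  rw [LinearMap.mem_ker, ← mapF_dF, h]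
  exact mapF_seq_zero φ U (le_iSup U) M (q + 1) z.1

/-- The value of the step. -/
def stepVal {M : ModSite.Mod O} (hM : AcF U M) {z : Zc U φ (q + 1) M} {w} (h : Lifts M z w) :
    ModSite.sect ((P.rightDerived (q + 1)).obj M) V :=
  ap (dlt M q) V (D.L (seq M).X₃ (acF_seq U hM) ⟨_, red_mem h⟩)

lemma stepVal_eq {M : ModSite.Mod O} (hM : AcF U M) {z : Zc U φ (q + 1) M} {w w'} (h : Lifts M z w)
    (h' : Lifts M z w') : stepVal D hM h = stepVal D hM h' := by
  haveI : Injective (seq M).X₂ := inferInstanceAs (Injective (Injective.under M))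
  have hv : dF φ U (le_iSup U) (seq M).X₂ q (w - w') = 0 :=
    (map_sub (dF φ U (le_iSup U) (seq M).X₂ q) w w').trans (sub_eq_zero.2 (h.trans h'.symm))
  have e : (⟨_, red_mem h⟩ : Zc U φ q (seq M).X₃) = ⟨_, red_mem h'⟩ +
      zmap U φ (seq M).g q ⟨w - w', LinearMap.mem_ker.2 hv⟩ := Subtype.ext (by
    show _ = _ + mapF φ U (le_iSup U) (seq M).g q (w - w')
    rw [map_sub, add_sub_cancel])
  rw [stepVal, e, map_add, map_add, D.nat _ _ (acF_injective U _) (acF_seq U hM), ← RSFin.ap_comp]
  rw [(RDerLib.derivedLES P).comp_δ (seq M) (seq_shortExact M) q (q + 1) rfl, RSFin.ap_zero, add_zero]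
  rfl

/-- The step, as a linear map. -/
def stepL (M : ModSite.Mod O) (hM : AcF U M) :
    Zc U φ (q + 1) M →ₗ[sc O' V] ModSite.sect ((P.rightDerived (q + 1)).obj M) V where
  toFun z := stepVal D hM (exists_lifts M z).choose_spec
  map_add' z z' := by
    have h : Lifts M (z + z') ((exists_lifts M z).choose + (exists_lifts M z').choose) :=
      (map_add _ _ _).trans ((congrArg₂ (· + ·) (exists_lifts M z).choose_spec (exists_lifts M z').choose_spec).trans
        (map_add _ _ _).symm)
    rw [stepVal_eq D hM (exists_lifts M (z + z')).choose_spec h, stepVal, stepVal, stepVal, ← map_add, ← map_add]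
    exact congrArg (fun x => ap (dlt M q) V (D.L _ _ x)) (Subtype.ext (map_add _ _ _))
  map_smul' a z := by
    have h : Lifts M (a • z) (a • (exists_lifts M z).choose) :=
      (map_smul _ _ _).trans ((congrArg (a • ·) (exists_lifts M z).choose_spec).trans (map_smul _ _ _).symm)
    rw [stepVal_eq D hM (exists_lifts M (a • z)).choose_spec h, stepVal, stepVal, RingHom.id_apply, ← map_smul,
      ← map_smul]
    exact congrArg (fun x => ap (dlt M q) V (D.L _ _ x)) (Subtype.ext (map_smul _ _ _))

lemma stepL_eq (M : ModSite.Mod O) (hM : AcF U M) (z : Zc U φ (q + 1) M) {w} (h : Lifts M z w) :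
    stepL D M hM z = stepVal D hM h :=
  stepVal_eq D hM (exists_lifts M z).choose_spec h

/-- The data in the next degree. -/
def step : Data P U φ (q + 1) where
  L := stepL D
  nat M N hM hN f z := by
    obtain ⟨w, hw⟩ := exists_lifts M z
    haveI : Mono (seq M).f := inferInstanceAs (Mono (Injective.ι M))
    haveI : Injective (seq N).X₂ := inferInstanceAs (Injective (Injective.under N))
    let b : (seq M).X₂ ⟶ (seq N).X₂ := Injective.factorThru (f ≫ (seq N).f) (seq M).f
    have hb : (seq M).f ≫ b = f ≫ (seq N).f := Injective.comp_factorThru _ _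
    let c : (seq M).X₃ ⟶ (seq N).X₃ := cokernel.desc _ (b ≫ (seq N).g) (by
      change (seq M).f ≫ b ≫ (seq N).g = 0
      rw [← Category.assoc, hb, Category.assoc, (seq N).zero, comp_zero])
    let Φ : seq M ⟶ seq N := ShortComplex.homMk f b c hb.symm (cokernel.π_desc _ _ _).symm
    have hw' : Lifts N (zmap U φ f (q + 1) z) (mapF φ U (le_iSup U) b q w) := by
      refine (mapF_dF φ U (le_iSup U) b q w).symm.trans ((congrArg _ hw).trans ?_)
      exact (mapF_comp φ U (le_iSup U) (seq M).f b (q + 1) z.1).symm.trans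
        ((congrArg (fun g => mapF φ U (le_iSup U) g (q + 1) z.1) hb).trans rfl)
    rw [stepL_eq D N hN _ hw', stepL_eq D M hM z hw, stepVal, stepVal]
    have e : (⟨_, red_mem hw'⟩ : Zc U φ q (seq N).X₃) = zmap U φ c q ⟨_, red_mem hw⟩ := Subtype.ext
      (congrArg (fun g => mapF φ U (le_iSup U) g q w) Φ.comm₂₃)
    rw [e, D.nat _ _ (acF_seq U hM), ← RSFin.ap_comp, ← RSFin.ap_comp]
    exact congrArg (fun g => ap g V _)
      ((RDerLib.derivedLES P).δ_natural (seq_shortExact M) (seq_shortExact N) Φ q (q + 1) rfl)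

lemma step_L_of_range (M : ModSite.Mod O) (hM : AcF U M) (v : (CoF φ U (le_iSup U) M q : Type u)) :
    (step D).L M hM ⟨_, LinearMap.mem_ker.2 (dF_dF φ U (le_iSup U) M q v)⟩ = 0 := by
  have h : Lifts M ⟨_, LinearMap.mem_ker.2 (dF_dF φ U (le_iSup U) M q v)⟩
      (mapF φ U (le_iSup U) (seq M).f q v) := (mapF_dF φ U (le_iSup U) (seq M).f q v).symm
  refine (stepL_eq D M hM _ h).trans ?_
  rw [stepVal, show (⟨_, red_mem h⟩ : Zc U φ q (seq M).X₃) = 0 from
    Subtype.ext (mapF_seq_zero φ U (le_iSup U) M q v), map_zero, map_zero]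

end Step

/-- Acyclicity of all the derived functors over the open. -/
def Con (M : ModSite.Mod O) (V : Opens Y) : Prop := ∀ j, AcM V ((P.rightDerived j).obj M)

variable (hPI : ∀ (I : ModSite.Mod O) [Injective I], AcM V (P.obj I))

lemma isZero_injective (M : ModSite.Mod O) (j : ℕ) : IsZero ((P.rightDerived (j + 1)).obj (seq M).X₂) :=
  haveI : Injective (seq M).X₂ := inferInstanceAs (Injective (Injective.under M))
  P.isZero_rightDerived_obj_injective_succ j _

lemma epi_dlt (M : ModSite.Mod O) (q : ℕ) : Epi (dlt (P := P) M q) :=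
  ((RDerLib.derivedLES P).exact₁ (seq M) (seq_shortExact M) q (q + 1) rfl).epi_f
    ((isZero_injective P M q).eq_of_tgt _ _)

lemma isIso_dlt (M : ModSite.Mod O) (q : ℕ) : IsIso (dlt (P := P) M (q + 1)) :=
  haveI := epi_dlt P M (q + 1)
  haveI : Mono (dlt (P := P) M (q + 1)) :=
    ((RDerLib.derivedLES P).exact₃ (seq M) (seq_shortExact M) (q + 1) (q + 1 + 1) rfl).mono_g
      ((isZero_injective P M q).eq_of_src _ _)
  isIso_of_mono_of_epi _

lemma ses_low (M : ModSite.Mod O) : ∃ (r : (P.rightDerived 0).obj (seq M).X₂ ⟶ kernel (dlt (P := P) M 0))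
    (w : (P.rightDerived 0).map (seq M).f ≫ r = 0),
    r ≫ kernel.ι (dlt (P := P) M 0) = (P.rightDerived 0).map (seq M).g ∧
      (ShortComplex.mk ((P.rightDerived 0).map (seq M).f) r w).ShortExact := by
  let Δ := RDerLib.derivedLES P
  let hS := seq_shortExact M
  let r := kernel.lift (dlt (P := P) M 0) ((P.rightDerived 0).map (seq M).g) (Δ.comp_δ (seq M) hS 0 1 rfl)
  have hr : r ≫ kernel.ι _ = (P.rightDerived 0).map (seq M).g := kernel.lift_ι _ _ _
  have hz : (P.rightDerived 0).map (seq M).f ≫ (P.rightDerived 0).map (seq M).g = 0 := by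
    rw [← Functor.map_comp, (seq M).zero, Functor.map_zero]
  have w : (P.rightDerived 0).map (seq M).f ≫ r = 0 := by
    rw [← cancel_mono (kernel.ι (dlt (P := P) M 0)), Category.assoc, hr, hz, zero_comp]
  refine ⟨r, w, hr, ?_⟩
  haveI : Mono ((P.rightDerived 0).map (seq M).f) := by
    haveI : Mono (seq M).f := hS.mono_f
    haveI : Mono (P.map (seq M).f) := P.map_mono _
    rw [show (P.rightDerived 0).map (seq M).f = P.rightDerivedZeroIsoSelf.hom.app _ ≫ P.map (seq M).f ≫
      P.rightDerivedZeroIsoSelf.inv.app _ from by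
        rw [← P.rightDerivedZeroIsoSelf.hom.naturality_assoc, Iso.hom_inv_id_app, Category.comp_id]]
    infer_instance
  refine { exact := ?_, mono_f := ‹_›, epi_g := (Δ.exact₃ (seq M) hS 0 1 rfl).epi_kernelLift }
  exact (ShortComplex.exact_iff_of_epi_of_isIso_of_mono
    (S₁ := ShortComplex.mk ((P.rightDerived 0).map (seq M).f) r w)
    (S₂ := ShortComplex.mk _ _ hz)
    { τ₁ := 𝟙 _, τ₂ := 𝟙 _, τ₃ := kernel.ι _, comm₁₂ := by simp, comm₂₃ := by simp [hr] }).2
    (Δ.exact₂ (seq M) hS 0)

include hPI in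
lemma acM_rightDerived_injective (I : ModSite.Mod O) [Injective I] :
    AcM V ((P.rightDerived 0).obj I) :=
  acM_of_iso (P.rightDerivedZeroIsoSelf.app I).symm (hPI I)

include hPI in
lemma acM_kernel_dlt {M : ModSite.Mod O} (hC : Con P M V) : AcM V (kernel (dlt (P := P) M 0)) := by
  haveI : Injective (seq M).X₂ := inferInstanceAs (Injective (Injective.under M))
  obtain ⟨r, w, -, hses⟩ := ses_low P M
  exact acM_X₃ hses (hC 0) (acM_rightDerived_injective P hPI _)

include hPI in
lemma con_seq {M : ModSite.Mod O} (hC : Con P M V) : Con P (seq M).X₃ V := fun j => by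
  cases j with
  | zero =>
    haveI := epi_dlt P M 0
    exact acM_X₂ (S := ShortComplex.mk (kernel.ι (dlt (P := P) M 0)) (dlt M 0) (kernel.condition _))
      { exact := ShortComplex.exact_kernel _ } (acM_kernel_dlt P hPI hC) (hC 1)
  | succ j =>
    haveI := isIso_dlt P M j
    exact acM_of_iso (asIso (dlt (P := P) M (j + 1))).symm (hC (j + 2))

include hPI in
lemma dlt_surjective {M : ModSite.Mod O} (hC : Con P M V) (q : ℕ) :
    Function.Surjective (ap (dlt (P := P) M q) V) := by
  cases q with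
  | zero =>
    haveI := epi_dlt P M 0
    exact ap_surjective (S := ShortComplex.mk (kernel.ι (dlt (P := P) M 0)) (dlt M 0) (kernel.condition _))
      { exact := ShortComplex.exact_kernel _ } (acM_kernel_dlt P hPI hC)
  | succ j =>
    haveI := isIso_dlt P M j
    exact fun y => ⟨ap (inv (dlt (P := P) M (j + 1))) V y, by rw [← RSFin.ap_comp, IsIso.inv_hom_id, RSFin.ap_id]⟩

include hπn hπs hPI in
/-- **Cocycles and sections of derived functors**, linearly and naturally. -/
theorem exists_cmp (q : ℕ) : ∃ D : Data P U φ q,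
    (∀ (M : ModSite.Mod O) (hM : AcF U M) (p : ℕ) (hp : p + 1 = q)
      (v : (CoF φ U (le_iSup U) M p : Type u)) (hv : hp ▸ dF φ U (le_iSup U) M p v ∈ Zc U φ q M),
      D.L M hM ⟨_, hv⟩ = 0) ∧
    (∀ (M : ModSite.Mod O) (hM : AcF U M), Con P M V → Function.Surjective (D.L M hM)) ∧
    (∀ (M : ModSite.Mod O) (hM : AcF U M), Con P M V → ∀ z, D.L M hM z = 0 →
      z.1 = 0 ∨ ∃ (p : ℕ) (hp : p + 1 = q) (v : (CoF φ U (le_iSup U) M p : Type u)),
        hp ▸ dF φ U (le_iSup U) M p v = z.1) := by
  induction q with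
  | zero =>
    obtain ⟨⟨D, hD⟩⟩ := exists_data_zero P U φ π hπn hπs
    exact ⟨D, fun M _ p hp => absurd hp (by omega), fun M hM _ => (hD M hM).2,
      fun M hM _ z hz => Or.inl (congrArg Subtype.val ((hD M hM).1 (hz.trans (map_zero _).symm)))⟩
  | succ q ih =>
    obtain ⟨D, hb, hs, hi⟩ := ih
    refine ⟨step D, fun M hM p hp v hv => ?_, fun M hM hC x => ?_, fun M hM hC z hz => ?_⟩
    · obtain rfl : p = q := by omega
      exact step_L_of_range D M hM v
    · obtain ⟨y, rfl⟩ := dlt_surjective P hPI hC q x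
      obtain ⟨u, rfl⟩ := hs _ (acF_seq U hM) (con_seq P hPI hC) y
      obtain ⟨w, hw⟩ := mapF_surjective φ U (le_iSup U) (seq_shortExact M) hM q u.1
      have h0 : mapF φ U (le_iSup U) (seq M).g (q + 1) (dF φ U (le_iSup U) (seq M).X₂ q w) = 0 := by
        rw [mapF_dF, hw]
        exact LinearMap.mem_ker.1 u.2
      obtain ⟨z, hz⟩ := exists_mapF_eq φ U (le_iSup U) (seq_shortExact M) (q + 1) _ h0
      haveI : Mono (seq M).f := inferInstanceAs (Mono (Injective.ι M))
      have hzc : z ∈ Zc U φ (q + 1) M := by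
        refine LinearMap.mem_ker.2 (mapF_injective φ U (le_iSup U) (seq M).f (q + 1 + 1) ?_)
        rw [mapF_dF, hz, dF_dF, map_zero]
      have hl : Lifts M ⟨z, hzc⟩ w := hz.symm
      refine ⟨⟨z, hzc⟩, (stepL_eq D M hM _ hl).trans ?_⟩
      rw [stepVal]
      exact congrArg (fun t => ap (dlt M q) V (D.L _ _ t)) (Subtype.ext hw)
    · refine Or.inr ⟨q, rfl, ?_⟩
      haveI : Mono (seq M).f := inferInstanceAs (Mono (Injective.ι M))
      haveI : Injective (seq M).X₂ := inferInstanceAs (Injective (Injective.under M))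
      obtain ⟨w, hw⟩ := exists_lifts M z
      have hy : ap (dlt (P := P) M q) V (D.L _ (acF_seq U hM) ⟨_, red_mem hw⟩) = 0 :=
        (stepL_eq D M hM z hw).symm.trans hz
      have key : ∃ w' v'', dF φ U (le_iSup U) (seq M).X₂ q w' = mapF φ U (le_iSup U) (seq M).f (q + 1) z.1 ∧
          w' = mapF φ U (le_iSup U) (seq M).f q v'' := by
        rcases Nat.eq_zero_or_pos q with rfl | hq
        · obtain ⟨r, wr, hr, hses⟩ := ses_low P M
          obtain ⟨b, hb'⟩ := (RSFin.kernel_sections (dlt (P := P) M 0) V).2 _ hy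
          obtain ⟨y', rfl⟩ := ap_surjective hses (hC 0) b
          obtain ⟨⟨D0, hD0⟩⟩ := exists_data_zero P U φ π hπn hπs
          have hyg : ap ((P.rightDerived 0).map (seq M).g) V y' = D.L _ (acF_seq U hM) ⟨_, red_mem hw⟩ := by
            rw [← hr, RSFin.ap_comp]
            exact hb'
          have hCI : Con P (seq M).X₂ V := fun j => by
            cases j with
            | zero => exact acM_rightDerived_injective P hPI _
            | succ j =>
              haveI : Injective ((P.rightDerived (j + 1)).obj (seq M).X₂) := (isZero_injective P M j).injective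
              exact acM_injective _ V
          obtain ⟨w₀, hw₀⟩ := hs _ (acF_injective U _) hCI y'
          have h0 : D.L _ (acF_seq U hM) (⟨_, red_mem hw⟩ - zmap U φ (seq M).g 0 w₀) = 0 := by
            rw [map_sub, D.nat _ _ (acF_injective U _), hw₀, hyg, sub_self]
          rcases hi _ _ (con_seq P hPI hC) _ h0 with h | ⟨p, hp, -⟩
          · have h1 : mapF φ U (le_iSup U) (seq M).g 0 (w - w₀.1) = 0 :=
              (map_sub (mapF φ U (le_iSup U) (seq M).g 0) w w₀.1).trans h
            obtain ⟨v'', hv''⟩ := exists_mapF_eq φ U (le_iSup U) (seq_shortExact M) 0 _ h1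
            refine ⟨w - w₀.1, v'', ?_, hv''.symm⟩
            rw [map_sub, LinearMap.mem_ker.1 w₀.2, sub_zero]
            exact hw
          · omega
        · obtain ⟨j, rfl⟩ : ∃ j, q = j + 1 := ⟨q - 1, by omega⟩
          haveI := isIso_dlt P M j
          have h0 : D.L _ (acF_seq U hM) ⟨_, red_mem hw⟩ = 0 :=
            RSFin.injective_of_mono (dlt (P := P) M (j + 1)) V (hy.trans (map_zero _).symm)
          obtain ⟨v, hv⟩ : ∃ v, dF φ U (le_iSup U) (seq M).X₃ j v =
              mapF φ U (le_iSup U) (seq M).g (j + 1) w := by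
            rcases hi _ _ (con_seq P hPI hC) _ h0 with h | ⟨p, hp, v, hv⟩
            · exact ⟨0, (map_zero _).trans h.symm⟩
            · obtain rfl : p = j := by omega
              exact ⟨v, hv⟩
          obtain ⟨v', rfl⟩ := mapF_surjective φ U (le_iSup U) (seq_shortExact M) hM j v
          have h1 : mapF φ U (le_iSup U) (seq M).g (j + 1) (w - dF φ U (le_iSup U) (seq M).X₂ j v') = 0 := by
            rw [map_sub, mapF_dF, hv, sub_self]
          obtain ⟨v'', hv''⟩ := exists_mapF_eq φ U (le_iSup U) (seq_shortExact M) (j + 1) _ h1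
          refine ⟨_, v'', ?_, hv''.symm⟩
          rw [map_sub, dF_dF, sub_zero]
          exact hw
      obtain ⟨w', v'', h1, rfl⟩ := key
      exact ⟨v'', mapF_injective φ U (le_iSup U) (seq M).f (q + 1) ((mapF_dF φ U (le_iSup U) _ q v'').trans h1)⟩

end Groth.Agent.FSProper.LinCmp
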