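import Groth.Agent.FSProper.Affine
import Groth.Agent.FSProper.LinCmp

/-!
# Sections of higher direct images of coherent modules: finiteness and filtration
-/

set_option autoImplicit false
set_option backward.isDefEq.respectTransparency false
set_option backward.isDefEq.respectTransparency.types false
set_option linter.style.haveILetI false
set_option maxHeartbeats 2000000

universe u

open CategoryTheory CategoryTheory.Limits AlgebraicGeometry TopologicalSpace Opposite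
open Groth.Agent.SiteCoh Groth.Agent.ProjCech
open Groth.Agent.RSFin (sc ap)
open Groth.Agent.FSchCoh (OA pullSys isIso_toReal isCoh_pullSys toReal)

noncomputable section

namespace Groth.Agent.FSProper

namespace LinCmp

variable {X Y : TopCat.{u}} {O : TopCat.Sheaf CommRingCat.{u} X} {O' : TopCat.Sheaf CommRingCat.{u} Y}
  (P : ModSite.Mod O ⥤ ModSite.Mod O') [P.Additive] [PreservesFiniteLimits P]
  [HasInjectiveResolutions (ModSite.Mod O)] [EnoughInjectives (ModSite.Mod O)]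
  {ι : Type u} (U : ι → Opens X) {V : Opens Y} (φ : sc O' V →+* sc O (iSup U))
  (π : ∀ M, ModSite.sect (P.obj M) V ≃+ ModSite.sect M (iSup U))
  (hπn : ∀ (M N : ModSite.Mod O) (f : M ⟶ N) x, π N (ap (P.map f) V x) = ap f (iSup U) (π M x))
  (hπs : ∀ (M : ModSite.Mod O) (a : sc O' V) x, π M (a • x) = φ a • π M x)
  (hPI : ∀ (I : ModSite.Mod O) [Injective I], AcM V (P.obj I))

include hπn hπs hPI in
/-- The comparison, with boundaries as the range of the differential. -/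
theorem exists_cmp' (q : ℕ) : ∃ D : Data P U φ q,
    (∀ M hM (z : Zc U φ q M), (z.1 : ((CF φ U (le_iSup U) M).X q : Type u)) ∈
      LinearMap.range ((CF φ U (le_iSup U) M).d ((ComplexShape.up ℕ).prev q) q).hom → D.L M hM z = 0) ∧
    (∀ M hM, Con P M V → Function.Surjective (D.L M hM)) ∧
    (∀ M hM, Con P M V → ∀ z : Zc U φ q M, D.L M hM z = 0 → (z.1 : ((CF φ U (le_iSup U) M).X q : Type u)) ∈
      LinearMap.range ((CF φ U (le_iSup U) M).d ((ComplexShape.up ℕ).prev q) q).hom) := by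
  obtain ⟨D, hb, hs, hi⟩ := exists_cmp P U φ π hπn hπs hPI q
  refine ⟨D, fun M hM z => ?_, hs, fun M hM hC z hz => ?_⟩
  · cases q with
    | zero =>
      rintro ⟨v, hv⟩
      rw [(CF φ U (le_iSup U) M).shape _ _ (by simp), ModuleCat.hom_zero, LinearMap.zero_apply] at hv
      rw [show z = 0 from Subtype.ext hv.symm, map_zero]
    | succ p =>
      rw [CochainComplex.prev_nat_succ p, CF_d]
      rintro ⟨v, hv⟩
      obtain ⟨z, hz⟩ := z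
      obtain rfl : z = dF φ U (le_iSup U) M p v := hv.symm
      exact hb M hM p rfl v hz
  · rcases hi M hM hC z hz with h | ⟨p, hp, v, hv⟩
    · exact ⟨0, (map_zero _).trans h.symm⟩
    · subst hp
      rw [CochainComplex.prev_nat_succ p, CF_d]
      exact ⟨v, hv⟩

end LinCmp

open LinCmp

variable (𝔛 : FSch.Sys.{u}) (h𝔛 : 𝔛.IsLocNoethFormal) [HasInjectiveResolutions (FSch.ModF 𝔛 h𝔛.1)]
  {Y : TopCat.{u}} {O' : TopCat.Sheaf CommRingCat.{u} Y} {V : Opens Y} [IsNoetherianRing (sc O' V)]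
  {σ : Type u} [Fintype σ] {t : σ → sc O' V} [IsAdicComplete (tI t) (sc O' V)]
  {ι : Type u} [Finite ι] (U : ι → (𝔛.X 0).Opens) {W : (𝔛.X 0).Opens} (hcov : iSup U = W)
  {φ : sc O' V →+* OA 𝔛 h𝔛.1 W}
  (P : FSch.ModF 𝔛 h𝔛.1 ⥤ ModSite.Mod O') [P.Additive] [PreservesFiniteLimits P]
  (π : ∀ M, ModSite.sect (P.obj M) V ≃+ ModSite.sect M W)
  (hπn : ∀ (M N : FSch.ModF 𝔛 h𝔛.1) (f : M ⟶ N) x, π N (ap (P.map f) V x) = ap f W (π M x))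
  (hπs : ∀ (M : FSch.ModF 𝔛 h𝔛.1) (a : sc O' V) x, π M (a • x) = φ a • π M x)
  (hPI : ∀ (I : FSch.ModF 𝔛 h𝔛.1) [Injective I], AcM V (P.obj I))
  (hU : ∀ (n : ℕ) (a : Fin (n + 1) → ι), IsAffineOpen (tupleProd U a))
  (hJ : GensIdeal 𝔛 h𝔛 t φ) (hP : ProperBase 𝔛 h𝔛 φ)
  (F : FSch.ModF 𝔛 h𝔛.1) (hF : FSch.IsCohF 𝔛 h𝔛.1 F) (q : ℕ)
  (hCon : ∀ k, Con P (FL 𝔛 h𝔛 F k) V)
  (hsep : ∀ y : ModSite.sect ((P.rightDerived q).obj F) V,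
    (∀ k, ap ((P.rightDerived q).map (un 𝔛 h𝔛 F k)) V y = 0) → y = 0)

include hcov π hπn hπs hPI hU hJ hP hF hCon hsep in
/-- **Finitely many sections generate, compatibly with the filtration of the levels.** -/
theorem exists_finFil : ∃ (D m : ℕ) (s : Fin m → ModSite.sect ((P.rightDerived q).obj F) V),
    Submodule.span (sc O' V) (Set.range s) = ⊤ ∧
    ∀ n y, ap ((P.rightDerived q).map (un 𝔛 h𝔛 F n)) V y = 0 →
      y ∈ tI t ^ (n + 1 - D) • (⊤ : Submodule (sc O' V) (ModSite.sect ((P.rightDerived q).obj F) V)) := by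
  subst hcov
  haveI : IsGrothendieckAbelian.{u} (FSch.ModF 𝔛 h𝔛.1) := KFlat.isGrothendieck _
  haveI : EnoughInjectives (FSch.ModF 𝔛 h𝔛.1) := inferInstance
  haveI := isIso_toReal h𝔛 hF
  let 𝔐 := pullSys 𝔛 h𝔛.1 F
  have hM : 𝔐.IsCoh := isCoh_pullSys 𝔛 h𝔛.1 F h𝔛 hF
  haveI := fun j => isAdicComplete_CM (φ := φ) (t := t) 𝔛 h𝔛 𝔐 U (le_iSup U) hU hJ hM j
  obtain ⟨Λ, hb, hs, hi⟩ := exists_cmp' (X := (𝔛.X 0).carrier) (O := 𝔛.Osh h𝔛.1) P U φ π hπn hπs hPI q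
  let R := P.rightDerived q
  let M₀ := 𝔐.realMod h𝔛.1
  let e : M₀ ⟶ F := inv (toReal 𝔛 h𝔛.1 F)
  let i := (ComplexShape.up ℕ).prev q
  let J := tI t
  have hac₀ : AcF (X := (𝔛.X 0).carrier) (O := 𝔛.Osh h𝔛.1) U M₀ := acF_realMod 𝔛 h𝔛 U 𝔐 hU hM
  have hac : ∀ k, AcF (X := (𝔛.X 0).carrier) (O := 𝔛.Osh h𝔛.1) U (LF 𝔛 h𝔛 𝔐 k) := acF_LF 𝔛 h𝔛 U 𝔐 hU hM
  have hlp : ∀ k, e ≫ un 𝔛 h𝔛 F k = lp 𝔛 h𝔛 𝔐 k := fun k => (lp_eq 𝔛 h𝔛 F hF k).symm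
  have hsep₀ : ∀ y : ModSite.sect (R.obj M₀) V, (∀ k, ap (R.map (lp 𝔛 h𝔛 𝔐 k)) V y = 0) → y = 0 := fun y hy => by
    have h0 : ap (R.map e) V y = 0 := hsep _ fun k => by
      rw [← RSFin.ap_comp, ← Functor.map_comp, hlp]
      exact hy k
    have h1 := congrArg (ap (R.map (toReal 𝔛 h𝔛.1 F)) V) h0
    rwa [← RSFin.ap_comp, ← Functor.map_comp, IsIso.inv_hom_id, CategoryTheory.Functor.map_id, RSFin.ap_id,
      map_zero] at h1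
  have hzk : ∀ k (x : Zc U φ q M₀), ap (R.map (lp 𝔛 h𝔛 𝔐 k)) V (Λ.L M₀ hac₀ x) =
      Λ.L _ (hac k) (zmap U φ (lp 𝔛 h𝔛 𝔐 k) q x) := fun k x => (Λ.nat _ _ hac₀ (hac k) _ x).symm
  have hcyc : ∀ (M : FSch.ModF 𝔛 h𝔛.1) x, x ∈ Zc (X := (𝔛.X 0).carrier) (O := 𝔛.Osh h𝔛.1) U φ q M ↔
      ((CF (X := (𝔛.X 0).carrier) (O := 𝔛.Osh h𝔛.1) φ U (le_iSup U) M).d q (q + 1)).hom x = 0 := fun M x => by
    rw [LinearMap.mem_ker, CF_d]
    rfl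
  have hsurj : ∀ y : ModSite.sect (R.obj M₀) V, ∃ z, Λ.L M₀ hac₀ z = y := fun y => by
    choose z hz using fun k => hs _ (hac k) (hCon k) (ap (R.map (lp 𝔛 h𝔛 𝔐 k)) V y)
    choose x hx using fun k => cp_surjective 𝔛 h𝔛 U 𝔐 hU hJ hM k q (z k).1
    have hdx : ∀ k, ((CM 𝔛 h𝔛.1 φ 𝔐 U (le_iSup U)).d q (q + 1)).hom (x k) ∈
        fil J ((CM 𝔛 h𝔛.1 φ 𝔐 U (le_iSup U)).X (q + 1) : Type u) (k + 1) := fun k =>
      (cp_eq_zero_iff 𝔛 h𝔛 U 𝔐 hU hJ hM k (q + 1) _).1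
        ((CFmap_comm φ U (le_iSup U) (lp 𝔛 h𝔛 𝔐 k) q (q + 1) _).trans
          ((congrArg _ (hx k)).trans ((hcyc _ _).1 (z k).2)))
    have hcx : ∀ k, x (k + 1) - x k ∈ LinearMap.range ((CM 𝔛 h𝔛.1 φ 𝔐 U (le_iSup U)).d i q).hom ⊔
        fil J ((CM 𝔛 h𝔛.1 φ 𝔐 U (le_iSup U)).X q : Type u) (k + 1) := fun k => by
      let g : LF 𝔛 h𝔛 𝔐 (k + 1) ⟶ LF 𝔛 h𝔛 𝔐 k := FSch.levelTrans 𝔛 h𝔛.1 F k
      have hg : lp 𝔛 h𝔛 𝔐 (k + 1) ≫ g = lp 𝔛 h𝔛 𝔐 k := by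
        rw [← hlp, ← hlp, Category.assoc]
        exact congrArg (e ≫ ·) (FSch.unit_levelTrans 𝔛 h𝔛.1 F k)
      have hgx : mapF (X := (𝔛.X 0).carrier) (O := 𝔛.Osh h𝔛.1) φ U (le_iSup U) g q (z (k + 1)).1 =
          cp 𝔛 h𝔛 U 𝔐 φ k q (x (k + 1)) := by
        rw [← hx (k + 1)]
        refine (CFmap_comp_apply φ U (le_iSup U) (lp 𝔛 h𝔛 𝔐 (k + 1)) g q _).symm.trans ?_
        rw [hg]
      have h2 : Λ.L _ (hac k) (zmap U φ g q (z (k + 1)) - z k) = 0 := by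
        rw [map_sub, Λ.nat _ _ (hac (k + 1)), hz, hz, ← RSFin.ap_comp, ← Functor.map_comp, hg, sub_self]
      obtain ⟨w, hw⟩ := hi _ (hac k) (hCon k) _ h2
      obtain ⟨v, rfl⟩ := cp_surjective 𝔛 h𝔛 U 𝔐 hU hJ hM k _ w
      refine Submodule.mem_sup.2 ⟨_, ⟨v, rfl⟩, _, (cp_eq_zero_iff 𝔛 h𝔛 U 𝔐 hU hJ hM k q _).1 ?_, add_sub_cancel _ _⟩
      have h3 : cp 𝔛 h𝔛 U 𝔐 φ k q (((CM 𝔛 h𝔛.1 φ 𝔐 U (le_iSup U)).d i q).hom v) =
          cp 𝔛 h𝔛 U 𝔐 φ k q (x (k + 1) - x k) := by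
        refine (CFmap_comm φ U (le_iSup U) (lp 𝔛 h𝔛 𝔐 k) _ q v).trans (hw.trans ?_)
        rw [map_sub, ← hgx, hx k]
        rfl
      exact (map_sub _ _ _).trans (sub_eq_zero.2 h3.symm)
    obtain ⟨y₀, hy₀, hyx⟩ := exists_cocycle_of_compatible (J := J)
      (d := ((CM 𝔛 h𝔛.1 φ 𝔐 U (le_iSup U)).d i q).hom)
      (d' := ((CM 𝔛 h𝔛.1 φ 𝔐 U (le_iSup U)).d q (q + 1)).hom)
      ((CM 𝔛 h𝔛.1 φ 𝔐 U (le_iSup U)).d (q + 1) (q + 1 + 1)).hom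
      (congrArg ModuleCat.Hom.hom ((CM 𝔛 h𝔛.1 φ 𝔐 U (le_iSup U)).d_comp_d q (q + 1) (q + 1 + 1)))
      (grFin_CM 𝔛 h𝔛 𝔐 U (le_iSup U) hU hJ hM rfl hP q (q + 1) (q + 1 + 1)
        (CochainComplex.prev_nat_succ q) (CochainComplex.next ℕ (q + 1))) x hdx hcx
      (congrArg ModuleCat.Hom.hom ((CM 𝔛 h𝔛.1 φ 𝔐 U (le_iSup U)).d_comp_d _ q (q + 1)))
    refine ⟨⟨y₀, (hcyc _ _).2 hy₀⟩, sub_eq_zero.1 (hsep₀ _ fun k => ?_)⟩
    rw [map_sub, hzk, ← hz k, ← map_sub]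
    refine hb _ (hac k) _ ?_
    obtain ⟨-, ⟨v, rfl⟩, b, hb', hab⟩ := Submodule.mem_sup.1 (hyx k)
    refine ⟨cp 𝔛 h𝔛 U 𝔐 φ k _ v, (CFmap_comm φ U (le_iSup U) (lp 𝔛 h𝔛 𝔐 k) _ q v).symm.trans ?_⟩
    refine ((add_zero _).symm.trans ((congrArg (_ + ·) ((cp_eq_zero_iff 𝔛 h𝔛 U 𝔐 hU hJ hM k q b).2 hb').symm).trans
      (map_add _ _ _).symm)).trans ?_
    rw [hab, map_sub, hx k]
    rfl
  obtain ⟨D, κ, hκ, g, hg, hgen⟩ := exists_generators (J := J)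
    (d := ((CM 𝔛 h𝔛.1 φ 𝔐 U (le_iSup U)).d i q).hom)
    (d' := ((CM 𝔛 h𝔛.1 φ 𝔐 U (le_iSup U)).d q (q + 1)).hom)
    (congrArg ModuleCat.Hom.hom ((CM 𝔛 h𝔛.1 φ 𝔐 U (le_iSup U)).d_comp_d _ q (q + 1)))
    (grFin_CM 𝔛 h𝔛 𝔐 U (le_iSup U) hU hJ hM rfl hP _ q (q + 1) rfl (CochainComplex.next ℕ q))
  let gz : κ → Zc (X := (𝔛.X 0).carrier) (O := 𝔛.Osh h𝔛.1) U φ q M₀ := fun j => ⟨g j, (hcyc _ _).2 (hg j)⟩
  let S₀ : Submodule (sc O' V) (ModSite.sect (R.obj M₀) V) := Submodule.span _ (Set.range fun j => Λ.L M₀ hac₀ (gz j))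
  have key : ∀ (n : ℕ) (z : Zc (X := (𝔛.X 0).carrier) (O := 𝔛.Osh h𝔛.1) U φ q M₀) (w : ((CM 𝔛 h𝔛.1 φ 𝔐 U (le_iSup U)).X i : Type u)),
      (show ((CM 𝔛 h𝔛.1 φ 𝔐 U (le_iSup U)).X q : Type u) from z.1) - ((CM 𝔛 h𝔛.1 φ 𝔐 U (le_iSup U)).d i q).hom w ∈
        fil J ((CM 𝔛 h𝔛.1 φ 𝔐 U (le_iSup U)).X q : Type u) n →
      Λ.L M₀ hac₀ z ∈ J ^ (n - D) • S₀ := fun n z w hzw => by
    have h1 : ((CM 𝔛 h𝔛.1 φ 𝔐 U (le_iSup U)).d q (q + 1)).hom (((CM 𝔛 h𝔛.1 φ 𝔐 U (le_iSup U)).d i q).hom w) = 0 :=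
      LinearMap.congr_fun (congrArg ModuleCat.Hom.hom ((CM 𝔛 h𝔛.1 φ 𝔐 U (le_iSup U)).d_comp_d i q (q + 1))) w
    obtain ⟨b, hb', -, ⟨v, -, rfl⟩, hsum⟩ := Submodule.mem_sup.1 (hgen n ⟨LinearMap.mem_ker.2
      ((map_sub _ _ _).trans (by rw [(hcyc _ _).1 z.2, h1, sub_zero])), hzw⟩)
    have hmap : J ^ (n - D) • Submodule.span (sc O' V) (Set.range g) =
        (J ^ (n - D) • Submodule.span (sc O' V) (Set.range gz)).map
          (Zc (X := (𝔛.X 0).carrier) (O := 𝔛.Osh h𝔛.1) U φ q M₀).subtype := by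
      rw [Submodule.map_smul'', Submodule.map_span, ← Set.range_comp]
      rfl
    rw [hmap] at hb'
    obtain ⟨b', hb', rfl⟩ := hb'
    have hzb : Λ.L M₀ hac₀ z = Λ.L M₀ hac₀ b' := by
      refine sub_eq_zero.1 ((map_sub _ _ _).symm.trans (hb _ hac₀ _ ⟨w + v, ?_⟩))
      refine (map_add _ w v).trans ?_
      change _ = z.1 - b'.1
      have h3 := eq_sub_iff_add_eq.1 hsum
      refine eq_sub_of_add_eq (Eq.trans ?_ h3)
      exact (add_comm _ _).trans ((add_assoc _ _ _).symm.trans (add_right_comm _ _ _))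
    rw [hzb]
    have h2 : (J ^ (n - D) • Submodule.span (sc O' V) (Set.range gz)).map (Λ.L M₀ hac₀) = J ^ (n - D) • S₀ := by
      rw [Submodule.map_smul'', Submodule.map_span, ← Set.range_comp]
      rfl
    exact h2 ▸ ⟨b', hb', rfl⟩
  haveI := hκ
  let ee := (Fintype.equivFin κ).symm
  let s : Fin (Fintype.card κ) → ModSite.sect (R.obj F) V := fun j => ap (R.map e) V (Λ.L M₀ hac₀ (gz (ee j)))
  have hS : S₀.map (ap (R.map e) V) = Submodule.span (sc O' V) (Set.range s) := by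
    rw [Submodule.map_span, ← Set.range_comp, show s = (fun j => ap (R.map e) V (Λ.L M₀ hac₀ (gz j))) ∘ ee from rfl,
      ee.surjective.range_comp]
    rfl
  have hback : ∀ y : ModSite.sect (R.obj F) V, ap (R.map e) V (ap (R.map (toReal 𝔛 h𝔛.1 F)) V y) = y := fun y => by
    rw [← RSFin.ap_comp, ← Functor.map_comp, IsIso.hom_inv_id, CategoryTheory.Functor.map_id, RSFin.ap_id]
  refine ⟨D, Fintype.card κ, s, eq_top_iff.2 fun y _ => ?_, fun n y hy => ?_⟩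
  · obtain ⟨z, hz⟩ := hsurj (ap (R.map (toReal 𝔛 h𝔛.1 F)) V y)
    have h0 := key 0 z 0 (by rw [fil_zero]; trivial)
    rw [Nat.zero_sub, pow_zero, Ideal.one_eq_top, Submodule.top_smul] at h0
    rw [← hback y, ← hz, ← hS]
    exact ⟨_, h0, rfl⟩
  · obtain ⟨z, hz⟩ := hsurj (ap (R.map (toReal 𝔛 h𝔛.1 F)) V y)
    have h0 : Λ.L _ (hac n) (zmap U φ (lp 𝔛 h𝔛 𝔐 n) q z) = 0 := by
      rw [← hzk, hz, ← RSFin.ap_comp, ← Functor.map_comp, toReal_lp]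
      exact hy
    obtain ⟨w, hw⟩ := hi _ (hac n) (hCon n) _ h0
    obtain ⟨v, rfl⟩ := cp_surjective 𝔛 h𝔛 U 𝔐 hU hJ hM n _ w
    have h1 := key (n + 1) z v ((cp_eq_zero_iff 𝔛 h𝔛 U 𝔐 hU hJ hM n q _).1 ((map_sub _ _ _).trans
      (sub_eq_zero.2 (hw.symm.trans (CFmap_comm φ U (le_iSup U) (lp 𝔛 h𝔛 𝔐 n) _ q v).symm))))
    have h2 : ap (R.map e) V (Λ.L M₀ hac₀ z) ∈ (J ^ (n + 1 - D) • S₀).map (ap (R.map e) V) := ⟨_, h1, rfl⟩
    rw [hz, hback, Submodule.map_smul''] at h2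
    exact Submodule.smul_mono le_rfl le_top h2

end Groth.Agent.FSProper
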