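import Groth.Agent.FSProper.Affine
import Groth.Agent.FSProper.FinSect
import Groth.Agent.W7Rees.Finite
import Groth.Agent.CohQC.CechVanish

/-!
# Čech complexes of coherent modules over the inverse image of an affine open of the base: Artin–Rees
-/

set_option autoImplicit false
set_option backward.isDefEq.respectTransparency false
set_option backward.isDefEq.respectTransparency.types false
set_option linter.style.haveILetI false
set_option maxHeartbeats 2000000

universe u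

open CategoryTheory CategoryTheory.Limits AlgebraicGeometry TopologicalSpace Opposite
open Groth.Agent.SiteCoh Groth.Agent.ProjCech
open Groth.Agent.RSFin (sc ap)
open Groth.Agent.QC (res resO res_res res_smul res_self)

noncomputable section

namespace Groth.Agent.FSProper

section AR

variable {A : Type u} [CommRing A] (I : Ideal A) {P Q R P' Q' R' : Type u} [AddCommGroup P] [AddCommGroup Q]
  [AddCommGroup R] [AddCommGroup P'] [AddCommGroup Q'] [AddCommGroup R'] [Module A P] [Module A Q] [Module A R]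
  [Module A P'] [Module A Q'] [Module A R']

/-- Deep cocycles are multiples of cocycles modulo coboundaries. -/
def ARKer (f : P →ₗ[A] Q) (g : Q →ₗ[A] R) : Prop :=
  ∃ c : ℕ, ∀ k, c ≤ k → ∀ r : ℕ,
    (I ^ (k + r) • ⊤ : Submodule A Q) ⊓ LinearMap.ker g ≤ I ^ r • LinearMap.ker g ⊔ LinearMap.range f

/-- Deep coboundaries are coboundaries of deep cochains. -/
def ARRange (f : P →ₗ[A] Q) : Prop :=
  ∃ c : ℕ, ∀ k, c ≤ k → (I ^ k • ⊤ : Submodule A Q) ⊓ LinearMap.range f ≤ (I ^ (k - c) • ⊤ : Submodule A P).map f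

theorem arKer_of_reesFinite {f : P →ₗ[A] Q} {g : Q →ₗ[A] R} (h : W7Rees.ReesFinite I f g) : ARKer I f g := by
  obtain ⟨c, hc⟩ := W7Rees.exists_mem_smul_ker h
  exact ⟨c, fun k hk r => (hc k hk r).trans (sup_le_sup (Submodule.smul_mono le_rfl inf_le_right)
    (LinearMap.map_le_range))⟩

theorem arRange_of_reesFinite {f : P →ₗ[A] Q} {g : Q →ₗ[A] R} (hgf : g ∘ₗ f = 0) (h : W7Rees.ReesFinite I f g) :
    ARRange I f :=
  W7Rees.exists_mem_map_of_range hgf h

lemma mem_smul_top_of_equiv (e : Q ≃ₗ[A] Q') (n : ℕ) {x : Q} (h : x ∈ (I ^ n • ⊤ : Submodule A Q)) :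
    e x ∈ (I ^ n • ⊤ : Submodule A Q') := by
  have := Submodule.mem_map_of_mem (f := e.toLinearMap) h
  rwa [Submodule.map_smul'', Submodule.map_top, LinearMap.range_eq_top.2 e.surjective] at this

theorem arKer_of_equiv (eP : P ≃ₗ[A] P') (eQ : Q ≃ₗ[A] Q') (eR : R ≃ₗ[A] R') {f : P →ₗ[A] Q} {g : Q →ₗ[A] R}
    {f' : P' →ₗ[A] Q'} {g' : Q' →ₗ[A] R'} (hf : ∀ x, eQ (f x) = f' (eP x)) (hg : ∀ x, eR (g x) = g' (eQ x))
    (h : ARKer I f' g') : ARKer I f g := by
  obtain ⟨c, hc⟩ := h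
  refine ⟨c, fun k hk r x hx => ?_⟩
  have hker : (LinearMap.ker g').map eQ.symm.toLinearMap = LinearMap.ker g := by
    ext z
    rw [Submodule.map_equiv_eq_comap_symm, Submodule.mem_comap, LinearMap.mem_ker, LinearMap.mem_ker]
    change g' (eQ z) = 0 ↔ g z = 0
    rw [← hg, LinearEquiv.map_eq_zero_iff]
  have h1 := hc k hk r (x := eQ x) ⟨mem_smul_top_of_equiv I eQ _ hx.1, LinearMap.mem_ker.2 (by
    rw [← hg, show g x = 0 from hx.2, map_zero])⟩
  have h2 := Submodule.mem_map_of_mem (f := eQ.symm.toLinearMap) h1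
  rw [Submodule.map_sup, Submodule.map_smul'', hker] at h2
  rw [LinearEquiv.coe_coe, LinearEquiv.symm_apply_apply] at h2
  refine SetLike.le_def.1 (sup_le_sup le_rfl ?_) h2
  rintro _ ⟨_, ⟨v, rfl⟩, rfl⟩
  refine ⟨eP.symm v, eQ.injective ?_⟩
  rw [hf, LinearEquiv.apply_symm_apply, LinearEquiv.coe_coe, LinearEquiv.apply_symm_apply]

theorem arRange_of_equiv (eP : P ≃ₗ[A] P') (eQ : Q ≃ₗ[A] Q') {f : P →ₗ[A] Q} {f' : P' →ₗ[A] Q'}
    (hf : ∀ x, eQ (f x) = f' (eP x)) (h : ARRange I f') : ARRange I f := by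
  obtain ⟨c, hc⟩ := h
  refine ⟨c, fun k hk x hx => ?_⟩
  obtain ⟨y, rfl⟩ := hx.2
  obtain ⟨b, hb, hfb⟩ := hc k hk ⟨mem_smul_top_of_equiv I eQ _ hx.1, ⟨eP y, (hf y).symm⟩⟩
  exact ⟨eP.symm b, mem_smul_top_of_equiv I eP.symm _ hb, eQ.injective (by
    rw [hf (eP.symm b), LinearEquiv.apply_symm_apply]; exact hfb)⟩

end AR

section Alg

variable {X Y : Scheme.{u}} (f : X ⟶ Y) {V : Y.Opens} {ι : Type u} (U : ι → X.Opens) (hcov : iSup U = f ⁻¹ᵁ V)

/-- The scalars over the union of the cover. -/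
abbrev phiS : Γ(Y, V) →+* sc (X := X.carrier) X.sheaf (iSup U) :=
  (resO X hcov.le).comp (f.app V).hom

lemma scl_phiS {T : X.Opens} (e : T ≤ iSup U) (e' : T ≤ f ⁻¹ᵁ V) (a : Γ(Y, V)) :
    scl (X := X.carrier) (O := X.sheaf) (phiS f U hcov) e a = resO X e' (f.app V a) :=
  QC.resO_resO e hcov.le (f.app V a)

/-- The inverse image over the affine open as a scheme over it. -/
abbrev preOver (hV : IsAffineOpen V) : (f ⁻¹ᵁ V).toScheme.Over (Spec (CommRingCat.of Γ(Y, V))) :=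
  ⟨(f ∣_ V) ≫ hV.isoSpec.hom⟩

variable (hV : IsAffineOpen V)

lemma toGlobal_preOver (a : Γ(Y, V)) :
    letI := preOver f hV
    Coh.toGlobal ((f ⁻¹ᵁ V).toScheme ↘ Spec (CommRingCat.of Γ(Y, V))) a =
      (f ∣_ V).appTop (V.topIso.inv a) := by
  letI := preOver f hV
  change ((f ∣_ V) ≫ hV.isoSpec.hom).appTop ((Scheme.ΓSpecIso (CommRingCat.of Γ(Y, V))).inv a) = _
  rw [Scheme.Hom.comp_appTop]
  refine congrArg (f ∣_ V).appTop ?_
  rw [IsAffineOpen.isoSpec_hom_appTop]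
  exact congrArg V.topIso.inv (ConcreteCategory.congr_hom (Scheme.ΓSpecIso Γ(Y, V)).inv_hom_id a)

lemma secRing_pre (O : (f ⁻¹ᵁ V).toScheme.Opens) (a : Γ(Y, V)) :
    letI := preOver f hV
    W7Cech.secRing Γ(Y, V) O a = resO X ((f ⁻¹ᵁ V).ι_image_le O) (f.app V a) := by
  letI := preOver f hV
  have hVtop : V.ι ''ᵁ ⊤ = V := by rw [Scheme.Hom.image_top_eq_opensRange, Scheme.Opens.opensRange_ι]
  have hca : resO Y hVtop.ge (V.topIso.inv a) = a := by
    refine Eq.trans ?_ ((QC.resO_resO hVtop.ge hVtop.le a).trans (QC.resO_self le_rfl a))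
    rfl
  change resO (f ⁻¹ᵁ V).toScheme (le_top : O ≤ ⊤) (Coh.toGlobal ((f ⁻¹ᵁ V).toScheme ↘ Spec (CommRingCat.of Γ(Y, V))) a) = _
  rw [toGlobal_preOver f hV, morphismRestrict_appTop]
  conv_rhs => rw [← hca]
  change X.presheaf.map _ (X.presheaf.map _ (f.app _ (V.topIso.inv a))) =
    X.presheaf.map _ (f.app V (Y.presheaf.map _ (V.topIso.inv a)))
  refine Eq.trans ?_ (congrArg (X.presheaf.map (homOfLE ((f ⁻¹ᵁ V).ι_image_le O)).op)
    (ConcreteCategory.congr_hom (f.naturality (homOfLE hVtop.ge).op) (V.topIso.inv a))).symm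
  change (X.presheaf.map _ ≫ X.presheaf.map _).hom _ = (X.presheaf.map _ ≫ X.presheaf.map _).hom _
  rw [← Functor.map_comp, ← Functor.map_comp]
  rfl

/-- The cover restricted. -/
abbrev preU : ι → (f ⁻¹ᵁ V).toScheme.Opens := fun i => (f ⁻¹ᵁ V).ι ⁻¹ᵁ U i

include hcov in
lemma image_preU {n : ℕ} (a : Fin (n + 1) → ι) :
    (f ⁻¹ᵁ V).ι ''ᵁ tupleProd (preU f (V := V) U) a = tupleProd U a := by
  have h : tupleProd (preU f (V := V) U) a = (f ⁻¹ᵁ V).ι ⁻¹ᵁ tupleProd U a :=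
    (CechX.preimage_tupleProd (f ⁻¹ᵁ V).ι.base U a).symm
  rw [h, Scheme.Hom.image_preimage_eq_opensRange_inf, Scheme.Opens.opensRange_ι,
    inf_eq_right.2 ((tupleProd_le' U (le_iSup U) a).trans hcov.le)]

variable (F : X.Modules)

/-- Cochains over the cover are the cochains of the restriction. -/
def preEquiv (n : ℕ) :
    letI := preOver f hV
    (CoF (X := X.carrier) (O := X.sheaf) (phiS f U hcov) U (le_iSup U) F n : Type u) ≃ₗ[Γ(Y, V)]
      (W7Cech.CoX Γ(Y, V) (preU f (V := V) U) (F.restrict (f ⁻¹ᵁ V).ι) n : Type u) :=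
  letI := preOver f hV
  { toFun := fun x a => (res F (image_preU f U hcov a).le (show Γ(F, tupleProd U a) from x a) :)
    invFun := fun y a => (res F (image_preU f U hcov a).ge
      (show Γ(F, (f ⁻¹ᵁ V).ι ''ᵁ tupleProd (preU f (V := V) U) a) from y a) :)
    left_inv := fun x => funext fun a => (res_res F _ _ _).trans (res_self F le_rfl _)
    right_inv := fun y => funext fun a => (res_res F _ _ _).trans (res_self F le_rfl _)
    map_add' := fun x y => funext fun a => map_add (res F (image_preU f U hcov a).le) _ _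
    map_smul' := fun r x => funext fun a => by
      refine (res_smul F (image_preU f U hcov a).le (scl (X := X.carrier) (O := X.sheaf) (phiS f U hcov)
        (tupleProd_le' U (le_iSup U) a) r) _).trans ?_
      refine congrArg (fun c : Γ(X, (f ⁻¹ᵁ V).ι ''ᵁ tupleProd (preU f (V := V) U) a) =>
        c • res F (image_preU f U hcov a).le (show Γ(F, tupleProd U a) from x a)) ?_
      have hid : ∀ z, ((f ⁻¹ᵁ V).ι.appIso (tupleProd (preU f (V := V) U) a)).inv.hom z = z := fun z => by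
        rw [Scheme.Opens.ι_appIso]
        rfl
      refine Eq.trans ?_ ((hid _).trans (secRing_pre f hV _ r)).symm
      rw [scl_phiS f U hcov _ ((tupleProd_le' U (le_iSup U) a).trans hcov.le)]
      exact QC.resO_resO _ _ _ }

lemma preEquiv_d (n : ℕ) (x : (CoF (X := X.carrier) (O := X.sheaf) (phiS f U hcov) U (le_iSup U) F n : Type u)) :
    letI := preOver f hV
    preEquiv f U hcov hV F (n + 1) (dF (X := X.carrier) (O := X.sheaf) (phiS f U hcov) U (le_iSup U) F n x) =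
      W7Cech.dL Γ(Y, V) (preU f (V := V) U) (F.restrict (f ⁻¹ᵁ V).ι) n (preEquiv f U hcov hV F n x) := by
  letI := preOver f hV
  funext a
  change res F (image_preU f U hcov a).le
      (cd U (PF (X := X.carrier) (O := X.sheaf) F) (n := n) x a) =
    cd (preU f (V := V) U) (W7Cech.PSec (F.restrict (f ⁻¹ᵁ V).ι)) (n := n) (preEquiv f U hcov hV F n x) a
  rw [cd_sum, cd_sum, map_sum]
  refine Finset.sum_congr rfl fun k _ => ?_
  rw [map_zsmul]
  refine congrArg _ ?_
  change res F _ (res F (leOfHom (tupleDrop U a k)) (show Γ(F, tupleProd U (a ∘ k.succAbove)) from x _)) =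
    res F ((f ⁻¹ᵁ V).ι.image_mono (leOfHom (tupleDrop (preU f (V := V) U) a k)))
      (res F (image_preU f U hcov (a ∘ k.succAbove)).le (show Γ(F, tupleProd U (a ∘ k.succAbove)) from x _))
  rw [res_res, res_res]

variable {I : Ideal Γ(Y, V)} [IsLocallyNoetherian Y] [IsProper f]
  (hU : ∀ (n : ℕ) (a : Fin (n + 1) → ι), IsAffineOpen (tupleProd U a)) [Finite ι] (hF : Coh.IsCoh F)

include hcov hV hU hF in
/-- **Artin–Rees for the Čech complex over the inverse image of an affine open.** -/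
theorem exists_ar_cech (I : Ideal Γ(Y, V)) (q : ℕ) :
    ARKer I ((CF (X := X.carrier) (O := X.sheaf) (phiS f U hcov) U (le_iSup U) F).d ((ComplexShape.up ℕ).prev q) q).hom
      ((CF (X := X.carrier) (O := X.sheaf) (phiS f U hcov) U (le_iSup U) F).d q (q + 1)).hom ∧
    ARRange I (dF (X := X.carrier) (O := X.sheaf) (phiS f U hcov) U (le_iSup U) F q) := by
  letI := preOver f hV
  haveI := IsLocallyNoetherian.component_noetherian (X := Y) ⟨V, hV⟩
  haveI : IsProper ((f ⁻¹ᵁ V).toScheme ↘ Spec (CommRingCat.of Γ(Y, V))) :=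
    inferInstanceAs (IsProper ((f ∣_ V) ≫ hV.isoSpec.hom))
  have hU' : ∀ (n : ℕ) (a : Fin (n + 1) → ι), IsAffineOpen (tupleProd (preU f (V := V) U) a) := fun n a => by
    rw [← Scheme.Hom.isAffineOpen_iff_of_isOpenImmersion (f ⁻¹ᵁ V).ι, image_preU f U hcov a]
    exact hU n a
  have hcov' : iSup (preU f (V := V) U) = ⊤ := by
    refine eq_top_iff.2 fun x _ => ?_
    obtain ⟨i, hi⟩ := Opens.mem_iSup.1 (hcov.ge x.2)
    exact Opens.mem_iSup.2 ⟨i, hi⟩
  have hF' : Coh.IsCoh (F.restrict (f ⁻¹ᵁ V).ι) := CohFinite.isCoh_of_iso ((Scheme.Modules.restrictFunctorIsoPullback (f ⁻¹ᵁ V).ι).app F).symm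
    (QC.isCoh_pullback (f ⁻¹ᵁ V).ι hF)
  let CX := (W7Cech.CC Γ(Y, V) (preU f (V := V) U)).obj (F.restrict (f ⁻¹ᵁ V).ι)
  let CA := CF (X := X.carrier) (O := X.sheaf) (phiS f U hcov) U (le_iSup U) F
  let e := preEquiv f U hcov hV F
  have hd : ∀ i j x, e j ((CA.d i j).hom x) = (CX.d i j).hom (e i x) := fun i j x => by
    by_cases h : (ComplexShape.up ℕ).Rel i j
    · obtain rfl : i + 1 = j := h
      rw [CF_d, W7Cech.CC_d]
      exact preEquiv_d f U hcov hV F i x
    · rw [HomologicalComplex.shape _ _ _ h, HomologicalComplex.shape _ _ _ h]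
      exact map_zero _
  have hfin := fun p k hk i hi => W7Rees.reesFinite_cech I (F.restrict (f ⁻¹ᵁ V).ι) (preU f (V := V) U) hU' hcov' hF'
    i p k hi hk
  refine ⟨arKer_of_equiv I (e _) (e q) (e (q + 1)) (hd _ q) (hd q (q + 1))
    (arKer_of_reesFinite I (hfin q (q + 1) (CochainComplex.next ℕ q) _ rfl)), ?_⟩
  have h1 : ARRange I (CA.d q (q + 1)).hom := arRange_of_equiv I (e q) (e (q + 1)) (hd q (q + 1))
    (arRange_of_reesFinite I (congrArg ModuleCat.Hom.hom (CX.d_comp_d q (q + 1) (q + 1 + 1)))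
      (hfin (q + 1) (q + 1 + 1) (CochainComplex.next ℕ (q + 1)) q (CochainComplex.prev_nat_succ q)))
  rw [CF_d] at h1
  exact h1

end Alg

section Abs

open LinCmp

variable {X Y : TopCat.{u}} {O : TopCat.Sheaf CommRingCat.{u} X} {O' : TopCat.Sheaf CommRingCat.{u} Y}
  {P : ModSite.Mod O ⥤ ModSite.Mod O'} [P.Additive] [PreservesFiniteLimits P]
  [HasInjectiveResolutions (ModSite.Mod O)] [EnoughInjectives (ModSite.Mod O)]
  {ι : Type u} {U : ι → Opens X} {V : Opens Y} {φ : sc O' V →+* sc O (iSup U)} {q : ℕ} (D : Data P U φ q)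
  (I : Ideal (sc O' V))
  {M : ModSite.Mod O} (hM : AcF U M)
  (hb : ∀ (z : Zc U φ q M), (z.1 : ((CF φ U (le_iSup U) M).X q : Type u)) ∈
    LinearMap.range ((CF φ U (le_iSup U) M).d ((ComplexShape.up ℕ).prev q) q).hom → D.L M hM z = 0)
  (hs : Function.Surjective (D.L M hM))

include hb hs in
/-- Classes dying in a quotient by a power of the ideal are divisible. -/
theorem mem_smul_of_dies (hAR : ARKer I ((CF φ U (le_iSup U) M).d ((ComplexShape.up ℕ).prev q) q).hom
      ((CF φ U (le_iSup U) M).d q (q + 1)).hom) :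
    ∃ c : ℕ, ∀ (n : ℕ) (N : ModSite.Mod O) (u : M ⟶ N) (hN : AcF U N),
      (∀ z : Zc U φ q N, D.L N hN z = 0 → (z.1 : ((CF φ U (le_iSup U) N).X q : Type u)) ∈
        LinearMap.range ((CF φ U (le_iSup U) N).d ((ComplexShape.up ℕ).prev q) q).hom) →
      (∀ j, Function.Surjective (mapF φ U (le_iSup U) u j)) →
      (∀ x, mapF φ U (le_iSup U) u q x = 0 → x ∈ (I ^ n • ⊤ : Submodule (sc O' V) (CoF φ U (le_iSup U) M q : Type u))) →
      ∀ a, ap ((P.rightDerived q).map u) V a = 0 →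
        a ∈ (I ^ (n - c) • ⊤ : Submodule (sc O' V) (ModSite.sect ((P.rightDerived q).obj M) V)) := by
  obtain ⟨c, hc⟩ := hAR
  refine ⟨c, fun n N u hN hi husurj huker a ha => ?_⟩
  rcases le_or_gt n c with hnc | hnc
  · rw [Nat.sub_eq_zero_of_le hnc, pow_zero, Ideal.one_eq_top, Submodule.top_smul]
    exact Submodule.mem_top
  obtain ⟨z, rfl⟩ := hs a
  have h0 : D.L N hN (zmap U φ u q z) = 0 := (D.nat M N hM hN u z).trans ha
  obtain ⟨w, hw⟩ := hi _ h0
  obtain ⟨w', rfl⟩ := husurj _ w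
  let d : (CoF φ U (le_iSup U) M ((ComplexShape.up ℕ).prev q) : Type u) →ₗ[sc O' V] (CoF φ U (le_iSup U) M q : Type u) :=
    ((CF φ U (le_iSup U) M).d ((ComplexShape.up ℕ).prev q) q).hom
  let g : (CoF φ U (le_iSup U) M q : Type u) →ₗ[sc O' V] (CoF φ U (le_iSup U) M (q + 1) : Type u) :=
    ((CF φ U (le_iSup U) M).d q (q + 1)).hom
  have hcomm : mapF φ U (le_iSup U) u q (d w') =
      ((CF φ U (le_iSup U) N).d ((ComplexShape.up ℕ).prev q) q).hom (mapF φ U (le_iSup U) u _ w') :=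
    (CFmap_comm φ U (le_iSup U) u _ q w')
  have hg : LinearMap.ker g = Zc U φ q M := by
    ext x
    rw [LinearMap.mem_ker, LinearMap.mem_ker]
    change ((CF φ U (le_iSup U) M).d q (q + 1)).hom x = 0 ↔ _
    rw [CF_d]
    rfl
  have hgd : g (d w') = 0 :=
    LinearMap.congr_fun (congrArg ModuleCat.Hom.hom ((CF φ U (le_iSup U) M).d_comp_d _ q (q + 1))) w'
  have hzd : z.1 - d w' ∈ (I ^ n • ⊤ : Submodule _ _) ⊓ LinearMap.ker g := by
    refine ⟨huker _ ?_, LinearMap.mem_ker.2 ?_⟩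
    · rw [map_sub, hcomm, hw]
      exact sub_self _
    · rw [map_sub, hgd, sub_zero]
      exact LinearMap.mem_ker.1 (hg.ge z.2)
  have h1 : z.1 - d w' ∈ I ^ (n - c) • LinearMap.ker g ⊔ LinearMap.range d :=
    hc c le_rfl (n - c) (x := z.1 - d w') (by rwa [Nat.add_sub_cancel' hnc.le])
  obtain ⟨b, hb', _, ⟨v, rfl⟩, hsum⟩ := Submodule.mem_sup.1 h1
  rw [hg] at hb'
  have hmap : I ^ (n - c) • Zc U φ q M = (I ^ (n - c) • (⊤ : Submodule _ (Zc U φ q M))).map (Zc U φ q M).subtype := by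
    rw [Submodule.map_smul'', Submodule.map_top, Submodule.range_subtype]
  rw [hmap] at hb'
  obtain ⟨b', hb', rfl⟩ := hb'
  have hzb : D.L M hM z = D.L M hM b' := by
    refine sub_eq_zero.1 ((map_sub _ _ _).symm.trans (hb _ ⟨w' + v, ?_⟩))
    change d (w' + v) = z.1 - b'.1
    rw [map_add, eq_sub_iff_add_eq]
    refine Eq.trans ?_ (eq_add_of_sub_eq hsum.symm).symm
    change d w' + d v + b'.1 = b'.1 + d v + d w'
    abel
  rw [hzb]
  have h2 : (I ^ (n - c) • (⊤ : Submodule _ (Zc U φ q M))).map (D.L M hM) ≤ I ^ (n - c) • ⊤ := by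
    rw [Submodule.map_smul'']
    exact Submodule.smul_mono le_rfl le_top
  exact h2 ⟨b', hb', rfl⟩

include hM in
/-- Classes coming from far away lift. -/
theorem exists_lift_of_far (hAR : ARRange I (dF φ U (le_iSup U) M q)) :
    ∃ c : ℕ, ∀ (n : ℕ) (N N' : ModSite.Mod O) (u : M ⟶ N) (u' : M ⟶ N') (hN : AcF U N) (hN' : AcF U N') (τ : N' ⟶ N),
      u' ≫ τ = u → Function.Surjective (D.L N' hN') →
      Function.Surjective (mapF φ U (le_iSup U) u' q) →
      (∀ x, mapF φ U (le_iSup U) u' (q + 1) x = 0 →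
        x ∈ (I ^ (n + c) • ⊤ : Submodule (sc O' V) (CoF φ U (le_iSup U) M (q + 1) : Type u))) →
      (∀ x ∈ (I ^ n • ⊤ : Submodule (sc O' V) (CoF φ U (le_iSup U) M q : Type u)), mapF φ U (le_iSup U) u q x = 0) →
      ∀ b, ∃ a, ap ((P.rightDerived q).map u) V a = ap ((P.rightDerived q).map τ) V b := by
  obtain ⟨c, hc⟩ := hAR
  refine ⟨c, fun n N N' u u' hN hN' τ hτ hs' husurj huker hukill b => ?_⟩
  obtain ⟨z, rfl⟩ := hs' b
  obtain ⟨x, hx⟩ := husurj z.1
  have h1 : dF φ U (le_iSup U) M q x ∈ (I ^ (n + c) • ⊤ : Submodule _ _) ⊓ LinearMap.range (dF φ U (le_iSup U) M q) :=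
    ⟨huker _ (by rw [mapF_dF, hx]; exact LinearMap.mem_ker.1 z.2), _, rfl⟩
  obtain ⟨w, hw, hdw⟩ := hc (n + c) (Nat.le_add_left c n) h1
  rw [Nat.add_sub_cancel] at hw
  let z' : Zc U φ q M := ⟨x - w, LinearMap.mem_ker.2 (by rw [map_sub, hdw, sub_self])⟩
  refine ⟨D.L M hM z', ?_⟩
  rw [← D.nat M N hM hN, ← D.nat N' N hN' hN]
  refine congrArg (D.L N hN) (Subtype.ext ?_)
  change mapF φ U (le_iSup U) u q (x - w) = mapF φ U (le_iSup U) τ q z.1
  rw [map_sub, hukill w hw, sub_zero, ← hx, ← hτ, mapF_comp]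

end Abs

end Groth.Agent.FSProper
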