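import Groth.Agent.FSProper.Sheafy
import Groth.Agent.FSchCoh.Basis

/-!
# Higher direct images of a coherent module are the limits of those of its levels
-/

set_option autoImplicit false
set_option backward.isDefEq.respectTransparency false
set_option backward.isDefEq.respectTransparency.types false
set_option linter.style.haveILetI false
set_option maxHeartbeats 1000000

universe u

open CategoryTheory CategoryTheory.Limits AlgebraicGeometry TopologicalSpace Opposite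
open Groth.Agent.SiteCoh Groth.Agent.ProjCech
open Groth.Agent.RSFin (ap)
open Groth.Agent.FSchCoh (OA RA projR pullSys isIso_toReal isCoh_pullSys toReal)

noncomputable section

namespace Groth.Agent.FSProper

section Seq

variable {C D : Type*} [Category C] [Category D]

lemma tr_ofOpSequence_map (H : C ⥤ D) {Z : ℕ → C} (s : ∀ k, Z (k + 1) ⟶ Z k) {a b : ℕ} (h : a ≤ b) :
    ARSys.tr (Functor.ofOpSequence (X := fun k => H.obj (Z k)) fun k => H.map (s k)) h =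
      H.map (ARSys.tr (Functor.ofOpSequence (X := Z) s) h) := by
  let G := Functor.ofOpSequence (X := fun k => H.obj (Z k)) fun k => H.map (s k)
  let S := Functor.ofOpSequence (X := Z) s
  induction b, h using Nat.le_induction with
  | base => exact (G.map_id _).trans ((H.map_id _).symm.trans (congrArg H.map (S.map_id _).symm))
  | succ b hb ih =>
    have eG : ARSys.tr G (Nat.le_succ_of_le hb) = G.map (homOfLE (Nat.le_add_right b 1)).op ≫ ARSys.tr G hb :=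
      (congrArg G.map (Subsingleton.elim _ _)).trans (G.map_comp _ _)
    have eS : ARSys.tr S (Nat.le_succ_of_le hb) = S.map (homOfLE (Nat.le_add_right b 1)).op ≫ ARSys.tr S hb :=
      (congrArg S.map (Subsingleton.elim _ _)).trans (S.map_comp _ _)
    refine eG.trans ((?_ : _ = _).trans (congrArg H.map eS).symm)
    rw [Functor.ofOpSequence_map_homOfLE_succ, Functor.ofOpSequence_map_homOfLE_succ, ih, H.map_comp]

lemma cone_tr {T : C} {Z : ℕ → C} (s : ∀ k, Z (k + 1) ⟶ Z k) (η : ∀ k, T ⟶ Z k)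
    (hη : ∀ k, η (k + 1) ≫ s k = η k) {a b : ℕ} (h : a ≤ b) :
    η b ≫ ARSys.tr (Functor.ofOpSequence (X := Z) s) h = η a := by
  let S := Functor.ofOpSequence (X := Z) s
  induction b, h using Nat.le_induction with
  | base => exact (congrArg (η a ≫ ·) (S.map_id _)).trans (Category.comp_id _)
  | succ b hb ih =>
    have e : ARSys.tr S (Nat.le_succ_of_le hb) = S.map (homOfLE (Nat.le_add_right b 1)).op ≫ ARSys.tr S hb :=
      (congrArg S.map (Subsingleton.elim _ _)).trans (S.map_comp _ _)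
    refine (congrArg (η (b + 1) ≫ ·) e).trans ?_
    rw [Functor.ofOpSequence_map_homOfLE_succ, ← Category.assoc, hη]
    exact ih

end Seq

section Unit

variable {C : Type*} [Category C] {Y : TopCat.{u}} (H : C ⥤ TopCat.Presheaf AddCommGrpCat.{u} Y)
  (R : C ⥤ Sheaf (Opens.grothendieckTopology Y) AddCommGrpCat.{u})
  (e : R ≅ H ⋙ presheafToSheaf (Opens.grothendieckTopology Y) AddCommGrpCat.{u}) {M : C}
  {S : Sheaf (Opens.grothendieckTopology Y) AddCommGrpCat.{u}}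

lemma unitPre_ext (φ : R.obj M ⟶ S) (h : unitPre H R e M ≫ φ.hom = 0) : φ = 0 := by
  rw [← cancel_epi (e.inv.app M), comp_zero]
  refine Sheaf.hom_ext (sheafify_hom_ext _ _ _ S.property ?_)
  rw [unitPre, Category.assoc] at h
  exact h.trans comp_zero.symm

lemma isIso_of_unitPre (φ : R.obj M ⟶ S)
    (h : (Opens.grothendieckTopology Y).W (unitPre H R e M ≫ φ.hom)) : IsIso φ := by
  rw [unitPre, Category.assoc] at h
  haveI : IsIso (e.inv.app M ≫ φ) := (GrothendieckTopology.W_sheafToPresheaf_map_iff_isIso _ _).1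
    (MorphismProperty.of_precomp _ _ _ (GrothendieckTopology.W_toSheafify _ _) h)
  exact IsIso.of_isIso_comp_left (e.inv.app M) φ

end Unit

variable {𝔛 𝔜 : FSch.Sys.{u}} (h𝔛 : 𝔛.IsLocNoethFormal) (h𝔜 : 𝔜.IsLocNoethFormal) (f : 𝔛 ⟶ 𝔜)
  (hf : FSch.IsProperHom f) [HasInjectiveResolutions (FSch.ModF 𝔛 h𝔛.1)] (F : FSch.ModF 𝔛 h𝔛.1)
  (hF : FSch.IsCohF 𝔛 h𝔛.1 F) (q : ℕ)

/-- The system of higher direct images of the levels. -/
abbrev RSys : ℕᵒᵖ ⥤ FSch.ModF 𝔜 h𝔜.1 :=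
  Functor.ofOpSequence (X := fun k => (FSch.RpushF f h𝔛.1 h𝔜.1 q).obj (FL 𝔛 h𝔛 F k))
    (fun k => (FSch.RpushF f h𝔛.1 h𝔜.1 q).map (FSch.levelTrans 𝔛 h𝔛.1 F k))

/-- The system of the levels. -/
abbrev FSys : ℕᵒᵖ ⥤ FSch.ModF 𝔛 h𝔛.1 :=
  Functor.ofOpSequence (X := fun k => FL 𝔛 h𝔛 F k) (FSch.levelTrans 𝔛 h𝔛.1 F)

lemma rUn_levelTrans (k : ℕ) :
    (FSch.RpushF f h𝔛.1 h𝔜.1 q).map (un 𝔛 h𝔛 F (k + 1)) ≫
      (FSch.RpushF f h𝔛.1 h𝔜.1 q).map (FSch.levelTrans 𝔛 h𝔛.1 F k) =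
    (FSch.RpushF f h𝔛.1 h𝔜.1 q).map (un 𝔛 h𝔛 F k) := by
  rw [← Functor.map_comp]
  exact congrArg (FSch.RpushF f h𝔛.1 h𝔜.1 q).map (FSch.unit_levelTrans 𝔛 h𝔛.1 F k)

lemma RSys_tr {a b : ℕ} (h : a ≤ b) :
    ARSys.tr (RSys h𝔛 h𝔜 f F q) h = (FSch.RpushF f h𝔛.1 h𝔜.1 q).map (ARSys.tr (FSys h𝔛 F) h) :=
  tr_ofOpSequence_map (C := FSch.ModF 𝔛 h𝔛.1) (D := FSch.ModF 𝔜 h𝔜.1) (FSch.RpushF f h𝔛.1 h𝔜.1 q)
    (Z := fun k => FL 𝔛 h𝔛 F k) (FSch.levelTrans 𝔛 h𝔛.1 F) h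

include h𝔜 hf hF in
theorem exists_uniform {V : (𝔜.X 0).Opens} (hV : IsAffineOpen V) :
    ∃ D : ℕ, ∀ (g : OA 𝔜 h𝔜.1 V) (n m : ℕ), n + D ≤ m →
      ∀ tr : FL 𝔛 h𝔛 F m ⟶ FL 𝔛 h𝔛 F n, un 𝔛 h𝔛 F m ≫ tr = un 𝔛 h𝔛 F n →
      ∀ c, ∃ y, hum (X := (𝔛.X 0).carrier) (O := 𝔛.Osh h𝔛.1) (Wof f (bop 𝔜 h𝔜 g)) tr q c =
        hum (X := (𝔛.X 0).carrier) (O := 𝔛.Osh h𝔛.1) (Wof f (bop 𝔜 h𝔜 g)) (un 𝔛 h𝔛 F n) q y := by
  haveI := (FSchCoh.main 𝔜 h𝔜.1 h𝔜 hV).1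
  obtain ⟨σ, _, t, ι, _, U, -, hcov, hU, hJ, hP⟩ := exists_setting_base h𝔛 h𝔜 f V hf hV
  obtain ⟨D, hD⟩ := ml_coh_basic 𝔛 h𝔛 U hcov hU hJ hP F hF q
  exact ⟨D, fun g => hD g _ (Wof_bop h𝔛 h𝔜 f V g)⟩

set_option maxHeartbeats 4000000 in
include hf hF in
theorem isML_rpush [CompactSpace (𝔜.X 0)] : ARSys.IsML (RSys h𝔛 h𝔜 f F q) := by
  let R := FSch.RpushF f h𝔛.1 h𝔜.1 q
  obtain ⟨ι, hι, V, hV, -, hcov⟩ := QC.exists_finite_affine_cover (X := 𝔜.X 0) (W := ⊤)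
    (by simpa using isCompact_univ)
  choose D hD using fun i => exists_uniform h𝔛 h𝔜 f hf F hF q (hV i)
  refine isML_of_cone _ (fun k => R.map (un 𝔛 h𝔛 F k))
    (fun n m h => cone_tr _ (fun k => R.map (un 𝔛 h𝔛 F k)) (rUn_levelTrans h𝔛 h𝔜 f F q) h) fun n => ?_
  obtain ⟨r, hr⟩ : ∃ r, ∀ i, D i ≤ r := ⟨Finset.univ.sup D, fun i => Finset.le_sup (Finset.mem_univ i)⟩
  refine ⟨r, ?_⟩
  have e : ARSys.tr (RSys h𝔛 h𝔜 f F q) (Nat.le_add_right n r) = R.map (ARSys.tr (FSys h𝔛 F) (Nat.le_add_right n r)) :=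
    RSys_tr h𝔛 h𝔜 f F q (Nat.le_add_right n r)
  refine (congrArg (· ≫ cokernel.π (R.map (un 𝔛 h𝔛 F n))) e).trans ?_
  let tr := ARSys.tr (FSys h𝔛 F) (Nat.le_add_right n r)
  let π := cokernel.π (R.map (un 𝔛 h𝔛 F n))
  let T' := SheafOfModules.toSheaf.{u} (ModSite.ringSh (𝔜.Osh h𝔜.1))
  refine T'.map_injective ?_
  rw [Functor.map_zero]
  refine unitPre_ext (Y := TopCat.of (𝔜.X 0)) _ _ (thetaIso h𝔛 h𝔜 f q) _ ?_
  change thetaPre h𝔛 h𝔜 f q (FL 𝔛 h𝔛 F (n + r)) ≫ (T'.map (R.map tr ≫ π)).hom = 0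
  refine NatTrans.ext (funext fun V' => ConcreteCategory.hom_ext _ _ fun c => ?_)
  change ap π V'.unop (ap (R.map tr) V'.unop (theta h𝔛 h𝔜 f q _ V'.unop c)) = 0
  refine FSchCoh.sect_ext fun y hy => ?_
  obtain ⟨i, hi⟩ := hcov y trivial
  have hyL : y ∈ 𝔜.lvU h𝔜.1 0 (V i) := (FormBlow.lvU_zero h𝔜.1 (V i)).ge hi
  obtain ⟨β, hβ, hyβ⟩ := (FSchAff.isAffineOpen_lvU 𝔜 h𝔜.1 (hV i) 0).exists_basicOpen_le (V := V'.unop)
    ⟨y, hy⟩ hyL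
  obtain ⟨g, rfl⟩ := FSchCoh.projR_surjective 𝔜 h𝔜.1 (hV i) 0 β
  refine ⟨bop 𝔜 h𝔜 g, hβ, hyβ, ?_⟩
  let B := bop 𝔜 h𝔜 g
  change RSFin.rs _ hβ (ap π V'.unop (ap (R.map tr) V'.unop (theta h𝔛 h𝔜 f q _ V'.unop c))) =
    RSFin.rs _ hβ 0
  rw [map_zero, ← RSFin.ap_rs]
  refine (congrArg (ap π B) (RSFin.ap_rs (R.map tr) hβ
    (theta h𝔛 h𝔜 f q (FL 𝔛 h𝔛 F (n + r)) V'.unop c)).symm).trans ?_
  have hres : RSFin.rs _ hβ (theta h𝔛 h𝔜 f q (FL 𝔛 h𝔛 F (n + r)) V'.unop c) =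
      theta h𝔛 h𝔜 f q _ B (((PH (f0 f) q).obj (ModSite.toAb (FL 𝔛 h𝔛 F (n + r)))).map (homOfLE hβ).op c) :=
    (NatTrans.naturality_apply (thetaPre h𝔛 h𝔜 f q (FL 𝔛 h𝔛 F (n + r))) (homOfLE hβ).op c).symm
  refine (congrArg (fun z => ap π B (ap (R.map tr) B z)) hres).trans ?_
  refine (congrArg (ap π B) (theta_natural h𝔛 h𝔜 f q tr B _).symm).trans ?_
  obtain ⟨z, hz⟩ := hD i g n (n + r) (Nat.add_le_add_left (hr i) n) tr
    (cone_tr _ (fun k => un 𝔛 h𝔛 F k) (fun k => FSch.unit_levelTrans 𝔛 h𝔛.1 F k) (Nat.le_add_right n r))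
    (((PH (f0 f) q).obj (ModSite.toAb (FL 𝔛 h𝔛 F (n + r)))).map (homOfLE hβ).op c)
  refine (congrArg (fun w => ap π B (theta h𝔛 h𝔜 f q (FL 𝔛 h𝔛 F n) B w)) hz).trans ?_
  refine (congrArg (ap π B) (theta_natural h𝔛 h𝔜 f q (un 𝔛 h𝔛 F n) B z)).trans ?_
  exact congrArg (fun ψ => ap ψ B (theta h𝔛 h𝔜 f q F B z)) (cokernel.condition (R.map (un 𝔛 h𝔛 F n)))

/-- The cone of the units. -/
def rCone : Cone (RSys h𝔛 h𝔜 f F q) where
  pt := (FSch.RpushF f h𝔛.1 h𝔜.1 q).obj F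
  π := NatTrans.ofOpSequence (fun k => (FSch.RpushF f h𝔛.1 h𝔜.1 q).map (un 𝔛 h𝔛 F k)) fun k => by
    rw [Functor.ofOpSequence_map_homOfLE_succ, Functor.const_obj_map]
    exact (Category.id_comp _).trans (rUn_levelTrans h𝔛 h𝔜 f F q k).symm

/-- The functor of sections. -/
abbrev sectM (V : (𝔜.X 0).Opens) : FSch.ModF 𝔜 h𝔜.1 ⥤ Type u :=
  SheafOfModules.toSheaf.{u} (ModSite.ringSh (𝔜.Osh h𝔜.1)) ⋙ sheafToPresheaf _ _ ⋙
    (CategoryTheory.evaluation _ _).obj (op V) ⋙ forget AddCommGrpCat.{u}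

include hf hF in
theorem isIso_lift_rCone : IsIso (limit.lift _ (rCone h𝔛 h𝔜 f F q)) := by
  let R := FSch.RpushF f h𝔛.1 h𝔜.1 q
  let G := RSys h𝔛 h𝔜 f F q
  let T' := SheafOfModules.toSheaf.{u} (ModSite.ringSh (𝔜.Osh h𝔜.1))
  let L : R.obj F ⟶ limit G := limit.lift G (rCone h𝔛 h𝔜 f F q)
  haveI := FSchCoh.preservesLimitsOfShape_toAb 𝔜 h𝔜.1
  have hπ : ∀ V c k, ap (limit.π G (op k)) V (ap L V (theta h𝔛 h𝔜 f q F V c)) =
      theta h𝔛 h𝔜 f q _ V (hum (X := (𝔛.X 0).carrier) (O := 𝔛.Osh h𝔛.1) (Wof f V) (un 𝔛 h𝔛 F k) q c) :=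
    fun V c k => ((RSFin.ap_comp L (limit.π G (op k)) V _).symm.trans
      (congrArg (fun ψ => ap ψ V (theta h𝔛 h𝔜 f q F V c)) (limit.lift_π (rCone h𝔛 h𝔜 f F q) (op k)))).trans
      (theta_natural h𝔛 h𝔜 f q (un 𝔛 h𝔛 F k) V c).symm
  have hbij : ∀ V ∈ {V : (𝔜.X 0).Opens | IsAffineOpen V},
      Function.Bijective ((thetaPre h𝔛 h𝔜 f q F ≫ (T'.map L).hom).app (op V)) := fun V hV => by
    haveI := (FSchCoh.main 𝔜 h𝔜.1 h𝔜 hV).1
    obtain ⟨σ, _, t, ι, _, U, -, hcov, hU, hJ, hP⟩ := exists_setting_base h𝔛 h𝔜 f V hf hV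
    have hlev : ∀ k, Function.Bijective (theta h𝔛 h𝔜 f q (FL 𝔛 h𝔛 F k) V) := fun k =>
      theta_bijective_level h𝔛 h𝔜 f q hf k _ (isCoh_pullSys 𝔛 h𝔛.1 F h𝔛 hF k) hV
    have hlim := isLimitOfPreserves (sectM h𝔜 V) (limit.isLimit G)
    constructor
    · refine (injective_iff_map_eq_zero _).2 fun c hc => ?_
      refine hu_coh_eq_zero 𝔛 h𝔛 U hcov hU hJ hP F hF q c fun k => (hlev k).1 ?_
      refine (hπ V c k).symm.trans ?_
      refine (congrArg (ap (limit.π G (op k)) V) ?_).trans ((map_zero _).trans (map_zero _).symm)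
      exact hc
    · intro x
      choose c hc using fun k => (hlev k).2 (ap (limit.π G (op k)) V x)
      obtain ⟨y, hy⟩ := exists_hu_coh 𝔛 h𝔛 U hcov hU hJ hP F hF q c fun k => (hlev k).1 (by
        rw [theta_natural, hc, hc]
        refine (RSFin.ap_comp (limit.π G (op (k + 1))) (R.map (FSch.levelTrans 𝔛 h𝔛.1 F k)) V x).symm.trans ?_
        refine congrArg (fun ψ => ap ψ V x) ?_
        refine Eq.trans ?_ (limit.w G (homOfLE (Nat.le_add_right k 1)).op)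
        rw [Functor.ofOpSequence_map_homOfLE_succ])
      refine ⟨y, FSchCoh.seq_ext hlim fun k => ?_⟩
      change ap (limit.π G (op k)) V (ap L V (theta h𝔛 h𝔜 f q F V y)) = ap (limit.π G (op k)) V x
      rw [hπ, hy k, hc]
  have hW := W_of_bijective_basis (Scheme.isBasis_affineOpens (𝔜.X 0))
    (thetaPre h𝔛 h𝔜 f q F ≫ (T'.map L).hom) hbij
  haveI : IsIso (T'.map L) := isIso_of_unitPre (Y := TopCat.of (𝔜.X 0)) _ _ (thetaIso h𝔛 h𝔜 f q) _ hW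
  exact isIso_of_reflects_iso L T'

include hf hF in
theorem exists_iso_limit : ∃ e : (FSch.RpushF f h𝔛.1 h𝔜.1 q).obj F ≅ limit (RSys h𝔛 h𝔜 f F q),
    ∀ k : ℕ, e.hom ≫ limit.π (RSys h𝔛 h𝔜 f F q) (op k) = (FSch.RpushF f h𝔛.1 h𝔜.1 q).map (un 𝔛 h𝔛 F k) := by
  haveI := isIso_lift_rCone h𝔛 h𝔜 f hf F hF q
  exact ⟨asIso (limit.lift _ (rCone h𝔛 h𝔜 f F q)), fun k => limit.lift_π _ _⟩

end Groth.Agent.FSProper
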