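import Groth.Agent.FSProper.AlgCx
import Groth.Agent.FSProper.RpushLim
import Groth.Agent.FSchCoh.Compare
import Groth.Agent.FSchCoh.ComplExact
import Groth.Agent.FSchCoh.RpushVanish
import Groth.Agent.RPushQC.Main
import Groth.Agent.FpqcDescent.IdealGlue
import Groth.Agent.QC.Pullback
import Groth.Prelude.Def_FSch6

/-!
# Sections of higher direct images of a coherent module and of its reductions modulo powers of an ideal
-/

set_option autoImplicit false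
set_option backward.isDefEq.respectTransparency false
set_option backward.isDefEq.respectTransparency.types false
set_option linter.style.haveILetI false
set_option maxHeartbeats 2000000

universe u

open CategoryTheory CategoryTheory.Limits AlgebraicGeometry TopologicalSpace Opposite
open Groth.Agent.SiteCoh Groth.Agent.ProjCech
open Groth.Agent.RSFin (sc ap)
open Groth.Agent.QC (res resO res_res res_smul res_self)

noncomputable section

namespace Groth.Agent.FSProper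

/-- Divisibility seen over a ring of scalars is that over the ring. -/
lemma mem_smul_iff_of_compHom {A B M : Type u} [CommRing A] [CommRing B] [AddCommGroup M] [Module B M] [Module A M]
    (ψ : A →+* B) (h : ∀ (a : A) (m : M), a • m = ψ a • m) (J : Ideal A) (m : M) :
    m ∈ (J • ⊤ : Submodule A M) ↔ m ∈ (J.map ψ • ⊤ : Submodule B M) := by
  letI : Algebra A B := ψ.toAlgebra
  haveI : IsScalarTower A B M := ⟨fun a b x => by
    rw [Algebra.smul_def, mul_smul, h a (b • x)]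
    rfl⟩
  exact Set.ext_iff.1 (FSchCoh.ker_comp_equiv_smul (R := B) J M) m

section Reduction

variable {Z : Scheme.{u}} (𝓙 : Z.IdealSheafData) (hZ : (FSch.completionAlong Z 𝓙).IsLocNoethFormal) (F : Z.Modules)

/-- The morphism from the completion. -/
abbrev toZ : ModSite.RMor ((FSch.completionAlong Z 𝓙).Osh hZ.1) Z.sheaf :=
  FSch.toSchemeMor (FSch.completionAlong Z 𝓙) hZ.1 (FSch.completionToX Z 𝓙) (FSch.completionToX_comm Z 𝓙)

/-- The completed module. -/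
abbrev cplF : FSch.ModF (FSch.completionAlong Z 𝓙) hZ.1 := (toZ 𝓙 hZ).pull.obj F

/-- The reduction of the module modulo a power of the ideal, on the scheme. -/
abbrev MK (k : ℕ) : Z.Modules :=
  (toZ 𝓙 hZ).push.obj (FL (FSch.completionAlong Z 𝓙) hZ (cplF 𝓙 hZ F) k)

/-- The map to the reduction. -/
def uK (k : ℕ) : F ⟶ MK 𝓙 hZ F k :=
  (toZ 𝓙 hZ).adj.unit.app F ≫ (toZ 𝓙 hZ).push.map (un (FSch.completionAlong Z 𝓙) hZ (cplF 𝓙 hZ F) k)

/-- The identification of the reduction. -/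
abbrev lvK (k : ℕ) :=
  (toZ 𝓙 hZ).push.map ((FSch.levelMor (FSch.completionAlong Z 𝓙) hZ.1 k).push.map
    ((FSchCoh.lvlPullIso (FSch.completionAlong Z 𝓙) hZ.1 (FSch.completionToX Z 𝓙) (FSch.completionToX_comm Z 𝓙) k).hom.app F))

lemma cmpK_homEquiv (k : ℕ) :
    (toZ 𝓙 hZ).adj.unit.app F ≫ (toZ 𝓙 hZ).push.map
        (FSchCoh.cmpK (FSch.completionAlong Z 𝓙) hZ.1 (FSch.completionToX Z 𝓙) (FSch.completionToX_comm Z 𝓙) F k) =
      (Scheme.Modules.pullbackPushforwardAdjunction (FSch.completionToX Z 𝓙 k)).unit.app F ≫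
        (FSch.schPushCompare (FSch.completionAlong Z 𝓙) hZ.1 (FSch.completionToX Z 𝓙)
          (FSch.completionToX_comm Z 𝓙) k).app _ :=
  ((toZ 𝓙 hZ).adj.homEquiv_unit _ _ _).symm.trans (((toZ 𝓙 hZ).adj.homEquiv _ _).apply_symm_apply _)

lemma uK_lvK (k : ℕ) :
    uK 𝓙 hZ F k ≫ lvK 𝓙 hZ F k =
      (toZ 𝓙 hZ).adj.unit.app F ≫ (toZ 𝓙 hZ).push.map
        (FSchCoh.cmpK (FSch.completionAlong Z 𝓙) hZ.1 (FSch.completionToX Z 𝓙) (FSch.completionToX_comm Z 𝓙) F k) := by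
  rw [FSchCoh.cmpK_eq, uK, Category.assoc, ← Functor.map_comp]

lemma ap_cmpK (k : ℕ) (W : Z.Opens) (m : Γ(F, W)) :
    ap (X := (FSch.completionAlong Z 𝓙).X 0) (O := (FSch.completionAlong Z 𝓙).Osh hZ.1)
        (FSchCoh.cmpK (FSch.completionAlong Z 𝓙) hZ.1 (FSch.completionToX Z 𝓙) (FSch.completionToX_comm Z 𝓙) F k)
        (FSch.completionToX Z 𝓙 0 ⁻¹ᵁ W) (ap ((toZ 𝓙 hZ).adj.unit.app F) W m) =
      FSchCoh.gS (FSch.completionAlong Z 𝓙) (FSch.completionToX Z 𝓙) (FSch.completionToX_comm Z 𝓙) hZ.1 F W k m :=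
  congrArg (fun ψ => ap (X := Z.carrier) (O := Z.sheaf) ψ W m) (cmpK_homEquiv 𝓙 hZ F k)

lemma ap_uK (k : ℕ) (W : Z.Opens) (m : Γ(F, W)) :
    ap (lvK 𝓙 hZ F k) W (ap (uK 𝓙 hZ F k) W m) =
      FSchCoh.gS (FSch.completionAlong Z 𝓙) (FSch.completionToX Z 𝓙) (FSch.completionToX_comm Z 𝓙) hZ.1 F W k m :=
  (congrArg (fun ψ => ap (X := Z.carrier) (O := Z.sheaf) ψ W m) (uK_lvK 𝓙 hZ F k)).trans (ap_cmpK 𝓙 hZ F k W m)

lemma lvK_bijective (k : ℕ) (W : Z.Opens) : Function.Bijective (ap (lvK 𝓙 hZ F k) W) := by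
  haveI : IsIso (lvK 𝓙 hZ F k) := inferInstance
  exact ⟨RSFin.injective_of_mono (lvK 𝓙 hZ F k) W, fun x => ⟨ap (inv (lvK 𝓙 hZ F k)) W x, by
    rw [← RSFin.ap_comp, IsIso.inv_hom_id, RSFin.ap_id]⟩⟩

variable {F} (hF : Coh.IsQCoh F) {W : Z.Opens} (hW : IsAffineOpen W)

include hF hW in
lemma uK_surjective (k : ℕ) : Function.Surjective (ap (uK 𝓙 hZ F k) W) := fun y => by
  obtain ⟨m, hm⟩ := FSchCoh.gS_surjective (FSch.completionAlong Z 𝓙) (FSch.completionToX Z 𝓙)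
    (FSch.completionToX_comm Z 𝓙) hZ.1 F W hF hW k (ap (lvK 𝓙 hZ F k) W y)
  exact ⟨m, (lvK_bijective 𝓙 hZ F k W).1 ((ap_uK 𝓙 hZ F k W m).trans hm)⟩

include hF in
lemma gS_eq_zero_iff' (k : ℕ) (m : Γ(F, W)) :
    FSchCoh.gS (FSch.completionAlong Z 𝓙) (FSch.completionToX Z 𝓙) (FSch.completionToX_comm Z 𝓙) hZ.1 F W k m = 0 ↔
      m ∈ ((𝓙.ideal ⟨W, hW⟩) ^ (k + 1) • ⊤ : Submodule Γ(Z, W) Γ(F, W)) := by
  rw [FSchCoh.gS_eq_zero_iff (FSch.completionAlong Z 𝓙) (FSch.completionToX Z 𝓙)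
    (FSch.completionToX_comm Z 𝓙) hZ.1 F W hF hW, FSchCoh.ker_completionToX 𝓙 hW]

include hF in
lemma uK_eq_zero_iff (k : ℕ) (m : Γ(F, W)) :
    ap (uK 𝓙 hZ F k) W m = 0 ↔ m ∈ ((𝓙.ideal ⟨W, hW⟩) ^ (k + 1) • ⊤ : Submodule Γ(Z, W) Γ(F, W)) := by
  rw [← gS_eq_zero_iff' 𝓙 hZ hF hW, ← ap_uK]
  exact ⟨fun h => by rw [h, map_zero], fun h => (lvK_bijective 𝓙 hZ F k W).1 (h.trans (map_zero _).symm)⟩

include hF in
lemma isQCoh_MK (k : ℕ) : Coh.IsQCoh (MK 𝓙 hZ F k) := by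
  haveI : ((Scheme.Modules.pullback (FSch.completionToX Z 𝓙 k)).obj F).IsQuasicoherent := QC.isQCoh_pullback _ hF
  exact QC.isQCoh_of_iso
    ((FSchCoh.spcIso (FSch.completionAlong Z 𝓙) hZ.1 (FSch.completionToX Z 𝓙) (FSch.completionToX_comm Z 𝓙) k).app _ ≪≫
      (asIso (lvK 𝓙 hZ F k)).symm)
    (QC.isQCoh_pushforward (FSch.completionToX Z 𝓙 k) (M := (Scheme.Modules.pullback (FSch.completionToX Z 𝓙 k)).obj F))

variable (F) in
lemma uK_tr {a b : ℕ} (h : a ≤ b) :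
    uK 𝓙 hZ F b ≫ (toZ 𝓙 hZ).push.map (ARSys.tr (FSys hZ (cplF 𝓙 hZ F)) h) = uK 𝓙 hZ F a := by
  rw [uK, Category.assoc, ← Functor.map_comp]
  exact congrArg (fun t => (toZ 𝓙 hZ).adj.unit.app F ≫ (toZ 𝓙 hZ).push.map t)
    (cone_tr _ (fun k => un (FSch.completionAlong Z 𝓙) hZ (cplF 𝓙 hZ F) k)
      (fun k => FSch.unit_levelTrans (FSch.completionAlong Z 𝓙) hZ.1 (cplF 𝓙 hZ F) k) h)

end Reduction

section Est

variable {X Y : Scheme.{u}} (f : X ⟶ Y) (𝓘 : Y.IdealSheafData) (𝓚 : X.IdealSheafData) (h𝓚 : 𝓚 = 𝓘.comap f)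
  {V : Y.Opens} (hV : IsAffineOpen V) {ι : Type u} (U : ι → X.Opens) (hcov : iSup U = f ⁻¹ᵁ V)
  (F : X.Modules)

include h𝓚 in
/-- Divisibility over an affine open of the inverse image. -/
lemma mem_smul_secF_iff {T : X.Opens} (hT : IsAffineOpen T) (e : T ≤ iSup U) (n : ℕ)
    (m : (secF (X := X.carrier) (O := X.sheaf) (phiS f U hcov) F e : Type u)) :
    m ∈ ((𝓘.ideal ⟨V, hV⟩) ^ n • ⊤ :
        Submodule Γ(Y, V) (secF (X := X.carrier) (O := X.sheaf) (phiS f U hcov) F e : Type u)) ↔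
      (show Γ(F, T) from m) ∈ ((𝓚.ideal ⟨T, hT⟩) ^ n • ⊤ : Submodule Γ(X, T) Γ(F, T)) := by
  have e' : T ≤ f ⁻¹ᵁ V := e.trans hcov.le
  letI : Module Γ(X, T) (secF (X := X.carrier) (O := X.sheaf) (phiS f U hcov) F e : Type u) :=
    inferInstanceAs (Module Γ(X, T) Γ(F, T))
  have h : ∀ (a : Γ(Y, V)) (x : (secF (X := X.carrier) (O := X.sheaf) (phiS f U hcov) F e : Type u)),
      a • x = (f.appLE V T e').hom a • x := fun a x =>
    congrArg (fun r : Γ(X, T) => r • (show Γ(F, T) from x)) (scl_phiS f U hcov e e' a)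
  have h1 := mem_smul_iff_of_compHom (f.appLE V T e').hom h ((𝓘.ideal ⟨V, hV⟩) ^ n) m
  rw [Ideal.map_pow, ← FpqcDescent.ideal_comap_appLE 𝓘 f ⟨V, hV⟩ ⟨T, hT⟩ e', ← h𝓚] at h1
  exact h1

/-- Divisibility of cochains. -/
lemma mem_smul_pi {A : Type u} [CommRing A] {κ : Type u} [Finite κ] {M : κ → Type u} [∀ i, AddCommGroup (M i)]
    [∀ i, Module A (M i)] (J : Ideal A) (x : ∀ i, M i) :
    x ∈ (J • ⊤ : Submodule A (∀ i, M i)) ↔ ∀ i, x i ∈ (J • ⊤ : Submodule A (M i)) := by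
  classical
  haveI := Fintype.ofFinite κ
  refine ⟨fun h i => ?_, fun h => ?_⟩
  · have h1 := Submodule.mem_map_of_mem (f := LinearMap.proj (R := A) (φ := M) i) h
    rw [Submodule.map_smul''] at h1
    exact Submodule.smul_mono le_rfl le_top h1
  · rw [← Finset.univ_sum_single x]
    refine Submodule.sum_mem _ fun i _ => ?_
    have h1 := Submodule.mem_map_of_mem (f := LinearMap.single A M i) (h i)
    rw [Submodule.map_smul''] at h1
    exact Submodule.smul_mono le_rfl le_top h1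

variable [IsProper f] (hX : (FSch.completionAlong X 𝓚).IsLocNoethFormal)
  (hU : ∀ (n : ℕ) (a : Fin (n + 1) → ι), IsAffineOpen (tupleProd U a))

include h𝓚 hU in
lemma mapF_uK_zero_iff [Finite ι] (hF : Coh.IsQCoh F) (k p : ℕ)
    (x : (CoF (X := X.carrier) (O := X.sheaf) (phiS f U hcov) U (le_iSup U) F p : Type u)) :
    mapF (X := X.carrier) (O := X.sheaf) (phiS f U hcov) U (le_iSup U) (uK 𝓚 hX F k) p x = 0 ↔
      x ∈ ((𝓘.ideal ⟨V, hV⟩) ^ (k + 1) • ⊤ :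
        Submodule Γ(Y, V) (CoF (X := X.carrier) (O := X.sheaf) (phiS f U hcov) U (le_iSup U) F p : Type u)) := by
  refine funext_iff.trans (Iff.trans (forall_congr' fun a => ?_) (mem_smul_pi _ x).symm)
  rw [mem_smul_secF_iff f 𝓘 𝓚 h𝓚 hV U hcov F (hU p a)]
  exact uK_eq_zero_iff 𝓚 hX hF (hU p a) k _

include hU in
omit [IsProper f] in
lemma mapF_uK_surjective (hF : Coh.IsQCoh F) (k p : ℕ) :
    Function.Surjective (mapF (X := X.carrier) (O := X.sheaf) (phiS f U hcov) U (le_iSup U) (uK 𝓚 hX F k) p) :=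
  fun y => by
    choose x hx using fun a => uK_surjective 𝓚 hX hF (hU p a) k (show Γ(MK 𝓚 hX F k, tupleProd U a) from y a)
    exact ⟨x, funext hx⟩

omit hcov in
include hV in
lemma exists_cover : ∃ (ι : Type u) (_ : Finite ι) (U : ι → X.Opens), iSup U = f ⁻¹ᵁ V ∧
    ∀ (n : ℕ) (a : Fin (n + 1) → ι), IsAffineOpen (tupleProd U a) := by
  haveI : IsAffine V.toScheme := hV
  haveI : IsSeparated (f ∣_ V) := IsZariskiLocalAtTarget.restrict (P := @IsSeparated) (inferInstance : IsSeparated f) V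
  haveI : (f ⁻¹ᵁ V).toScheme.IsSeparated := ⟨by
    rw [← terminal.comp_from (f ∣_ V)]
    infer_instance⟩
  obtain ⟨ι, hι, U, hU, hle, hcov⟩ := QC.exists_finite_affine_cover (W := f ⁻¹ᵁ V)
    (f.isCompact_preimage hV.isCompact)
  let W := f ⁻¹ᵁ V
  refine ⟨ι, inferInstance, U, le_antisymm (iSup_le hle) fun x hx => Opens.mem_iSup.2 (hcov x hx), fun n a => ?_⟩
  have h1 := isAffineOpen_tupleProd_sep (fun i => W.ι ⁻¹ᵁ U i) (fun i => by
    rw [← Scheme.Hom.isAffineOpen_iff_of_isOpenImmersion W.ι, Scheme.Hom.image_preimage_eq_opensRange_inf,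
      Scheme.Opens.opensRange_ι, inf_eq_right.2 (hle i)]
    exact hU i) n a
  rw [← Scheme.Hom.isAffineOpen_iff_of_isOpenImmersion W.ι] at h1
  have h2 : tupleProd (fun i => W.ι ⁻¹ᵁ U i) a = W.ι ⁻¹ᵁ tupleProd U a :=
    (CechX.preimage_tupleProd W.ι.base U a).symm
  rw [h2, Scheme.Hom.image_preimage_eq_opensRange_inf, Scheme.Opens.opensRange_ι,
    inf_eq_right.2 (tupleProd_le' U hle a)] at h1
  exact h1

end Est

section Main

/-- The ideal over an affine open, as an ideal of the scalars. -/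
abbrev idA {Y : Scheme.{u}} (𝓘 : Y.IdealSheafData) {V : Y.Opens} (hV : IsAffineOpen V) :
    Ideal (sc Y.sheaf V) := 𝓘.ideal ⟨V, hV⟩

variable {X Y : Scheme.{u}} (f : X ⟶ Y) [IsProper f] [IsLocallyNoetherian Y]
  (𝓘 : Y.IdealSheafData) (𝓚 : X.IdealSheafData) (h𝓚 : 𝓚 = 𝓘.comap f)
  (hX : (FSch.completionAlong X 𝓚).IsLocNoethFormal) [HasInjectiveResolutions X.Modules]
  {F : X.Modules} (hF : Coh.IsCoh F) (q : ℕ) {V : Y.Opens} (hV : IsAffineOpen V)

set_option maxHeartbeats 4000000 in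
include h𝓚 hF in
/-- **Classes dying in the reductions are divisible; classes coming from far away lift.** -/
theorem exists_alg_bounds :
    (∃ c : ℕ, ∀ (k : ℕ) (a : ModSite.sect (O := Y.sheaf) ((Coh.Rpush f q).obj F) V),
      ap ((Coh.Rpush f q).map (uK 𝓚 hX F k)) V a = 0 →
        a ∈ (idA 𝓘 hV ^ (k + 1 - c) • ⊤ :
          Submodule (sc Y.sheaf V) (ModSite.sect (O := Y.sheaf) ((Coh.Rpush f q).obj F) V))) ∧
    ∃ c : ℕ, ∀ (k : ℕ) (b : ModSite.sect (O := Y.sheaf) ((Coh.Rpush f q).obj (MK 𝓚 hX F (k + c))) V)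
      (τ : MK 𝓚 hX F (k + c) ⟶ MK 𝓚 hX F k), uK 𝓚 hX F (k + c) ≫ τ = uK 𝓚 hX F k →
      ∃ a, ap ((Coh.Rpush f q).map (uK 𝓚 hX F k)) V a = ap ((Coh.Rpush f q).map τ) V b := by
  obtain ⟨ι, _, U, hcov, hU⟩ := exists_cover f hV
  let P : ModSite.Mod X.sheaf ⥤ ModSite.Mod Y.sheaf := Scheme.Modules.pushforward f
  haveI : P.IsRightAdjoint := (Scheme.Modules.pullbackPushforwardAdjunction f).isRightAdjoint
  haveI : P.Additive := Functor.additive_of_preserves_binary_products _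
  haveI : PreservesFiniteLimits P := inferInstance
  haveI : HasInjectiveResolutions (ModSite.Mod X.sheaf) := ‹HasInjectiveResolutions X.Modules›
  haveI : IsGrothendieckAbelian.{u} (ModSite.Mod X.sheaf) := KFlat.isGrothendieck _
  haveI : EnoughInjectives (ModSite.Mod X.sheaf) := inferInstance
  let φ := phiS f U hcov
  let π : ∀ M : ModSite.Mod X.sheaf, ModSite.sect (P.obj M) V ≃+ ModSite.sect M (iSup U) := fun M =>
    { toFun := fun x => RSFin.rs M hcov.le (show ModSite.sect M (f ⁻¹ᵁ V) from x)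
      invFun := fun y => (RSFin.rs M hcov.ge y :)
      left_inv := fun x => (RSFin.rs_rs M _ _ _).trans (RSFin.rs_self M le_rfl _)
      right_inv := fun y => (RSFin.rs_rs M _ _ _).trans (RSFin.rs_self M le_rfl _)
      map_add' := fun x y => map_add (RSFin.rs M hcov.le) _ _ }
  have hπn : ∀ (M N : ModSite.Mod X.sheaf) (g : M ⟶ N) x, π N (ap (P.map g) V x) = ap g (iSup U) (π M x) :=
    fun M N g x => (RSFin.ap_rs g hcov.le _).symm
  have hπs : ∀ (M : ModSite.Mod X.sheaf) (a : sc Y.sheaf V) x, π M (a • x) = φ a • π M x := fun M a x =>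
    RSFin.rs_smul M hcov.le ((f.app V).hom a) _
  have hPI : ∀ (I : ModSite.Mod X.sheaf) [Injective I], LinCmp.AcM V (P.obj I) := fun I hI p => by
    haveI := FSchCoh.isFlasque_toAb_injective (X := TopCat.of X) X.sheaf I
    haveI : TopCat.Sheaf.IsFlasque (X := TopCat.of Y) (ModSite.toAb (P.obj I)) :=
      TopCat.Sheaf.IsFlasque.pushforward_isFlasque (X := TopCat.of X) (ModSite.toAb I) f.base
    exact flasque_acyclic (X := TopCat.of Y) (ModSite.toAb (P.obj I)) V p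
  obtain ⟨D, hb, hs, hi⟩ := LinCmp.exists_cmp' (X := X.carrier) (Y := Y.carrier) P U φ π hπn hπs hPI q
  have hac : ∀ M : X.Modules, Coh.IsQCoh M → AcF (X := X.carrier) (O := X.sheaf) U M := fun M hM n a p =>
    haveI : M.IsQuasicoherent := hM
    CohQC.hu_vanish_of_isAffineOpen M (hU n a) p
  have hcon : ∀ M : X.Modules, Coh.IsQCoh M → LinCmp.Con (X := X.carrier) (O := X.sheaf) P M V := fun M hM j p =>
    haveI : ((Coh.Rpush f j).obj M).IsQuasicoherent := RPushQC.isQCoh_rpush f M hM j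
    CohQC.hu_vanish_of_isAffineOpen ((Coh.Rpush f j).obj M) hV p
  obtain ⟨hK, hR⟩ := exists_ar_cech f U hcov hV F hU hF (𝓘.ideal ⟨V, hV⟩) q
  constructor
  · obtain ⟨c, hc⟩ := mem_smul_of_dies D (𝓘.ideal ⟨V, hV⟩) (hac F hF.1) (hb F (hac F hF.1))
      (hs F (hac F hF.1) (hcon F hF.1)) hK
    refine ⟨c, fun k a ha => hc (k + 1) (MK 𝓚 hX F k) (uK 𝓚 hX F k) (hac _ (isQCoh_MK 𝓚 hX hF.1 k))
      (hi _ _ (hcon _ (isQCoh_MK 𝓚 hX hF.1 k))) (fun j => mapF_uK_surjective f 𝓚 U hcov F hX hU hF.1 k j)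
      (fun x hx => (mapF_uK_zero_iff f 𝓘 𝓚 h𝓚 hV U hcov F hX hU hF.1 k q x).1 hx) a ha⟩
  · obtain ⟨c, hc⟩ := exists_lift_of_far D (𝓘.ideal ⟨V, hV⟩) (hac F hF.1) hR
    refine ⟨c, fun k b τ hτ => hc (k + 1) (MK 𝓚 hX F k) (MK 𝓚 hX F (k + c)) (uK 𝓚 hX F k) (uK 𝓚 hX F (k + c))
      (hac _ (isQCoh_MK 𝓚 hX hF.1 k)) (hac _ (isQCoh_MK 𝓚 hX hF.1 (k + c))) τ hτ
      (hs _ _ (hcon _ (isQCoh_MK 𝓚 hX hF.1 (k + c)))) (mapF_uK_surjective f 𝓚 U hcov F hX hU hF.1 (k + c) q)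
      (fun x hx => ?_) (fun x hx => (mapF_uK_zero_iff f 𝓘 𝓚 h𝓚 hV U hcov F hX hU hF.1 k q x).2 hx) b⟩
    have h1 := (mapF_uK_zero_iff f 𝓘 𝓚 h𝓚 hV U hcov F hX hU hF.1 (k + c) (q + 1) x).1 hx
    exact SetLike.le_def.1 (Submodule.smul_mono (Ideal.pow_le_pow_right (Nat.add_right_comm k 1 c).le) le_rfl) h1

end Main

end Groth.Agent.FSProper
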