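import Groth.Agent.FSProper.RpushNat
import Groth.Agent.ClosedPush.Basic
import Groth.Prelude.Def_FSch6

/-!
# Higher direct images along a morphism of formal systems over a morphism of schemes
-/

set_option autoImplicit false
set_option backward.isDefEq.respectTransparency false
set_option backward.isDefEq.respectTransparency.types false
set_option linter.style.haveILetI false
set_option maxHeartbeats 2000000

universe u

open CategoryTheory CategoryTheory.Limits AlgebraicGeometry TopologicalSpace Opposite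

noncomputable section

namespace Groth.Agent.FSProper

variable {𝔛 𝔜 : FSch.Sys.{u}} (φ : 𝔛 ⟶ 𝔜) (h𝔛 : 𝔛.IsFormal) (h𝔜 : 𝔜.IsFormal) {X Y : Scheme.{u}} (f : X ⟶ Y)
  (p : ∀ n, 𝔛.X n ⟶ X) (hp : ∀ n, 𝔛.ι n ≫ p (n + 1) = p n)
  (r : ∀ n, 𝔜.X n ⟶ Y) (hr : ∀ n, 𝔜.ι n ≫ r (n + 1) = r n)
  (hsq : ∀ n, p n ≫ f = (φ : FSch.Hom 𝔛 𝔜).app n ≫ r n)

/-- The direct image from a system to a scheme containing it as a closed subspace is exact. -/
theorem preservesFiniteColimits_toScheme [IsClosedImmersion (r 0)] :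
    PreservesFiniteColimits (FSch.toSchemeMor 𝔜 h𝔜 r hr).push :=
  ClosedPush.preservesFiniteColimits (r 0).base _ (r 0).isClosedEmbedding

include hsq in
set_option maxHeartbeats 4000000 in
/-- **Higher direct images along the system are those along the scheme**, naturally. -/
theorem nonempty_psi [IsClosedImmersion (p 0)] [IsClosedImmersion (r 0)]
    [HasInjectiveResolutions (FSch.ModF 𝔛 h𝔛)] [HasInjectiveResolutions X.Modules] (q : ℕ) :
    Nonempty (FSch.RpushF φ h𝔛 h𝔜 q ⋙ (FSch.toSchemeMor 𝔜 h𝔜 r hr).push ≅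
      (FSch.toSchemeMor 𝔛 h𝔛 p hp).push ⋙ Coh.Rpush f q) := by
  let P := FSch.pushF φ h𝔛 h𝔜
  let P' := Coh.push f
  let I := (FSch.toSchemeMor 𝔛 h𝔛 p hp).push
  let J := (FSch.toSchemeMor 𝔜 h𝔜 r hr).push
  haveI : P.IsRightAdjoint := (FSch.homMor φ h𝔛 h𝔜).adj.isRightAdjoint
  haveI : P.Additive := Functor.additive_of_preserves_binary_products _
  haveI : PreservesFiniteLimits P := inferInstance
  haveI : P'.IsRightAdjoint := (Scheme.Modules.pullbackPushforwardAdjunction f).isRightAdjoint
  haveI : P'.Additive := Functor.additive_of_preserves_binary_products _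
  haveI : I.IsRightAdjoint := (FSch.toSchemeMor 𝔛 h𝔛 p hp).adj.isRightAdjoint
  haveI : I.Additive := Functor.additive_of_preserves_binary_products _
  haveI : PreservesFiniteLimits I := inferInstance
  haveI : J.IsRightAdjoint := (FSch.toSchemeMor 𝔜 h𝔜 r hr).adj.isRightAdjoint
  haveI : J.Additive := Functor.additive_of_preserves_binary_products _
  haveI : PreservesFiniteColimits I := preservesFiniteColimits_toScheme h𝔛 p hp
  haveI : PreservesFiniteColimits J := preservesFiniteColimits_toScheme h𝔜 r hr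
  haveI : J.PreservesHomology := Functor.preservesHomologyOfExact J
  haveI : IsGrothendieckAbelian.{u} (FSch.ModF 𝔛 h𝔛) := KFlat.isGrothendieck _
  haveI : EnoughInjectives (FSch.ModF 𝔛 h𝔛) := inferInstance
  haveI : HasInjectiveResolutions (ModSite.Mod X.sheaf) := ‹HasInjectiveResolutions X.Modules›
  obtain ⟨c⟩ := GrothSS.nonempty_rightDerived_comp_acyclic_nat (G := I) (S := P') (fun Q hQ k => by
    haveI := hQ
    haveI := FSchCoh.isFlasque_toAb_injective (X := TopCat.of (𝔛.X 0)) (𝔛.Osh h𝔛) Q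
    refine FSchCoh.isZero_rpush_flasque f (I.obj Q) (fun {V U} h => ?_) k.succ_pos
    exact (AddCommGrpCat.epi_iff_surjective _).1 (TopCat.Presheaf.IsFlasque.epi
      (F := (ModSite.toAb Q).obj) ((Opens.map (p 0).base).map (homOfLE h)).op)) q
  exact ⟨(W7SiteFunctor.rightDerivedCompExactIso P J q).symm ≪≫
    GrothSS.rightDerivedMapIso (FSch.schPushSq φ h𝔛 h𝔜 f p hp r hr hsq).symm q ≪≫ c⟩

end Groth.Agent.FSProper
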