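import Groth.Agent.FSchCoh.Coherent
import Groth.Agent.FSchCoh.LevelRpush
import Groth.Agent.FormBlow.Adic

/-!
# A criterion for coherence on a locally noetherian formal scheme
-/

set_option autoImplicit false
set_option backward.isDefEq.respectTransparency false
set_option backward.isDefEq.respectTransparency.types false
set_option linter.style.haveILetI false
set_option maxHeartbeats 1000000

universe u

open CategoryTheory CategoryTheory.Limits AlgebraicGeometry TopologicalSpace Opposite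
open Groth.Agent.RSFin (sc rsR rs rs_rs rs_smul ap ap_rs Gen Rel spanOn)
open Groth.Agent.FSchCoh (OA RA JA projR smul_level exists_dist IsDist)

noncomputable section

namespace Groth.Agent.FSProper

variable {𝔛 : FSch.Sys.{u}} (h𝔛 : 𝔛.IsLocNoethFormal) (G : FSch.ModF 𝔛 h𝔛.1) (H : ∀ n, (𝔛.X n).Modules)
  (hH : ∀ n, Coh.IsQCoh (H n)) (pr : ∀ n, G ⟶ (FSch.levelMor 𝔛 h𝔛.1 n).push.obj (H n))

/-- Finitely generated sections with a filtration bounded below by the adic one, over affine opens. -/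
def FinFil : Prop :=
  ∀ U : (𝔛.X 0).Opens, IsAffineOpen U → ∃ (D m : ℕ) (s : Fin m → ModSite.sect G U),
    Submodule.span (OA 𝔛 h𝔛.1 U) (Set.range s) = ⊤ ∧
    ∀ n y, ap (pr n) U y = 0 → y ∈ JA 𝔛 h𝔛.1 U ^ (n + 1 - D) • (⊤ : Submodule (OA 𝔛 h𝔛.1 U) (ModSite.sect G U))

/-- Deep classes of the levels lift, over affine opens. -/
def Lifting : Prop :=
  ∀ U : (𝔛.X 0).Opens, IsAffineOpen U → ∀ n, ∃ (m : ℕ)
    (g : (FSch.levelMor 𝔛 h𝔛.1 m).push.obj (H m) ⟶ (FSch.levelMor 𝔛 h𝔛.1 n).push.obj (H n)),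
    pr m ≫ g = pr n ∧ ∀ x, ∃ y, ap (pr n) U y = ap g U x

variable {h𝔛 G H pr}

include hH in
/-- Sections over a smaller basic open extend, at a level. -/
lemma exists_level_extend {U W : (𝔛.X 0).Opens} (hU : IsAffineOpen U) {a : OA 𝔛 h𝔛.1 U}
    (d : IsDist 𝔛 h𝔛.1 U a W) (m : ℕ) (y : ModSite.sect ((FSch.levelMor 𝔛 h𝔛.1 m).push.obj (H m)) W) :
    ∃ (k : ℕ) (x : ModSite.sect ((FSch.levelMor 𝔛 h𝔛.1 m).push.obj (H m)) U),
      rs _ d.le x = (show sc (𝔛.Osh h𝔛.1) W from rsR d.le a ^ k) • y := by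
  haveI : (H m).IsQuasicoherent := hH m
  let b := projR 𝔛 h𝔛.1 U m a
  have hloc := QC.isLoc_of_isQCoh (FSchAff.isAffineOpen_lvU 𝔛 h𝔛.1 hU m) (M := H m)
  obtain ⟨k, x, hx⟩ := hloc.exists_extend b
    (QC.res (H m) (d.level m).ge (show Γ(H m, 𝔛.lvU h𝔛.1 m W) from y))
  refine ⟨k, x, ?_⟩
  have h1 := congrArg (QC.res (H m) (d.level m).le) hx
  rw [QC.res_res, QC.res_smul, map_pow, QC.resO_resO, QC.res_res, QC.res_self] at h1
  rw [smul_level h𝔛 m (H m), map_pow, FSchCoh.projR_rsR]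
  exact h1

include hH in
/-- Sections vanishing on a smaller basic open are killed by a power, at a level. -/
lemma exists_level_pow_zero {U W : (𝔛.X 0).Opens} (hU : IsAffineOpen U) {a : OA 𝔛 h𝔛.1 U}
    (d : IsDist 𝔛 h𝔛.1 U a W) (m : ℕ) (x : ModSite.sect ((FSch.levelMor 𝔛 h𝔛.1 m).push.obj (H m)) U)
    (hx : rs _ d.le x = 0) : ∃ k : ℕ, (show sc (𝔛.Osh h𝔛.1) U from a ^ k) • x = 0 := by
  haveI : (H m).IsQuasicoherent := hH m
  have hloc := QC.isLoc_of_isQCoh (FSchAff.isAffineOpen_lvU 𝔛 h𝔛.1 hU m) (M := H m)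
  obtain ⟨k, hk⟩ := hloc.exists_pow_smul_eq_zero (projR 𝔛 h𝔛.1 U m a) (show Γ(H m, 𝔛.lvU h𝔛.1 m U) from x) (by
    have h1 := congrArg (QC.res (H m) (d.level m).ge) (show QC.res (H m) (FormBlow.lvU_mono h𝔛.1 d.le m)
      (show Γ(H m, 𝔛.lvU h𝔛.1 m U) from x) = 0 from hx)
    rwa [QC.res_res, map_zero] at h1)
  refine ⟨k, ?_⟩
  rw [smul_level h𝔛 m (H m), map_pow]
  exact hk

include hH in
theorem span_rs_eq_top' (hfin : FinFil h𝔛 G H pr) (hlift : Lifting h𝔛 G H pr) {U W : (𝔛.X 0).Opens}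
    (hU : IsAffineOpen U) {a : OA 𝔛 h𝔛.1 U} (d : IsDist 𝔛 h𝔛.1 U a W) {ι : Type} [Fintype ι]
    (s : ι → ModSite.sect G U) (hs : Submodule.span (OA 𝔛 h𝔛.1 U) (Set.range s) = ⊤) :
    spanOn G d.le s = ⊤ := by
  obtain ⟨D, m', t, ht, hfil⟩ := hfin W d.affine
  obtain ⟨m, g, hg, hlift⟩ := hlift U hU D
  haveI := (FSchCoh.main 𝔛 h𝔛.1 h𝔛 d.affine).1
  let Sp : Submodule (OA 𝔛 h𝔛.1 W) (ModSite.sect G W) := spanOn G d.le s
  let J := JA 𝔛 h𝔛.1 W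
  have hfg : (⊤ : Submodule (OA 𝔛 h𝔛.1 W) (ModSite.sect G W)).FG :=
    ht ▸ Submodule.fg_span (Set.finite_range t)
  refine eq_top_iff.2 (Submodule.le_of_le_smul_of_le_jacobson_bot (I := J) (N := Sp) hfg
    (FSchCoh.JA_le_jacobson h𝔛 d.affine) fun y _ => ?_)
  obtain ⟨k, x, hx⟩ := exists_level_extend (h𝔛 := h𝔛) hH hU d m (ap (pr m) W y)
  obtain ⟨y', hy'⟩ := hlift x
  have hmem : rs G d.le y' ∈ Sp := by
    have h0 : y' ∈ Submodule.span (OA 𝔛 h𝔛.1 U) (Set.range s) := hs.symm ▸ Submodule.mem_top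
    obtain ⟨c, hc⟩ := (Submodule.mem_span_range_iff_exists_fun _).1 h0
    rw [← hc]
    exact (RSFin.mem_spanOn_iff _ _ _ _).2 ⟨fun i => rsR d.le (c i), (RSFin.rs_sum_smul G d.le c s).symm⟩
  let u : OA 𝔛 h𝔛.1 W := rsR d.le a ^ k
  have h1 : ap (pr D) W (u • y - rs G d.le y') = 0 := by
    rw [map_sub, map_smul, ap_rs, hy', ← ap_rs, hx, map_smul, sub_eq_zero, ← RSFin.ap_comp, hg]
  have h2 := hfil D _ h1
  rw [Nat.add_sub_cancel_left, pow_one] at h2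
  have hu : IsUnit u := (d.isUnit h𝔛).pow k
  have h3 : u • y ∈ Sp ⊔ J • (⊤ : Submodule (OA 𝔛 h𝔛.1 W) (ModSite.sect G W)) :=
    Submodule.mem_sup.2 ⟨_, hmem, _, h2, add_sub_cancel _ _⟩
  have h4 := Submodule.smul_mem _ (↑hu.unit⁻¹ : OA 𝔛 h𝔛.1 W) h3
  rwa [smul_smul, hu.val_inv_mul, one_smul] at h4

include hH in
theorem mem_span_rel' (hfin : FinFil h𝔛 G H pr) {U W : (𝔛.X 0).Opens} (hU : IsAffineOpen U)
    {a : OA 𝔛 h𝔛.1 U} (d : IsDist 𝔛 h𝔛.1 U a W) {ι κ : Type} [Fintype ι] (s : ι → ModSite.sect G U)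
    (hs : Submodule.span (OA 𝔛 h𝔛.1 U) (Set.range s) = ⊤) (r : κ → ι → OA 𝔛 h𝔛.1 U)
    (hr : ∀ c : ι → OA 𝔛 h𝔛.1 U, ∑ i, c i • s i = 0 → c ∈ Submodule.span (OA 𝔛 h𝔛.1 U) (Set.range r))
    (c : ι → OA 𝔛 h𝔛.1 W) (hc : ∑ i, c i • rs G d.le (s i) = 0) :
    c ∈ Submodule.span (OA 𝔛 h𝔛.1 W) (Set.range fun k i => (rsR d.le (r k i) : OA 𝔛 h𝔛.1 W)) := by
  classical
  set S := Submodule.span (OA 𝔛 h𝔛.1 W) (Set.range fun k i => (rsR d.le (r k i) : (OA 𝔛 h𝔛.1 W)))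
  haveI := (FSchCoh.main 𝔛 h𝔛.1 h𝔛 d.affine).1
  obtain ⟨D, -, -, -, hfil⟩ := hfin U hU
  have hresS : ∀ z ∈ Submodule.span (OA 𝔛 h𝔛.1 U) (Set.range r), (fun i => (rsR d.le (z i) : (OA 𝔛 h𝔛.1 W))) ∈ S := by
    intro z hz
    induction hz using Submodule.span_induction with
    | mem x hx => obtain ⟨k, rfl⟩ := hx; exact Submodule.subset_span ⟨k, rfl⟩
    | zero => simp only [Pi.zero_apply, map_zero]; exact S.zero_mem
    | add x y _ _ hx hy => simp only [Pi.add_apply, map_add]; exact S.add_mem hx hy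
    | smul b x _ hx =>
      simp only [Pi.smul_apply, smul_eq_mul, map_mul]
      exact S.smul_mem (rsR d.le b) hx
  have key : ∀ n, c ∈ S ⊔ JA 𝔛 h𝔛.1 W ^ (n + 1) • (⊤ : Submodule (OA 𝔛 h𝔛.1 W) (ι → (OA 𝔛 h𝔛.1 W))) := by
    intro n
    let N := n + D
    obtain ⟨k, c', hc'⟩ := FSchCoh.exists_scal_extend_fin h𝔛 hU d N c
    let σ : ModSite.sect ((FSch.levelMor 𝔛 h𝔛.1 N).push.obj (H N)) U := ap (pr N) U (∑ i, c' i • s i)
    have hσ : rs _ d.le σ = 0 := by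
      have h2 : ap (pr N) W ((show sc (𝔛.Osh h𝔛.1) W from rsR d.le a ^ k) • ∑ i, c i • rs G d.le (s i)) = 0 := by
        rw [hc, smul_zero, map_zero]
      rw [Finset.smul_sum, map_sum] at h2
      refine ((ap_rs (pr N) d.le (∑ i, c' i • s i)).symm.trans ?_).trans h2
      rw [RSFin.rs_sum_smul, map_sum]
      refine Finset.sum_congr rfl fun i _ => ?_
      rw [smul_smul, map_smul, map_smul]
      exact congrArg (fun r : RA 𝔛 h𝔛.1 W N =>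
        r • (show Γ(H N, 𝔛.lvU h𝔛.1 N W) from ap (pr N) W (rs G d.le (s i)))) (hc' i).symm
    obtain ⟨m, hm⟩ := exists_level_pow_zero (h𝔛 := h𝔛) hH hU d N σ hσ
    have h3 : a ^ m • ∑ i, c' i • s i ∈ JA 𝔛 h𝔛.1 U ^ (n + 1) • (⊤ : Submodule (OA 𝔛 h𝔛.1 U) (ModSite.sect G U)) := by
      have h := hfil N (a ^ m • ∑ i, c' i • s i) (((ap (pr N) U).map_smul _ _).trans hm)
      rwa [show N + 1 - D = n + 1 by omega] at h
    let φ : (ι → (OA 𝔛 h𝔛.1 U)) →ₗ[(OA 𝔛 h𝔛.1 U)] ModSite.sect G U := Fintype.linearCombination (OA 𝔛 h𝔛.1 U) s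
    have hφ : LinearMap.range φ = ⊤ := (Fintype.range_linearCombination (OA 𝔛 h𝔛.1 U) s).trans hs
    rw [← hφ, ← Submodule.map_top, ← Submodule.map_smul''] at h3
    obtain ⟨e, he, he'⟩ := h3
    have h4 : (fun i => a ^ m * c' i) - e ∈ Submodule.span (OA 𝔛 h𝔛.1 U) (Set.range r) := by
      refine hr _ ?_
      rw [Fintype.linearCombination_apply] at he'
      simp only [Pi.sub_apply, sub_smul, Finset.sum_sub_distrib, mul_smul, ← Finset.smul_sum]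
      rw [he', sub_self]
    have hu := ((d.isUnit h𝔛).pow m).mul ((d.isUnit h𝔛).pow k)
    let u : (OA 𝔛 h𝔛.1 W) := rsR d.le a ^ m * rsR d.le a ^ k
    have h5 : u • c ∈ S ⊔ JA 𝔛 h𝔛.1 W ^ (n + 1) • (⊤ : Submodule (OA 𝔛 h𝔛.1 W) (ι → (OA 𝔛 h𝔛.1 W))) := by
      rw [Submodule.mem_sup]
      refine ⟨_, hresS _ h4, u • c - fun i => (rsR d.le (((fun i => a ^ m * c' i) - e) i) : (OA 𝔛 h𝔛.1 W)), ?_, by abel⟩
      refine AdicLim.mem_smul_top_of_apply fun i => ?_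
      simp only [Pi.sub_apply, Pi.smul_apply, smul_eq_mul, map_sub, map_mul, map_pow, u]
      have h6 : (rsR d.le a : (OA 𝔛 h𝔛.1 W)) ^ k * c i - rsR d.le (c' i) ∈ JA 𝔛 h𝔛.1 W ^ (n + 1) := by
        refine Ideal.pow_le_pow_right (show n + 1 ≤ N + 1 by omega) ?_
        rw [← (FSchCoh.main 𝔛 h𝔛.1 h𝔛 d.affine).2.2 N, RingHom.mem_ker, map_sub, hc', sub_self]
      have h7 : (rsR d.le (e i) : (OA 𝔛 h𝔛.1 W)) ∈ JA 𝔛 h𝔛.1 W ^ (n + 1) :=
        FSchCoh.rsR_mem_pow h𝔛 hU d.affine d.le (AdicLim.apply_mem_of_mem_smul_top he i)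
      convert add_mem (Ideal.mul_mem_left _ ((rsR d.le a : (OA 𝔛 h𝔛.1 W)) ^ m) h6) h7 using 1
      ring
    have h8 := Submodule.smul_mem _ (↑hu.unit⁻¹ : (OA 𝔛 h𝔛.1 W)) h5
    rwa [smul_smul, hu.val_inv_mul, one_smul] at h8
  have hq : S.mkQ c ∈ (⨅ n : ℕ, JA 𝔛 h𝔛.1 W ^ n • (⊤ : Submodule (OA 𝔛 h𝔛.1 W) ((ι → (OA 𝔛 h𝔛.1 W)) ⧸ S))) := by
    rw [Submodule.mem_iInf]
    intro n
    obtain ⟨y, hy, z, hz, hyz⟩ := Submodule.mem_sup.1 (key n)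
    rw [← hyz, map_add, show S.mkQ y = 0 from (Submodule.Quotient.mk_eq_zero S).2 hy, zero_add]
    have h1 : S.mkQ z ∈ (JA 𝔛 h𝔛.1 W ^ (n + 1) • (⊤ : Submodule (OA 𝔛 h𝔛.1 W) (ι → (OA 𝔛 h𝔛.1 W)))).map S.mkQ := ⟨z, hz, rfl⟩
    rw [Submodule.map_smul''] at h1
    exact Submodule.smul_mono (Ideal.pow_le_pow_right (Nat.le_succ n)) le_top h1
  rw [Ideal.iInf_pow_smul_eq_bot_of_le_jacobson _ (FSchCoh.JA_le_jacobson h𝔛 d.affine), Submodule.mem_bot] at hq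
  exact (Submodule.Quotient.mk_eq_zero S).1 hq

include hH in
/-- **The criterion.** -/
theorem isCohF_of_finFil (hfin : FinFil h𝔛 G H pr) (hlift : Lifting h𝔛 G H pr) : FSch.IsCohF 𝔛 h𝔛.1 G := by
  refine RSFin.isFinitePresentation_of_forall _ fun x => ?_
  obtain ⟨U, hU, hxU, -⟩ := exists_isAffineOpen_mem_and_subset (X := 𝔛.X 0) (x := x) (U := ⊤) trivial
  haveI := (FSchCoh.main 𝔛 h𝔛.1 h𝔛 hU).1
  obtain ⟨D, p, s, hs, -⟩ := hfin U hU
  let φ : (Fin p → OA 𝔛 h𝔛.1 U) →ₗ[OA 𝔛 h𝔛.1 U] ModSite.sect G U := Fintype.linearCombination (OA 𝔛 h𝔛.1 U) s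
  obtain ⟨q, r, hrr⟩ := Submodule.fg_iff_exists_fin_generating_family.1
    (IsNoetherian.noetherian (LinearMap.ker φ))
  refine ⟨U, Fin p, Fin q, inferInstance, inferInstance, s, r, hxU, ?_, fun k => ?_, ?_⟩
  · intro V hV t y hy
    obtain ⟨a, W, hyW, hWV, d⟩ := exists_dist 𝔛 h𝔛.1 hU hV hy
    exact ⟨W, hWV, hyW, (span_rs_eq_top' hH hfin hlift hU d s hs).ge Submodule.mem_top⟩
  · have hk : r k ∈ LinearMap.ker φ := hrr ▸ Submodule.subset_span ⟨k, rfl⟩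
    rw [LinearMap.mem_ker, Fintype.linearCombination_apply] at hk
    exact hk
  · intro V hV c hc y hy
    obtain ⟨a, W, hyW, hWV, d⟩ := exists_dist 𝔛 h𝔛.1 hU hV hy
    refine ⟨W, hWV, hyW, mem_span_rel' hH hfin hU d s hs r (fun z hz => ?_) _ ?_⟩
    · rw [hrr, LinearMap.mem_ker, Fintype.linearCombination_apply]
      exact hz
    · have := congrArg (rs G hWV) hc
      rw [RSFin.rs_sum_smul, map_zero] at this
      simpa only [rs_rs] using this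

end Groth.Agent.FSProper
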