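import Groth.Agent.FSProper.FinSect
import Groth.Agent.FSProper.CohCrit
import Groth.Agent.FSProper.RpushLim

/-!
# Coherence of higher direct images along proper morphisms of formal schemes
-/

set_option autoImplicit false
set_option backward.isDefEq.respectTransparency false
set_option backward.isDefEq.respectTransparency.types false
set_option linter.style.haveILetI false
set_option maxHeartbeats 1000000

universe u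

open CategoryTheory CategoryTheory.Limits AlgebraicGeometry TopologicalSpace Opposite
open Groth.Agent.SiteCoh Groth.Agent.ProjCech
open Groth.Agent.RSFin (sc ap)
open Groth.Agent.FSchCoh (OA JA projR isCoh_pullSys)

noncomputable section

namespace Groth.Agent.FSProper

variable {𝔛 𝔜 : FSch.Sys.{u}} (h𝔛 : 𝔛.IsLocNoethFormal) (h𝔜 : 𝔜.IsLocNoethFormal) (f : 𝔛 ⟶ 𝔜)
  (hf : FSch.IsProperHom f) [HasInjectiveResolutions (FSch.ModF 𝔛 h𝔛.1)] (F : FSch.ModF 𝔛 h𝔛.1)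
  (hF : FSch.IsCohF 𝔛 h𝔛.1 F) (q : ℕ)

include hf in
lemma acM_rpush_level (k : ℕ) (G : (𝔛.X k).Modules) (hG : Coh.IsCoh G) (j : ℕ) {V : (𝔜.X 0).Opens}
    (hV : IsAffineOpen V) : LinCmp.AcM (X := (𝔜.X 0).carrier) (O := 𝔜.Osh h𝔜.1) V
      ((FSch.RpushF f h𝔛.1 h𝔜.1 j).obj ((FSch.levelMor 𝔛 h𝔛.1 k).push.obj G)) := by
  obtain ⟨H, hH, ⟨e⟩⟩ := exists_rpush_level_coh f h𝔛 h𝔜 hf k G hG j
  haveI : H.IsQuasicoherent := hH.1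
  exact LinCmp.acM_of_iso (X := (𝔜.X 0).carrier) (O := 𝔜.Osh h𝔜.1) e.symm
    fun p => FSchCoh.hu_level_push_vanish 𝔜 h𝔜.1 k H hV p

include hf hF in
lemma rpush_sep {V : (𝔜.X 0).Opens} (y : ModSite.sect ((FSch.RpushF f h𝔛.1 h𝔜.1 q).obj F) V)
    (hy : ∀ k, ap ((FSch.RpushF f h𝔛.1 h𝔜.1 q).map (un 𝔛 h𝔛 F k)) V y = 0) : y = 0 := by
  let G := RSys h𝔛 h𝔜 f F q
  let L := limit.lift G (rCone h𝔛 h𝔜 f F q)
  haveI : IsIso L := isIso_lift_rCone h𝔛 h𝔜 f hf F hF q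
  haveI := FSchCoh.preservesLimitsOfShape_toAb 𝔜 h𝔜.1
  have hlim := isLimitOfPreserves (sectM h𝔜 V) (limit.isLimit G)
  refine RSFin.injective_of_mono L V ?_
  refine FSchCoh.seq_ext hlim fun k => ?_
  change ap (limit.π G (op k)) V (ap L V y) = ap (limit.π G (op k)) V (ap L V 0)
  rw [← RSFin.ap_comp, limit.lift_π, map_zero, map_zero]
  exact hy k

include hf hF in
theorem exists_finFil_rpush {V : (𝔜.X 0).Opens} (hV : IsAffineOpen V) :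
    ∃ (D m : ℕ) (s : Fin m → ModSite.sect ((FSch.RpushF f h𝔛.1 h𝔜.1 q).obj F) V),
      Submodule.span (OA 𝔜 h𝔜.1 V) (Set.range s) = ⊤ ∧
      ∀ n y, ap ((FSch.RpushF f h𝔛.1 h𝔜.1 q).map (un 𝔛 h𝔛 F n)) V y = 0 →
        y ∈ JA 𝔜 h𝔜.1 V ^ (n + 1 - D) •
          (⊤ : Submodule (OA 𝔜 h𝔜.1 V) (ModSite.sect ((FSch.RpushF f h𝔛.1 h𝔜.1 q).obj F) V)) := by
  obtain ⟨σ, _, t, ι, _, U, ht, hcov, hU, hJ, hP⟩ := exists_setting_base h𝔛 h𝔜 f V hf hV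
  obtain ⟨hN, hC, -⟩ := FSchCoh.main 𝔜 h𝔜.1 h𝔜 hV
  haveI : IsNoetherianRing (sc (X := (𝔜.X 0).carrier) (𝔜.Osh h𝔜.1) V) := hN
  haveI : IsAdicComplete (tI t) (sc (X := (𝔜.X 0).carrier) (𝔜.Osh h𝔜.1) V) := ht.symm ▸ hC
  let P := FSch.pushF f h𝔛.1 h𝔜.1
  haveI : P.IsRightAdjoint := (FSch.homMor f h𝔛.1 h𝔜.1).adj.isRightAdjoint
  haveI : P.Additive := Functor.additive_of_preserves_binary_products _
  haveI : PreservesFiniteLimits P := inferInstance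
  obtain ⟨D, m, s, hs, hfil⟩ := exists_finFil (Y := (𝔜.X 0).carrier) (O' := 𝔜.Osh h𝔜.1) (V := V) (t := t)
    (φ := phiV h𝔛 h𝔜 f V) 𝔛 h𝔛 U hcov P (fun M => AddEquiv.refl (ModSite.sect M (Wof f V)))
    (fun _ _ _ _ => rfl) (fun M a x => (congrArg (fun r : OA 𝔛 h𝔛.1 (Wof f V) => r •
      (show ModSite.sect M (Wof f V) from x)) (RSFin.rsR_self (X := (𝔛.X 0).carrier) (O := 𝔛.Osh h𝔛.1) (le_refl (Wof f V))
        (((FSch.Hom.sharp f h𝔛.1 h𝔜.1).hom.app (op V)) a))).symm)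
    (fun I hI p => by
      haveI := FSchCoh.isFlasque_toAb_injective (X := TopCat.of (𝔛.X 0)) (𝔛.Osh h𝔛.1) I
      haveI : TopCat.Sheaf.IsFlasque (X := TopCat.of (𝔜.X 0)) (ModSite.toAb (P.obj I)) :=
        TopCat.Sheaf.IsFlasque.pushforward_isFlasque (X := TopCat.of (𝔛.X 0)) (ModSite.toAb I) (f0 f)
      exact flasque_acyclic (X := TopCat.of (𝔜.X 0)) (ModSite.toAb (P.obj I)) V p)
    hU hJ hP F hF q
    (fun k j => acM_rpush_level h𝔛 h𝔜 f hf k _ (isCoh_pullSys 𝔛 h𝔛.1 F h𝔛 hF k) j hV)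
    (rpush_sep h𝔛 h𝔜 f hf F hF q)
  refine ⟨D, m, s, hs, fun n y hy => ?_⟩
  rw [← ht]
  exact hfil n y hy

include hf hF in
theorem exists_lift_level {V : (𝔜.X 0).Opens} (hV : IsAffineOpen V) (n : ℕ) :
    ∃ (m : ℕ) (tr : FL 𝔛 h𝔛 F m ⟶ FL 𝔛 h𝔛 F n), un 𝔛 h𝔛 F m ≫ tr = un 𝔛 h𝔛 F n ∧
      ∀ x, ∃ y, ap ((FSch.RpushF f h𝔛.1 h𝔜.1 q).map (un 𝔛 h𝔛 F n)) V y =
        ap ((FSch.RpushF f h𝔛.1 h𝔜.1 q).map tr) V x := by
  obtain ⟨D, hD⟩ := exists_uniform h𝔛 h𝔜 f hf F hF q hV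
  let tr := ARSys.tr (FSys h𝔛 F) (Nat.le_add_right n D)
  have htr : un 𝔛 h𝔛 F (n + D) ≫ tr = un 𝔛 h𝔛 F n :=
    cone_tr _ (fun k => un 𝔛 h𝔛 F k) (fun k => FSch.unit_levelTrans 𝔛 h𝔛.1 F k) (Nat.le_add_right n D)
  refine ⟨n + D, tr, htr, fun x => ?_⟩
  obtain ⟨c, rfl⟩ := (theta_bijective_level h𝔛 h𝔜 f q hf (n + D) _ (isCoh_pullSys 𝔛 h𝔛.1 F h𝔛 hF (n + D)) hV).2 x
  have h1 : bop 𝔜 h𝔜 (1 : OA 𝔜 h𝔜.1 V) = V := by
    rw [bop, map_one, Scheme.basicOpen_of_isUnit _ isUnit_one, FormBlow.lvU_zero h𝔜.1]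
  have h2 : ∀ c, ∃ y, hum (X := (𝔛.X 0).carrier) (O := 𝔛.Osh h𝔛.1) (Wof f V) tr q c =
      hum (X := (𝔛.X 0).carrier) (O := 𝔛.Osh h𝔛.1) (Wof f V) (un 𝔛 h𝔛 F n) q y := by
    have h := hD 1 n (n + D) le_rfl tr htr
    rw [h1] at h
    exact h
  obtain ⟨z, hz⟩ := h2 c
  exact ⟨theta h𝔛 h𝔜 f q F V z, (theta_natural h𝔛 h𝔜 f q (un 𝔛 h𝔛 F n) V z).symm.trans
    ((congrArg (theta h𝔛 h𝔜 f q (FL 𝔛 h𝔛 F n) V) hz).symm.trans (theta_natural h𝔛 h𝔜 f q tr V c))⟩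

include hf hF in
/-- **Higher direct images of coherent modules are coherent.** -/
theorem isCohF_rpush : FSch.IsCohF 𝔜 h𝔜.1 ((FSch.RpushF f h𝔛.1 h𝔜.1 q).obj F) := by
  have h := fun n => exists_rpush_level_coh f h𝔛 h𝔜 hf n _ (isCoh_pullSys 𝔛 h𝔛.1 F h𝔛 hF n) q
  choose H hH e using h
  let pr := fun n => (FSch.RpushF f h𝔛.1 h𝔜.1 q).map (un 𝔛 h𝔛 F n) ≫ (e n).some.hom
  refine isCohF_of_finFil (h𝔛 := h𝔜) (H := H) (pr := pr) (fun n => (hH n).1) (fun V hV => ?_) fun V hV n => ?_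
  · obtain ⟨D, m, s, hs, hfil⟩ := exists_finFil_rpush h𝔛 h𝔜 f hf F hF q hV
    exact ⟨D, m, s, hs, fun n y hy => hfil n y
      (RSFin.injective_of_mono (e n).some.hom V (hy.trans (map_zero _).symm))⟩
  · obtain ⟨m, tr, htr, hl⟩ := exists_lift_level h𝔛 h𝔜 f hf F hF q hV n
    refine ⟨m, (e m).some.inv ≫ (FSch.RpushF f h𝔛.1 h𝔜.1 q).map tr ≫ (e n).some.hom, ?_, fun x => ?_⟩
    · change ((FSch.RpushF f h𝔛.1 h𝔜.1 q).map (un 𝔛 h𝔛 F m) ≫ (e m).some.hom) ≫ _ = _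
      rw [Category.assoc, Iso.hom_inv_id_assoc, ← Category.assoc, ← Functor.map_comp, htr]
    · obtain ⟨y, hy⟩ := hl (ap (e m).some.inv V x)
      exact ⟨y, congrArg (ap (e n).some.hom V) hy⟩

end Groth.Agent.FSProper
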