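import Groth.Agent.FSProper.AlgLim
import Groth.Agent.FSProper.BaseChange
import Groth.Agent.FSProper.CohPush
import Groth.Agent.CohFinite.RPushCoh
import Groth.Agent.S3854
import Groth.Agent.S3862

/-!
# Completion of higher direct images along a proper morphism of schemes
-/

set_option autoImplicit false
set_option backward.isDefEq.respectTransparency false
set_option backward.isDefEq.respectTransparency.types false
set_option linter.style.haveILetI false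
set_option maxHeartbeats 2000000

universe u

open CategoryTheory CategoryTheory.Limits AlgebraicGeometry TopologicalSpace Opposite
open Groth.Agent.RSFin (sc ap)

noncomputable section

namespace Groth.Agent.FSProper

/-- Compatible sections of the levels come from a section of the inverse image. -/
lemma exists_pull_lift {Z : Scheme.{u}} [IsLocallyNoetherian Z] (𝔛 : FSch.Sys.{u}) (g : ∀ n, 𝔛.X n ⟶ Z)
    (hg : ∀ n, 𝔛.ι n ≫ g (n + 1) = g n) (h : 𝔛.IsLocNoethFormal) {G : Z.Modules} (hG : Coh.IsCoh G) (W : Z.Opens)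
    (a : ℕ → Γ(G, W)) (ha : ∀ m, FSchCoh.gS 𝔛 g hg h.1 G W m (a (m + 1)) = FSchCoh.gS 𝔛 g hg h.1 G W m (a m)) :
    ∃ x : ModSite.sect (O := 𝔛.Osh h.1) ((FSch.toSchemeMor 𝔛 h.1 g hg).pull.obj G) (g 0 ⁻¹ᵁ W),
      ∀ m, ap (FSchCoh.cmpK 𝔛 h.1 g hg G m) (g 0 ⁻¹ᵁ W) x = FSchCoh.gS 𝔛 g hg h.1 G W m (a m) := by
  obtain ⟨x', hx'⟩ := FSchCoh.ML_lift 𝔛 h.1 (FSchCoh.gMod 𝔛 g hg G) (g 0 ⁻¹ᵁ W)
    (fun m => FSchCoh.gS 𝔛 g hg h.1 G W m (a m))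
    fun m => (FSchCoh.gS_trans 𝔛 g hg h.1 G W m (a (m + 1))).trans (ha m)
  haveI := FSchCoh.isIso_cmpG 𝔛 g hg G h hG
  refine ⟨ap (inv (FSchCoh.cmpG 𝔛 h.1 g hg G)) _ x', fun m => ?_⟩
  refine (congrArg (fun z => ap z _ (ap (inv (FSchCoh.cmpG 𝔛 h.1 g hg G)) _ x'))
    (FSchCoh.cmpG_proj 𝔛 h.1 g hg G m)).symm.trans ?_
  refine ((RSFin.ap_comp (FSchCoh.cmpG 𝔛 h.1 g hg G) _ _ _).trans (congrArg (ap _ _) ?_)).trans (hx' m)
  exact (RSFin.ap_comp (inv (FSchCoh.cmpG 𝔛 h.1 g hg G)) _ _ x').symm.trans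
    ((congrArg (fun z => ap z _ x') (IsIso.inv_hom_id (FSchCoh.cmpG 𝔛 h.1 g hg G))).trans (RSFin.ap_id _ x'))

variable {X Y : Scheme.{u}} (f : X ⟶ Y) [IsProper f] (𝓘 : Y.IdealSheafData) (𝓚 : X.IdealSheafData)
  (h𝓚 : 𝓚 = 𝓘.comap f) (hpc : FSch.PowCompat f 𝓚 𝓘)

include h𝓚 in
/-- The completion of a proper morphism along inverse image ideals is proper. -/
theorem isProperHom_completionMap : FSch.IsProperHom (FSch.completionMap f 𝓚 𝓘 hpc) := by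
  subst h𝓚
  obtain ⟨hsq, hadic⟩ := S3862.result f 𝓘 hpc
  exact ⟨hadic, MorphismProperty.of_isPullback (P := @IsProper) (hsq 0) ‹IsProper f›⟩

variable (hXL : (FSch.completionAlong X 𝓚).IsLocNoethFormal) (hYL : (FSch.completionAlong Y 𝓘).IsLocNoethFormal)
  [HasInjectiveResolutions X.Modules] [HasInjectiveResolutions (FSch.ModF (FSch.completionAlong X 𝓚) hXL.1)]
  (q : ℕ)

/-- Higher direct images on the completion. -/
abbrev RC : FSch.ModF (FSch.completionAlong X 𝓚) hXL.1 ⥤ FSch.ModF (FSch.completionAlong Y 𝓘) hYL.1 :=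
  FSch.RpushF (FSch.completionMap f 𝓚 𝓘 hpc) hXL.1 hYL.1 q

/-- The trace on the completion of an open. -/
abbrev vhat (V : Y.Opens) : ((FSch.completionAlong Y 𝓘).X 0).Opens := FSch.completionToX Y 𝓘 0 ⁻¹ᵁ V

/-- The completion of a section. -/
abbrev etaV (G : Y.Modules) {V : Y.Opens} (a : Γ(G, V)) :
    ModSite.sect (O := (FSch.completionAlong Y 𝓘).Osh hYL.1) (cplF 𝓘 hYL G) (vhat 𝓘 V) :=
  ap ((toZ 𝓘 hYL).adj.unit.app G) V a

variable (Ψ : RC f 𝓘 𝓚 hpc hXL hYL q ⋙ (toZ 𝓘 hYL).push ≅ (toZ 𝓚 hXL).push ⋙ Coh.Rpush f q) (F : X.Modules)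

/-- The comparison. -/
def phiC : cplF 𝓘 hYL ((Coh.Rpush f q).obj F) ⟶ (RC f 𝓘 𝓚 hpc hXL hYL q).obj (cplF 𝓚 hXL F) :=
  ((toZ 𝓘 hYL).adj.homEquiv _ _).symm
    ((Coh.Rpush f q).map ((toZ 𝓚 hXL).adj.unit.app F) ≫ Ψ.inv.app (cplF 𝓚 hXL F))

lemma phiC_key_hom (k : ℕ) :
    (toZ 𝓘 hYL).adj.unit.app ((Coh.Rpush f q).obj F) ≫ (toZ 𝓘 hYL).push.map (phiC f 𝓘 𝓚 hpc hXL hYL q Ψ F) ≫
      (toZ 𝓘 hYL).push.map ((RC f 𝓘 𝓚 hpc hXL hYL q).map (un (FSch.completionAlong X 𝓚) hXL (cplF 𝓚 hXL F) k)) ≫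
      Ψ.hom.app (FL (FSch.completionAlong X 𝓚) hXL (cplF 𝓚 hXL F) k) =
    (Coh.Rpush f q).map (uK 𝓚 hXL F k) := by
  have h1 : (toZ 𝓘 hYL).adj.unit.app ((Coh.Rpush f q).obj F) ≫ (toZ 𝓘 hYL).push.map (phiC f 𝓘 𝓚 hpc hXL hYL q Ψ F) =
      (Coh.Rpush f q).map ((toZ 𝓚 hXL).adj.unit.app F) ≫ Ψ.inv.app (cplF 𝓚 hXL F) :=
    ((toZ 𝓘 hYL).adj.homEquiv_unit _ _ _).symm.trans (((toZ 𝓘 hYL).adj.homEquiv _ _).apply_symm_apply _)
  have h2 := Ψ.hom.naturality (un (FSch.completionAlong X 𝓚) hXL (cplF 𝓚 hXL F) k)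
  refine (Category.assoc _ _ _).symm.trans ((congrArg (· ≫ _) h1).trans ?_)
  refine (congrArg (fun z => ((Coh.Rpush f q).map ((toZ 𝓚 hXL).adj.unit.app F) ≫ Ψ.inv.app (cplF 𝓚 hXL F)) ≫ z) h2).trans ?_
  refine (Category.assoc _ _ _).trans ((congrArg (_ ≫ ·) (Iso.inv_hom_id_app_assoc Ψ _ _)).trans ?_)
  exact ((Coh.Rpush f q).map_comp _ _).symm

lemma phiC_key (k : ℕ) (V : Y.Opens) (a : Γ((Coh.Rpush f q).obj F, V)) :
    ap (Ψ.hom.app (FL (FSch.completionAlong X 𝓚) hXL (cplF 𝓚 hXL F) k)) V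
      (ap ((RC f 𝓘 𝓚 hpc hXL hYL q).map (un (FSch.completionAlong X 𝓚) hXL (cplF 𝓚 hXL F) k)) (vhat 𝓘 V)
        (ap (phiC f 𝓘 𝓚 hpc hXL hYL q Ψ F) (vhat 𝓘 V) (etaV 𝓘 hYL ((Coh.Rpush f q).obj F) a))) =
      ap ((Coh.Rpush f q).map (uK 𝓚 hXL F k)) V a :=
  congrArg (fun ψ => ap (X := Y.carrier) (O := Y.sheaf) ψ V a) (phiC_key_hom f 𝓘 𝓚 hpc hXL hYL q Ψ F k)

include h𝓚 in
/-- What dies in a level of the completion dies in that level of the higher direct image. -/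
lemma phiC_zero [IsLocallyNoetherian X] (hF : Coh.IsCoh F) (k : ℕ) (W : ((FSch.completionAlong Y 𝓘).X 0).Opens)
    (y : ModSite.sect (O := (FSch.completionAlong Y 𝓘).Osh hYL.1) (cplF 𝓘 hYL ((Coh.Rpush f q).obj F)) W)
    (hy : ap (FSchCoh.cmpK (FSch.completionAlong Y 𝓘) hYL.1 (FSch.completionToX Y 𝓘) (FSch.completionToX_comm Y 𝓘)
      ((Coh.Rpush f q).obj F) k) W y = 0) :
    ap ((RC f 𝓘 𝓚 hpc hXL hYL q).map (un (FSch.completionAlong X 𝓚) hXL (cplF 𝓚 hXL F) k)) W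
      (ap (phiC f 𝓘 𝓚 hpc hXL hYL q Ψ F) W y) = 0 := by
  have hFP : SheafOfModules.IsFinitePresentation (R := ModSite.ringSh X.sheaf) F := by
    haveI := hF.1
    exact QC.isFP_of_isQCoh_of_isFT hF.2
  have hP : FSch.IsCohF (FSch.completionAlong X 𝓚) hXL.1 (cplF 𝓚 hXL F) :=
    @PullFlat.isFinitePresentation_pull _ _ _ _ _ _ _ _ (toZ 𝓚 hXL) F hFP
  obtain ⟨H, -, ⟨e⟩⟩ := exists_rpush_level_coh (FSch.completionMap f 𝓚 𝓘 hpc) hXL hYL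
    (isProperHom_completionMap f 𝓘 𝓚 h𝓚 hpc) k _
    (FSchCoh.isCoh_pullSys (FSch.completionAlong X 𝓚) hXL.1 (cplF 𝓚 hXL F) hXL hP k) q
  let L := FSch.levelMor (FSch.completionAlong Y 𝓘) hYL.1 k
  let ψ : cplF 𝓘 hYL ((Coh.Rpush f q).obj F) ⟶ L.push.obj H := phiC f 𝓘 𝓚 hpc hXL hYL q Ψ F ≫
    (RC f 𝓘 𝓚 hpc hXL hYL q).map (un (FSch.completionAlong X 𝓚) hXL (cplF 𝓚 hXL F) k) ≫ e.hom
  have hψ : L.adj.unit.app _ ≫ L.push.map ((L.adj.homEquiv _ _).symm ψ) = ψ :=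
    (L.adj.homEquiv_unit _ _ _).symm.trans ((L.adj.homEquiv _ _).apply_symm_apply ψ)
  let lv := L.push.map ((FSchCoh.lvlPullIso (FSch.completionAlong Y 𝓘) hYL.1 (FSch.completionToX Y 𝓘)
    (FSch.completionToX_comm Y 𝓘) k).hom.app ((Coh.Rpush f q).obj F))
  haveI : IsIso lv := inferInstance
  have hu : ap (L.adj.unit.app (cplF 𝓘 hYL ((Coh.Rpush f q).obj F))) W y = 0 := by
    refine RSFin.injective_of_mono lv W (Eq.trans ?_ (map_zero _).symm)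
    rw [FSchCoh.cmpK_eq] at hy
    exact hy
  refine RSFin.injective_of_mono e.hom W (Eq.trans ?_ (map_zero _).symm)
  refine (congrArg (fun z => ap z W y) hψ).symm.trans ?_
  exact (congrArg (ap (L.push.map ((L.adj.homEquiv _ _).symm ψ)) W) hu).trans (map_zero _)

variable [IsLocallyNoetherian X] [IsLocallyNoetherian Y] (hF : Coh.IsCoh F) {V : Y.Opens} (hV : IsAffineOpen V)

include h𝓚 hF hV in
/-- The comparison is injective on the traces of affine opens. -/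
lemma phiC_injective : Function.Injective (ap (phiC f 𝓘 𝓚 hpc hXL hYL q Ψ F) (vhat 𝓘 V)) := by
  let CY := FSch.completionAlong Y 𝓘
  let G := (Coh.Rpush f q).obj F
  have hG : Coh.IsCoh G := CohFinite.isCoh_rpush f F hF q
  obtain ⟨⟨c, hc⟩, -⟩ := exists_alg_bounds f 𝓘 𝓚 h𝓚 hXL hF q hV
  refine (injective_iff_map_eq_zero _).2 fun y hy => ?_
  let cg := FSchCoh.cmpG CY hYL.1 (FSch.completionToX Y 𝓘) (FSch.completionToX_comm Y 𝓘) G
  haveI : IsIso cg := FSchCoh.isIso_cmpG CY (FSch.completionToX Y 𝓘) (FSch.completionToX_comm Y 𝓘) G hYL hG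
  refine RSFin.injective_of_mono cg (vhat 𝓘 V) (Eq.trans ?_ (map_zero _).symm)
  refine FSchCoh.ML_ext CY hYL.1 _ _ fun m => Eq.trans ?_ (map_zero _).symm
  have hp : ∀ n, FSchCoh.projM CY hYL.1 (FSchCoh.gMod CY (FSch.completionToX Y 𝓘) (FSch.completionToX_comm Y 𝓘) G)
      (vhat 𝓘 V) n (ap cg (vhat 𝓘 V) y) =
      ap (FSchCoh.cmpK CY hYL.1 (FSch.completionToX Y 𝓘) (FSch.completionToX_comm Y 𝓘) G n) (vhat 𝓘 V) y := fun n =>
    congrArg (fun z => ap z (vhat 𝓘 V) y)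
      (FSchCoh.cmpG_proj CY hYL.1 (FSch.completionToX Y 𝓘) (FSch.completionToX_comm Y 𝓘) G n)
  obtain ⟨a, ha⟩ := FSchCoh.gS_surjective CY (FSch.completionToX Y 𝓘) (FSch.completionToX_comm Y 𝓘) hYL.1 G V
    hG.1 hV (m + c) (ap (FSchCoh.cmpK CY hYL.1 (FSch.completionToX Y 𝓘) (FSch.completionToX_comm Y 𝓘) G (m + c))
      (vhat 𝓘 V) y)
  have hd := phiC_zero f 𝓘 𝓚 h𝓚 hpc hXL hYL q Ψ F hF (m + c) (vhat 𝓘 V)
    (y - etaV 𝓘 hYL G a)
    ((map_sub _ _ _).trans (sub_eq_zero.2 ((ap_cmpK 𝓘 hYL G (m + c) V a).trans ha).symm))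
  have h0 : ap ((RC f 𝓘 𝓚 hpc hXL hYL q).map (un (FSch.completionAlong X 𝓚) hXL (cplF 𝓚 hXL F) (m + c))) (vhat 𝓘 V)
      (ap (phiC f 𝓘 𝓚 hpc hXL hYL q Ψ F) (vhat 𝓘 V) (etaV 𝓘 hYL G a)) = 0 := by
    rw [map_sub, map_sub, hy, map_zero, zero_sub, neg_eq_zero] at hd
    exact hd
  have hm := hc (m + c) a ((phiC_key f 𝓘 𝓚 hpc hXL hYL q Ψ F (m + c) V a).symm.trans
    ((congrArg _ h0).trans (map_zero _)))
  refine (FSchCoh.proj_of_proj CY (FSch.completionToX Y 𝓘) (FSch.completionToX_comm Y 𝓘) hYL.1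
    (Nat.le_add_right m c) ((hp (m + c)).trans ha.symm)).trans ?_
  refine (gS_eq_zero_iff' 𝓘 hYL hG.1 hV m a).2 ?_
  exact SetLike.le_def.1 (Submodule.smul_mono (Ideal.pow_le_pow_right (by omega)) le_rfl) hm

include h𝓚 hF hV in
/-- The comparison is surjective on the traces of affine opens. -/
lemma phiC_surjective : Function.Surjective (ap (phiC f 𝓘 𝓚 hpc hXL hYL q Ψ F) (vhat 𝓘 V)) := by
  intro y
  let CX := FSch.completionAlong X 𝓚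
  let CY := FSch.completionAlong Y 𝓘
  let G := (Coh.Rpush f q).obj F
  let R := Coh.Rpush f q
  let RF := RC f 𝓘 𝓚 hpc hXL hYL q
  let 𝔉 := cplF 𝓚 hXL F
  have hG : Coh.IsCoh G := CohFinite.isCoh_rpush f F hF q
  have hFP : SheafOfModules.IsFinitePresentation (R := ModSite.ringSh X.sheaf) F := by
    haveI := hF.1
    exact QC.isFP_of_isQCoh_of_isFT hF.2
  have hP : FSch.IsCohF CX hXL.1 𝔉 := @PullFlat.isFinitePresentation_pull _ _ _ _ _ _ _ _ (toZ 𝓚 hXL) F hFP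
  obtain ⟨⟨c, hc⟩, c', hc'⟩ := exists_alg_bounds f 𝓘 𝓚 h𝓚 hXL hF q hV
  let θ : ∀ k, ModSite.sect (O := CY.Osh hYL.1) (RF.obj (FL CX hXL 𝔉 k)) (vhat 𝓘 V) →
      ModSite.sect (O := Y.sheaf) (R.obj (MK 𝓚 hXL F k)) V := fun k x => ap (Ψ.hom.app (FL CX hXL 𝔉 k)) V x
  let b : ∀ k, ModSite.sect (O := Y.sheaf) (R.obj (MK 𝓚 hXL F k)) V := fun k =>
    θ k (ap (RF.map (un CX hXL 𝔉 k)) (vhat 𝓘 V) y)
  have hbt : ∀ {j k : ℕ} (h : j ≤ k), ap (R.map ((toZ 𝓚 hXL).push.map (ARSys.tr (FSys hXL 𝔉) h))) V (b k) = b j := by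
    intro j k h
    have h1 : RF.map (un CX hXL 𝔉 k) ≫ RF.map (ARSys.tr (FSys hXL 𝔉) h) = RF.map (un CX hXL 𝔉 j) :=
      (RF.map_comp _ _).symm.trans (congrArg RF.map (cone_tr _ (fun k => un CX hXL 𝔉 k)
        (fun k => FSch.unit_levelTrans CX hXL.1 𝔉 k) h))
    refine Eq.trans ?_ (congrArg (fun z => θ j (ap z (vhat 𝓘 V) y)) h1)
    exact congrArg (fun ψ => ap (X := Y.carrier) (O := Y.sheaf) ψ V (ap (RF.map (un CX hXL 𝔉 k)) (vhat 𝓘 V) y))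
      (Ψ.hom.naturality (ARSys.tr (FSys hXL 𝔉) h)).symm
  have ha : ∀ k, ∃ a : Γ(G, V), ap (R.map (uK 𝓚 hXL F k)) V a = b k := fun k => by
    obtain ⟨a, ha⟩ := hc' k (b (k + c')) _ (uK_tr 𝓚 hXL F (Nat.le_add_right k c'))
    exact ⟨a, ha.trans (hbt _)⟩
  choose a ha using ha
  have hat : ∀ {j k : ℕ} (h : j ≤ k), ap (R.map (uK 𝓚 hXL F j)) V (a k) = b j := fun {j k} h =>
    (congrArg (fun z => ap (X := Y.carrier) (O := Y.sheaf) z V (a k))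
      ((congrArg R.map (uK_tr 𝓚 hXL F h)).symm.trans (R.map_comp _ _))).trans
      ((congrArg (ap (R.map ((toZ 𝓚 hXL).push.map (ARSys.tr (FSys hXL 𝔉) h))) V) (ha k)).trans (hbt h))
  have hcomp : ∀ m, FSchCoh.gS CY (FSch.completionToX Y 𝓘) (FSch.completionToX_comm Y 𝓘) hYL.1 G V m (a (m + 1 + c)) =
      FSchCoh.gS CY (FSch.completionToX Y 𝓘) (FSch.completionToX_comm Y 𝓘) hYL.1 G V m (a (m + c)) := fun m => by
    rw [← sub_eq_zero, ← FSchCoh.gS_sub]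
    refine (gS_eq_zero_iff' 𝓘 hYL hG.1 hV m _).2 ?_
    have h1 := hc (m + c) (a (m + 1 + c) - a (m + c)) ((map_sub _ _ _).trans (sub_eq_zero.2
      ((hat (by omega)).trans (hat le_rfl).symm)))
    exact SetLike.le_def.1 (Submodule.smul_mono (Ideal.pow_le_pow_right (by omega)) le_rfl) h1
  obtain ⟨x, hx⟩ := exists_pull_lift (FSch.completionAlong Y 𝓘) (FSch.completionToX Y 𝓘) (FSch.completionToX_comm Y 𝓘) hYL hG V (fun m => a (m + c)) hcomp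
  refine ⟨x, sub_eq_zero.1 (rpush_sep hXL hYL (FSch.completionMap f 𝓚 𝓘 hpc)
    (isProperHom_completionMap f 𝓘 𝓚 h𝓚 hpc) 𝔉 hP q _ fun m => ?_)⟩
  have hd := phiC_zero f 𝓘 𝓚 h𝓚 hpc hXL hYL q Ψ F hF m (vhat 𝓘 V)
    (x - etaV 𝓘 hYL G (a (m + c)))
    ((map_sub _ _ _).trans (sub_eq_zero.2 ((hx m).trans (ap_cmpK 𝓘 hYL G m V (a (m + c))).symm)))
  rw [map_sub, map_sub, sub_eq_zero] at hd
  rw [map_sub, sub_eq_zero]
  refine hd.trans (RSFin.injective_of_mono (O := Y.sheaf) (Ψ.hom.app (FL CX hXL 𝔉 m)) V ?_)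
  exact (phiC_key f 𝓘 𝓚 hpc hXL hYL q Ψ F m V (a (m + c))).trans (hat (Nat.le_add_right m c))

include h𝓚 hF in
/-- **The comparison is an isomorphism.** -/
theorem isIso_phiC : IsIso (phiC f 𝓘 𝓚 hpc hXL hYL q Ψ F) := by
  have hB := FSchCoh.isBasis_g (FSch.completionAlong Y 𝓘) (FSch.completionToX Y 𝓘)
  haveI : Mono (phiC f 𝓘 𝓚 hpc hXL hYL q Ψ F) := by
    refine RSFin.mono_of_injective _ fun W => (injective_iff_map_eq_zero _).2 fun y hy =>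
      RSFin.eq_zero_of_locally _ y fun p hp => ?_
    obtain ⟨_, ⟨V, hV, rfl⟩, hpV, hVW⟩ := Opens.isBasis_iff_nbhd.1 hB hp
    refine ⟨_, hVW, hpV, phiC_injective f 𝓘 𝓚 h𝓚 hpc hXL hYL q Ψ F hF hV ?_⟩
    rw [RSFin.ap_rs, hy, map_zero, map_zero]
  haveI : Epi (phiC f 𝓘 𝓚 hpc hXL hYL q Ψ F) :=
    FSchCoh.epi_of_basis hB _ (by rintro _ ⟨V, hV, rfl⟩; exact phiC_surjective f 𝓘 𝓚 h𝓚 hpc hXL hYL q Ψ F hF hV)
  exact isIso_of_mono_of_epi _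

omit hXL hYL in
include h𝓚 hF in
/-- **Completion commutes with higher direct images along proper morphisms.** -/
theorem nonempty_completion_rpush (hX : (FSch.completionAlong X 𝓚).IsFormal) (hY : (FSch.completionAlong Y 𝓘).IsFormal)
    [HasInjectiveResolutions (FSch.ModF (FSch.completionAlong X 𝓚) hX)] :
    Nonempty ((FSch.toSchemeMor (FSch.completionAlong Y 𝓘) hY (FSch.completionToX Y 𝓘) (FSch.completionToX_comm Y 𝓘)).pull.obj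
        ((Coh.Rpush f q).obj F) ≅
      (FSch.RpushF (FSch.completionMap f 𝓚 𝓘 hpc) hX hY q).obj
        ((FSch.toSchemeMor (FSch.completionAlong X 𝓚) hX (FSch.completionToX X 𝓚) (FSch.completionToX_comm X 𝓚)).pull.obj F)) := by
  have hXL := S3854.result X 𝓚
  have hYL := S3854.result Y 𝓘
  haveI : IsClosedImmersion (FSch.completionToX X 𝓚 0) := inferInstance
  haveI : IsClosedImmersion (FSch.completionToX Y 𝓘 0) := inferInstance
  obtain ⟨Ψ⟩ := nonempty_psi (FSch.completionMap f 𝓚 𝓘 hpc) hXL.1 hYL.1 f (FSch.completionToX X 𝓚)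
    (FSch.completionToX_comm X 𝓚) (FSch.completionToX Y 𝓘) (FSch.completionToX_comm Y 𝓘)
    (FSch.completionMap_sq f 𝓚 𝓘 hpc) q
  haveI := isIso_phiC f 𝓘 𝓚 h𝓚 hpc hXL hYL q Ψ F hF
  exact ⟨asIso (phiC f 𝓘 𝓚 hpc hXL hYL q Ψ F)⟩

end Groth.Agent.FSProper
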