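import Groth.Agent.RSFin.Sect
import Groth.Agent.ProjCech.CompareNat
import Groth.Agent.FlatCx.FlatBC
import Groth.Agent.SiteCoh.Terminal
import Groth.Agent.ProjCech.HUNat
import Mathlib.Algebra.Category.ModuleCat.ChangeOfRings

/-!
# Čech cochains of modules on a ringed space, as modules over a ring of scalars
-/

set_option autoImplicit false
set_option backward.isDefEq.respectTransparency false
set_option backward.isDefEq.respectTransparency.types false
set_option linter.style.haveILetI false

universe u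

open CategoryTheory CategoryTheory.Limits TopologicalSpace Opposite
open Groth.Agent.SiteCoh Groth.Agent.ProjCech Groth.Agent.RSFin

noncomputable section

namespace Groth.Agent.FSProper

variable {X : TopCat.{u}} {O : TopCat.Sheaf CommRingCat.{u} X} {A : Type u} [CommRing A]
  {W : Opens X} (φ : A →+* sc O W) {ι : Type u} (U : ι → Opens X) (hle : ∀ i, U i ≤ W)

include hle in
lemma tupleProd_le' {n : ℕ} (a : Fin (n + 1) → ι) : tupleProd U a ≤ W :=
  (leOfHom (Pi.π (U ∘ a) 0)).trans (hle (a 0))

/-- The scalars over an open inside. -/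
def scl {V : Opens X} (e : V ≤ W) : A →+* sc O V := (rsR e).comp φ

lemma rsR_scl {V V' : Opens X} (e : V ≤ W) (h : V' ≤ V) (a : A) :
    rsR h (scl φ e a) = scl φ (h.trans e) a :=
  rsR_rsR h e (φ a)

variable (F : ModSite.Mod O)

/-- Sections over an open inside, as a module over the scalars. -/
def secF {V : Opens X} (e : V ≤ W) : ModuleCat.{u} A :=
  letI : Module A (ModSite.sect F V) := Module.compHom (ModSite.sect F V) (scl φ e)
  ModuleCat.of A (ModSite.sect F V)

lemma secF_smul {V : Opens X} (e : V ≤ W) (a : A) (s : ModSite.sect F V) :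
    (a • (show (secF φ F e : Type u) from s)) = (show (secF φ F e : Type u) from scl φ e a • s) := rfl

/-- The cochains. -/
abbrev CoF (n : ℕ) : ModuleCat.{u} A :=
  ModuleCat.of A (∀ a : Fin (n + 1) → ι, (secF φ F (tupleProd_le' U hle a) : Type u))

/-- The presheaf of sections. -/
abbrev PF : (Opens X)ᵒᵖ ⥤ AddCommGrpCat.{u} := res' (𝟭 (Opens X)) (ModSite.toAb F)

/-- The differential. -/
def dF (n : ℕ) : (CoF φ U hle F n : Type u) →ₗ[A] (CoF φ U hle F (n + 1) : Type u) where
  toFun x := cd U (PF F) (n := n) x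
  map_add' x y := funext fun a => by
    show cd U (PF F) (n := n) (fun b => ((x b : ModSite.sect F (tupleProd U b)) + (y b : ModSite.sect F (tupleProd U b)) : ModSite.sect F (tupleProd U b))) a =
      cd U (PF F) (n := n) x a + cd U (PF F) (n := n) y a
    simp only [cd_sum, ← Finset.sum_add_distrib, ← smul_add]
    exact Finset.sum_congr rfl fun k _ => congrArg _ (map_add ((PF F).map (tupleDrop U a k).op).hom _ _)
  map_smul' r x := funext fun a => by
    change ∑ k : Fin (n + 2), (-1 : ℤ) ^ (k : ℕ) • rs F (leOfHom (tupleDrop U a k))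
        (scl φ (tupleProd_le' U hle (a ∘ k.succAbove)) r •
          (show ModSite.sect F (tupleProd U (a ∘ k.succAbove)) from x (a ∘ k.succAbove))) =
      scl φ (tupleProd_le' U hle a) r • ∑ k : Fin (n + 2), (-1 : ℤ) ^ (k : ℕ) •
        rs F (leOfHom (tupleDrop U a k)) (x (a ∘ k.succAbove) : ModSite.sect F (tupleProd U (a ∘ k.succAbove)))
    rw [Finset.smul_sum]
    refine Finset.sum_congr rfl fun k _ => ?_
    rw [rs_smul, rsR_scl, smul_comm]

/-- The Čech complex. -/
def CF : CochainComplex (ModuleCat.{u} A) ℕ :=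
  CochainComplex.of (CoF φ U hle F) (fun n => ModuleCat.ofHom (dF φ U hle F n)) fun n => by
    refine ModuleCat.hom_ext (LinearMap.ext fun x => ?_)
    exact cd_cd (Y := U) (P := PF F) (n := n) x

lemma CF_d (n : ℕ) : (CF φ U hle F).d n (n + 1) = ModuleCat.ofHom (dF φ U hle F n) :=
  CochainComplex.of_d (CoF φ U hle F) (fun n => ModuleCat.ofHom (dF φ U hle F n)) n

variable {F} {G : ModSite.Mod O}

/-- The map on cochains. -/
def mapF (f : F ⟶ G) (n : ℕ) : (CoF φ U hle F n : Type u) →ₗ[A] (CoF φ U hle G n : Type u) where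
  toFun x a := (ap f (tupleProd U a) (show ModSite.sect F (tupleProd U a) from x a) :)
  map_add' x y := funext fun a => map_add (ap f (tupleProd U a)) _ _
  map_smul' r x := funext fun a => map_smul (ap f (tupleProd U a)) _ _

lemma mapF_dF (f : F ⟶ G) (n : ℕ) (x : (CoF φ U hle F n : Type u)) :
    mapF φ U hle f (n + 1) (dF φ U hle F n x) = dF φ U hle G n (mapF φ U hle f n x) :=
  cmap_cd (resMap' (𝟭 (Opens X)) ((SheafOfModules.toSheaf _).map f)) (n := n) x

/-- The map of Čech complexes. -/
def CFmap (f : F ⟶ G) : CF φ U hle F ⟶ CF φ U hle G :=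
  CochainComplex.ofHom (fun n => ModuleCat.ofHom (mapF φ U hle f n)) fun n => by
    refine ModuleCat.hom_ext (LinearMap.ext fun x => ?_)
    change ((CF φ U hle G).d n (n + 1)).hom (mapF φ U hle f n x) =
      mapF φ U hle f (n + 1) (((CF φ U hle F).d n (n + 1)).hom x)
    rw [CF_d, CF_d]
    exact (mapF_dF φ U hle f n x).symm

lemma CFmap_f (f : F ⟶ G) (n : ℕ) (x : (CoF φ U hle F n : Type u)) :
    ((CFmap φ U hle f).f n).hom x = mapF φ U hle f n x := rfl

variable (F) in
/-- Comparison with the complex of abelian groups. -/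
def cmpF :
    ((forget₂ (ModuleCat.{u} A) AddCommGrpCat.{u}).mapHomologicalComplex _).obj (CF φ U hle F) ≅
      cechCx U (PF F) :=
  HomologicalComplex.Hom.isoOfComponents
    (fun n => AddEquiv.toAddCommGrpIso (cochainEquiv U (PF F) n).symm)
    fun i j hij => by
      obtain rfl : i + 1 = j := hij
      refine ConcreteCategory.hom_ext _ _ fun x => (cochainEquiv U (PF F) (i + 1)).injective ?_
      refine (cochainEquiv_d U (PF F) i _).trans ?_
      refine Eq.trans ?_ ((cochainEquiv U (PF F) (i + 1)).apply_symm_apply _).symm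
      change cd U (PF F) (cochainEquiv U (PF F) i ((cochainEquiv U (PF F) i).symm x)) =
        ((CF φ U hle F).d i (i + 1)).hom x
      rw [AddEquiv.apply_symm_apply, CF_d]
      rfl

lemma cmpF_natural (f : F ⟶ G) :
    ((forget₂ (ModuleCat.{u} A) AddCommGrpCat.{u}).mapHomologicalComplex _).map (CFmap φ U hle f) ≫
        (cmpF φ U hle G).hom =
      (cmpF φ U hle F).hom ≫ cechMap (Y := U) (resMap' (𝟭 (Opens X)) ((SheafOfModules.toSheaf _).map f)) := by
  refine HomologicalComplex.hom_ext _ _ fun n => ConcreteCategory.hom_ext _ _ fun x =>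
    (cochainEquiv U (PF G) n).injective ?_
  refine ((cochainEquiv U (PF G) n).apply_symm_apply _).trans ?_
  refine Eq.symm ((cochainEquiv_map _ n _).trans ?_)
  exact congrArg (cmap _) ((cochainEquiv U (PF F) n).apply_symm_apply x)

variable (F) in
/-- The homology as an abelian group. -/
def homF (p : ℕ) :
    (forget₂ (ModuleCat.{u} A) AddCommGrpCat.{u}).obj ((CF φ U hle F).homology p) ≅
      (cechCx U (PF F)).homology p :=
  (((CF φ U hle F).sc p).mapHomologyIso (forget₂ (ModuleCat.{u} A) AddCommGrpCat.{u})).symm ≪≫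
    HomologicalComplex.homologyMapIso (cmpF φ U hle F) p

lemma homF_natural (f : F ⟶ G) (p : ℕ) :
    (forget₂ (ModuleCat.{u} A) AddCommGrpCat.{u}).map (HomologicalComplex.homologyMap (CFmap φ U hle f) p) ≫
        (homF φ U hle G p).hom =
      (homF φ U hle F p).hom ≫ HomologicalComplex.homologyMap
        (cechMap (Y := U) (resMap' (𝟭 (Opens X)) ((SheafOfModules.toSheaf _).map f))) p := by
  have h1 := ShortComplex.mapHomologyIso_inv_naturality
    ((HomologicalComplex.shortComplexFunctor (ModuleCat.{u} A) (ComplexShape.up ℕ) p).map (CFmap φ U hle f))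
    (forget₂ (ModuleCat.{u} A) AddCommGrpCat.{u})
  have h2 := congrArg (fun k => HomologicalComplex.homologyMap k p) (cmpF_natural φ U hle f)
  simp only [HomologicalComplex.homologyMap_comp] at h2
  simp only [homF, Iso.trans_hom, Iso.symm_hom, HomologicalComplex.homologyMapIso_hom, Category.assoc]
  rw [← h2, ← Category.assoc]
  exact (congrArg (· ≫ _) h1).trans (Category.assoc _ _ _)

/-- Acyclicity on the intersections. -/
abbrev AcF (F : ModSite.Mod O) : Prop := Acy (𝟭 (Opens X)) U (ModSite.toAb F)

/-- **Classes of Čech cocycles**, naturally in the module. -/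
theorem exists_cls (p i k : ℕ) (hi : (ComplexShape.up ℕ).prev p = i) (hk : (ComplexShape.up ℕ).next p = k) :
    ∃ cl : ∀ M : ModSite.Mod O, AcF U M →
        (LinearMap.ker ((CF φ U hle M).d p k).hom →+ CohSite.HU (ModSite.toAb M) p (iSup U)),
      (∀ M hM, Function.Surjective (cl M hM)) ∧
      (∀ M hM z, cl M hM z = 0 ↔ (z : ((CF φ U hle M).X p : Type u)) ∈ LinearMap.range ((CF φ U hle M).d i p).hom) ∧
      ∀ (M N : ModSite.Mod O) (hM : AcF U M) (hN : AcF U N) (f : M ⟶ N)
        (z : LinearMap.ker ((CF φ U hle M).d p k).hom)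
        (h : ((CFmap φ U hle f).f p).hom z.1 ∈ LinearMap.ker ((CF φ U hle N).d p k).hom),
        huMap (iSup U) ((SheafOfModules.toSheaf _).map f) p (cl M hM z) = cl N hN ⟨_, h⟩ := by
  subst hi hk
  obtain ⟨e, he⟩ := cech_equiv_natural (Y := U) (opensData U)
    (fun I hI m => haveI := hI; cechExact_sheaf_injective (Opens.grothendieckTopology X) I U m) p
  let g : ∀ (M : ModSite.Mod O), AcF U M →
      (((CF φ U hle M).homology p : Type u) ≃+ CohSite.HU (ModSite.toAb M) p (iSup U)) := fun M hM =>
    ((homF φ U hle M p).addCommGroupIsoToAddEquiv).trans (e _ hM)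
  refine ⟨fun M hM => (g M hM).toAddMonoidHom.comp
    (((CF φ U hle M).homologyπ p).hom.toAddMonoidHom.comp
      ((CF φ U hle M).sc p).moduleCatCyclesIso.inv.hom.toAddMonoidHom), ?_, ?_, ?_⟩
  · intro M hM y
    obtain ⟨x, hx⟩ := FlatCx.homologyπ_surjective (CF φ U hle M) ((g M hM).symm y)
    refine ⟨⟨(CF φ U hle M).iCycles p x, FlatCx.d_iCycles _ x⟩, ?_⟩
    have hx' : ((CF φ U hle M).sc p).moduleCatCyclesIso.inv.hom
        ⟨(CF φ U hle M).iCycles p x, FlatCx.d_iCycles _ x⟩ = x :=
      FlatCx.iCycles_injective _ (ShortComplex.moduleCatCyclesIso_inv_iCycles_apply ((CF φ U hle M).sc p) _)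
    change g M hM (((CF φ U hle M).homologyπ p).hom _) = y
    exact (congrArg (g M hM) ((congrArg ((CF φ U hle M).homologyπ p).hom hx').trans hx)).trans
      ((g M hM).apply_symm_apply y)
  · intro M hM z
    change g M hM (((CF φ U hle M).homologyπ p).hom _) = 0 ↔ _
    rw [AddEquiv.map_eq_zero_iff]
    refine (FlatCx.homologyπ_eq_zero_iff _ rfl _).trans (iff_of_eq (congrArg (· ∈ _) ?_))
    exact ShortComplex.moduleCatCyclesIso_inv_iCycles_apply ((CF φ U hle M).sc p) z
  · intro M N hM hN f z h
    change _ = g N hN (((CF φ U hle N).homologyπ p).hom _)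
    refine ((he _ _ hM hN ((SheafOfModules.toSheaf _).map f) _).symm.trans ?_)
    refine congrArg (e _ hN) ((ConcreteCategory.congr_hom (homF_natural φ U hle f p) _).symm.trans ?_)
    refine congrArg (homF φ U hle N p).hom ?_
    refine (FlatCx.homologyMap_homologyπ (CFmap φ U hle f) _).trans ?_
    refine congrArg ((CF φ U hle N).homologyπ p).hom (FlatCx.iCycles_injective _ ?_)
    refine (FlatCx.iCycles_cyclesMap (CFmap φ U hle f) _).trans ?_
    exact (congrArg _ (ShortComplex.moduleCatCyclesIso_inv_iCycles_apply ((CF φ U hle M).sc p) z)).trans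
      (ShortComplex.moduleCatCyclesIso_inv_iCycles_apply ((CF φ U hle N).sc p) ⟨_, h⟩).symm

end Groth.Agent.FSProper
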