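import Mathlib.RingTheory.AdicCompletion.Basic
import Mathlib.LinearAlgebra.Finsupp.LinearCombination
import Mathlib.Algebra.Module.Submodule.Pointwise

/-!
# Complexes of adically complete modules with finite graded cohomology

For a pair of maps `P ⟶ Q ⟶ R` of `J`-adically complete modules, finiteness of the cohomology of the
associated graded pair (`GrFin`) gives an Artin–Rees bound for the image of `P` and finiteness of
the cohomology at `Q`.
-/

set_option autoImplicit false

universe u

noncomputable section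

namespace Groth.Agent.FSProper

variable {A : Type u} [CommRing A] (J : Ideal A)
variable {P Q R : Type u} [AddCommGroup P] [Module A P] [AddCommGroup Q] [Module A Q]
  [AddCommGroup R] [Module A R]

variable (P) in
/-- The `k`-th step of the adic filtration. -/
abbrev fil (k : ℕ) : Submodule A P := J ^ k • ⊤

lemma fil_zero : fil J P 0 = ⊤ := by simp [fil]

lemma fil_anti {m n : ℕ} (h : m ≤ n) : fil J P n ≤ fil J P m :=
  Submodule.smul_mono (Ideal.pow_le_pow_right h) le_rfl

lemma smul_fil (m n : ℕ) : J ^ m • fil J P n = fil J P (m + n) := by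
  simp only [fil, pow_add, ← smul_eq_mul, Submodule.smul_assoc]

lemma smul_fil_one (n : ℕ) : J • fil J P n = fil J P (n + 1) := by
  rw [Nat.add_comm, ← smul_fil, pow_one]

lemma map_fil_le (f : P →ₗ[A] Q) (k : ℕ) : (fil J P k).map f ≤ fil J Q k := by
  rw [fil, Submodule.map_smul'']
  exact Submodule.smul_mono le_rfl le_top

lemma fil_sep [IsHausdorff J P] {x : P} (h : ∀ k, x ∈ fil J P k) : x = 0 :=
  IsHausdorff.haus' x fun k => SModEq.zero.2 (h k)

/-- A series whose terms go deep in the filtration has a sum. -/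
lemma exists_series [IsPrecomplete J P] (w : ℕ → P) (c : ℕ) (hw : ∀ m, w m ∈ fil J P (m - c)) :
    ∃ L : P, ∀ N, L - ∑ m ∈ Finset.range N, w m ∈ fil J P (N - c) := by
  let f : ℕ → P := fun n => ∑ m ∈ Finset.range (n + c), w m
  have hsum : ∀ {a b : ℕ}, a ≤ b → ∑ m ∈ Finset.range b, w m - ∑ m ∈ Finset.range a, w m ∈ fil J P (a - c) := by
    intro a b hab
    rw [Finset.sum_range_sub_sum_range hab]
    refine Submodule.sum_mem _ fun m hm => fil_anti J ?_ (hw m)
    have := (Finset.mem_filter.1 hm).2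
    omega
  obtain ⟨L, hL⟩ := IsPrecomplete.prec' (I := J) f (fun {m n} hmn => by
    refine (SModEq.sub_mem.2 ?_).symm
    exact fil_anti J (by omega) (hsum (show m + c ≤ n + c by omega)))
  refine ⟨L, fun N => ?_⟩
  have h1 : L - f (N - c) ∈ fil J P (N - c) := SModEq.sub_mem.1 (hL (N - c)).symm
  have h2 : f (N - c) - ∑ m ∈ Finset.range N, w m ∈ fil J P (N - c) :=
    hsum (show N ≤ N - c + c by omega)
  simpa using Submodule.add_mem _ h1 h2

variable (d : P →ₗ[A] Q) (d' : Q →ₗ[A] R)

/-- Finiteness of the cohomology of the associated graded pair, phrased with filtered submodules. -/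
def GrFin : Prop :=
  ∀ S : ℕ → Submodule A Q, (∀ k, S k ≤ fil J Q k) → (∀ k, S k ≤ (fil J R (k + 1)).comap d') →
    (∀ k, fil J Q (k + 1) ≤ S k) → (∀ k, (fil J P k).map d ≤ S k) → (∀ k, J • S k ≤ S (k + 1)) →
    ∃ (D : ℕ) (G : ℕ → Finset Q), (∀ j, (G j : Set Q) ⊆ S j) ∧
      ∀ k, S k ≤ (⨆ (j : ℕ) (_ : j ≤ k) (_ : j ≤ D), J ^ (k - j) • Submodule.span A (G j : Set Q)) ⊔
        (fil J P k).map d ⊔ fil J Q (k + 1)

variable {J d d'}

lemma iterate_smul_le {S : ℕ → Submodule A Q} (h : ∀ k, J • S k ≤ S (k + 1)) (m k : ℕ) :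
    J ^ m • S k ≤ S (k + m) := by
  induction m with
  | zero => simp
  | succ m ih =>
    rw [pow_succ', ← smul_eq_mul, Submodule.smul_assoc]
    exact (Submodule.smul_mono le_rfl ih).trans (h (k + m))

/-- One step of the Artin–Rees bound. -/
lemma exists_step (hd : d' ∘ₗ d = 0) (hfin : GrFin J d d') :
    ∃ D : ℕ, ∀ k, LinearMap.range d ⊓ fil J Q k ≤
      ((fil J P (k - D)).map d ⊓ fil J Q k) ⊔ fil J Q (k + 1) := by
  let T : ℕ → ℕ → Submodule A Q := fun r k => ((fil J P (k - r)).map d ⊓ fil J Q k) ⊔ fil J Q (k + 1)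
  have hT : ∀ r k, J • T r k ≤ T r (k + 1) := fun r k => by
    simp only [T, Submodule.smul_sup]
    refine sup_le_sup (le_inf ((Submodule.smul_mono le_rfl inf_le_left).trans ?_)
      ((Submodule.smul_mono le_rfl inf_le_right).trans ?_)) ?_
    · rw [← Submodule.map_smul'', smul_fil_one]
      exact Submodule.map_mono (fil_anti J (by omega))
    · rw [smul_fil_one]
    · rw [smul_fil_one]
  let S : ℕ → Submodule A Q := fun k => T k k
  have htop : ∀ {r k : ℕ}, k ≤ r → T r k = (LinearMap.range d ⊓ fil J Q k) ⊔ fil J Q (k + 1) := fun {r k} h => by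
    simp only [T, Nat.sub_eq_zero_of_le h, fil_zero, Submodule.map_top]
  obtain ⟨D, G, hG, hgen⟩ := hfin S
    (fun k => sup_le inf_le_right (fil_anti J k.le_succ))
    (fun k => sup_le (inf_le_left.trans fun x hx => by
      obtain ⟨p, -, rfl⟩ := hx
      rw [Submodule.mem_comap, ← LinearMap.comp_apply, hd]
      exact zero_mem _) (Submodule.map_le_iff_le_comap.1 (map_fil_le J d' (k + 1))))
    (fun k => le_sup_right)
    (fun k => (le_inf (Submodule.map_mono (fil_anti J (Nat.sub_le _ _))) (map_fil_le J d k)).trans le_sup_left)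
    (fun k => (hT k k).trans (sup_le_sup_right
      (inf_le_inf_right _ (Submodule.map_mono (fil_anti J (by omega)))) _))
  refine ⟨D, fun k => ?_⟩
  refine le_trans (le_trans ?_ (hgen k)) ?_
  · simp only [S, htop le_rfl]
    exact le_sup_left
  · refine sup_le (sup_le (iSup_le fun j => iSup_le fun hj => iSup_le fun hjD => ?_) ?_) le_sup_right
    · have h1 : Submodule.span A (G j : Set Q) ≤ T D j := by
        rw [htop hjD]
        refine Submodule.span_le.2 ((hG j).trans ?_)
        simp only [S, htop le_rfl]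
        exact Set.Subset.rfl
      refine (Submodule.smul_mono le_rfl h1).trans ?_
      have := iterate_smul_le (hT D) (k - j) j
      rwa [Nat.add_sub_cancel' hj] at this
    · exact (le_inf (Submodule.map_mono (fil_anti J (Nat.sub_le _ _))) (map_fil_le J d k)).trans le_sup_left

variable [IsPrecomplete J P] [IsHausdorff J Q]

/-- **Artin–Rees** for the image: deep elements of the image come from deep elements. -/
theorem exists_artinRees (hd : d' ∘ₗ d = 0) (hfin : GrFin J d d') :
    ∃ D : ℕ, ∀ k, LinearMap.range d ⊓ fil J Q k ≤ (fil J P (k - D)).map d := by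
  obtain ⟨D, hD⟩ := exists_step hd hfin
  refine ⟨D, fun k y hy => ?_⟩
  have step : ∀ m (z : Q), z ∈ LinearMap.range d ⊓ fil J Q (k + m) →
      ∃ w ∈ fil J P (k + m - D), z - d w ∈ LinearMap.range d ⊓ fil J Q (k + m + 1) := by
    intro m z hz
    obtain ⟨a, ⟨ha, -⟩, b, hb, hab⟩ := Submodule.mem_sup.1 (hD _ hz)
    obtain ⟨w, hw, rfl⟩ := ha
    refine ⟨w, hw, ?_, ?_⟩
    · exact Submodule.sub_mem _ hz.1 ⟨w, rfl⟩
    · rw [← hab, add_sub_cancel_left]
      exact hb
  choose! W hW hW' using step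
  let Z : ℕ → Q := fun m => Nat.rec y (fun i z => z - d (W i z)) m
  have hZ : ∀ m, Z m ∈ LinearMap.range d ⊓ fil J Q (k + m) := fun m => by
    induction m with
    | zero => exact hy
    | succ m ih => exact hW' m (Z m) ih
  have hZsum : ∀ N, Z N = y - d (∑ m ∈ Finset.range N, W m (Z m)) := fun N => by
    induction N with
    | zero => simp [Z]
    | succ N ih =>
      rw [Finset.sum_range_succ, map_add, ← sub_sub, ← ih]
  have hw : ∀ m, W m (Z m) ∈ fil J P (m - D) := fun m => fil_anti J (by omega) (hW m _ (hZ m))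
  obtain ⟨L, hL⟩ := exists_series J _ D hw
  refine ⟨L, ?_, ?_⟩
  · have h1 := hL 0
    have h2 := hL (D + 1)
    have h3 : ∑ m ∈ Finset.range (D + 1), W m (Z m) ∈ fil J P (k - D) :=
      Submodule.sum_mem _ fun m _ => fil_anti J (by omega) (hW m _ (hZ m))
    obtain ⟨N, hN⟩ : ∃ N, k - D ≤ N - D := ⟨k, le_rfl⟩
    have h4 : ∑ m ∈ Finset.range N, W m (Z m) ∈ fil J P (k - D) :=
      Submodule.sum_mem _ fun m _ => fil_anti J (by omega) (hW m _ (hZ m))
    simpa using Submodule.add_mem _ (fil_anti J hN (hL N)) h4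
  · refine sub_eq_zero.1 (fil_sep J fun N => ?_)
    have h1 : d (L - ∑ m ∈ Finset.range (N + D), W m (Z m)) ∈ fil J Q N :=
      map_fil_le J d N ⟨_, fil_anti J (by omega) (hL (N + D)), rfl⟩
    have h2 : Z (N + D) ∈ fil J Q N := fil_anti J (by omega) (hZ (N + D)).2
    rw [map_sub] at h1
    convert Submodule.sub_mem _ h1 h2 using 1
    rw [hZsum]
    abel

/-- Elements mapping deep into the filtration are congruent to elements of the kernel. -/
theorem exists_lift (hd : d' ∘ₗ d = 0) (hfin : GrFin J d d') :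
    ∃ D : ℕ, ∀ (n : ℕ) (x : P), d x ∈ fil J Q (n + D) → ∃ y : P, d y = 0 ∧ x - y ∈ fil J P n := by
  obtain ⟨D, hD⟩ := exists_artinRees hd hfin
  refine ⟨D, fun n x hx => ?_⟩
  obtain ⟨w, hw, he⟩ := hD (n + D) ⟨⟨x, rfl⟩, hx⟩
  refine ⟨x - w, by rw [map_sub, he, sub_self], ?_⟩
  rw [sub_sub_cancel]
  exact fil_anti J (by omega) hw

/-- The image is closed. -/
theorem mem_range_of_forall (hd : d' ∘ₗ d = 0) (hfin : GrFin J d d') {y : Q}
    (hy : ∀ k, y ∈ LinearMap.range d ⊔ fil J Q k) : y ∈ LinearMap.range d := by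
  obtain ⟨D, hD⟩ := exists_artinRees hd hfin
  have h : ∀ k, ∃ w : P, y - d w ∈ fil J Q k := fun k => by
    obtain ⟨-, ⟨w, rfl⟩, b, hb, hab⟩ := Submodule.mem_sup.1 (hy k)
    exact ⟨w, by rw [← hab, add_sub_cancel_left]; exact hb⟩
  choose w hw using h
  have hv : ∀ k, ∃ v ∈ fil J P (k - D), d v = d (w (k + 1) - w k) := fun k =>
    hD k ⟨⟨_, rfl⟩, by
      rw [map_sub]
      simpa using Submodule.sub_mem _ (hw k) (fil_anti J k.le_succ (hw (k + 1)))⟩
  choose v hv hv' using hv
  obtain ⟨L, hL⟩ := exists_series J v D hv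
  have hs : ∀ N, d (∑ m ∈ Finset.range N, v m) = d (w N) - d (w 0) := fun N => by
    rw [map_sum]
    simp_rw [hv', map_sub]
    exact Finset.sum_range_sub (fun m => d (w m)) N
  refine ⟨w 0 + L, (sub_eq_zero.1 (fil_sep J fun N => ?_)).symm⟩
  have h1 : d (L - ∑ m ∈ Finset.range (N + D), v m) ∈ fil J Q N :=
    map_fil_le J d N ⟨_, fil_anti J (by omega) (hL (N + D)), rfl⟩
  have h2 := fil_anti J (show N ≤ N + D by omega) (hw (N + D))
  rw [map_sub, hs] at h1
  convert Submodule.sub_mem _ h2 h1 using 1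
  rw [map_add]
  abel

variable [IsPrecomplete J Q] [IsHausdorff J R]

/-- Compatible classes modulo the filtration come from a cocycle. -/
theorem exists_cocycle_of_compatible {S : Type u} [AddCommGroup S] [Module A S]
    (d'' : R →ₗ[A] S) (hd' : d'' ∘ₗ d' = 0) (hfin : GrFin J d' d'') (y : ℕ → Q)
    (hy : ∀ n, d' (y n) ∈ fil J R (n + 1))
    (hc : ∀ n, y (n + 1) - y n ∈ LinearMap.range d ⊔ fil J Q (n + 1)) (hd : d' ∘ₗ d = 0) :
    ∃ x : Q, d' x = 0 ∧ ∀ n, x - y n ∈ LinearMap.range d ⊔ fil J Q (n + 1) := by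
  obtain ⟨D, hD⟩ := exists_lift hd' hfin
  have up : ∀ {a b : ℕ}, a ≤ b → LinearMap.range d ⊔ fil J Q b ≤ LinearMap.range d ⊔ fil J Q a :=
    fun {a b} hab => sup_le_sup le_rfl (fil_anti J hab)
  have hy' : ∀ m n, y (n + m) - y n ∈ LinearMap.range d ⊔ fil J Q (n + 1) := fun m n => by
    induction m with
    | zero => simp
    | succ m ih =>
      have h := up (show n + 1 ≤ n + m + 1 by omega) (hc (n + m))
      simpa [Nat.add_assoc] using Submodule.add_mem _ h ih
  have hl : ∀ n, ∃ c : Q, d' c = 0 ∧ y (n + D) - c ∈ fil J Q (n + 1) := fun n =>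
    hD (n + 1) (y (n + D)) (fil_anti J (by omega) (hy (n + D)))
  choose c hc0 hc1 using hl
  have hcy : ∀ n, c n - y n ∈ LinearMap.range d ⊔ fil J Q (n + 1) := fun n => by
    simpa using Submodule.sub_mem _ (hy' D n) (Submodule.mem_sup_right (hc1 n))
  have hcc : ∀ n, ∃ w : P, c (n + 1) - c n - d w ∈ fil J Q (n + 1) := fun n => by
    have h := Submodule.sub_mem _ (Submodule.add_mem _
      (up (show n + 1 ≤ n + 2 by omega) (hcy (n + 1))) (hc n)) (hcy n)
    obtain ⟨-, ⟨w, rfl⟩, b, hb, hab⟩ := Submodule.mem_sup.1 h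
    refine ⟨w, ?_⟩
    convert hb using 1
    rw [← sub_eq_of_eq_add' hab.symm]
    abel
  choose w hw using hcc
  let f : ℕ → Q := fun n => c (n + 1) - c n - d (w n)
  obtain ⟨L, hL⟩ := exists_series J f 0 (fun m => fil_anti J (by omega) (hw m))
  have hsum : ∀ N, ∑ m ∈ Finset.range N, f m = c N - c 0 - d (∑ m ∈ Finset.range N, w m) := fun N => by
    show ∑ m ∈ Finset.range N, (c (m + 1) - c m - d (w m)) = _
    rw [Finset.sum_sub_distrib, Finset.sum_range_sub, map_sum]
  have hdd : ∀ p, d' (d p) = 0 := fun p => by rw [← LinearMap.comp_apply, hd]; rfl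
  refine ⟨c 0 + L, ?_, fun n => ?_⟩
  · refine fil_sep J fun N => ?_
    have h1 := map_fil_le J d' N ⟨_, hL N, rfl⟩
    rw [map_sub, hsum, map_sub, map_sub, hc0, hc0, hdd] at h1
    simpa [map_add, hc0] using h1
  · have h1 := Submodule.mem_sup_right (S := LinearMap.range d) (hL (n + 1))
    rw [hsum] at h1
    have h2 : d (∑ m ∈ Finset.range (n + 1), w m) ∈ LinearMap.range d ⊔ fil J Q (n + 1) :=
      Submodule.mem_sup_left ⟨_, rfl⟩
    have h3 := Submodule.add_mem _ (Submodule.sub_mem _ h1 h2)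
      (Submodule.add_mem _ (up (show n + 1 ≤ n + 2 by omega) (hcy (n + 1))) (hc n))
    convert h3 using 1
    simp only [Nat.sub_zero]
    abel

omit [IsPrecomplete J Q] in
/-- The cocycles are generated, with a good filtration, by finitely many of them modulo the image. -/
theorem exists_generators [IsAdicComplete J A] (hd : d' ∘ₗ d = 0) (hfin : GrFin J d d') :
    ∃ (D : ℕ) (ι : Type u) (_ : Fintype ι) (z : ι → Q), (∀ i, d' (z i) = 0) ∧
      ∀ k, LinearMap.ker d' ⊓ fil J Q k ≤
        J ^ (k - D) • Submodule.span A (Set.range z) ⊔ (fil J P k).map d := by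
  classical
  let S : ℕ → Submodule A Q := fun k => (LinearMap.ker d' ⊓ fil J Q k) ⊔ fil J Q (k + 1)
  have hker : ∀ k, (fil J P k).map d ≤ LinearMap.ker d' ⊓ fil J Q k := fun k =>
    le_inf (fun x hx => by
      obtain ⟨p, -, rfl⟩ := hx
      rw [LinearMap.mem_ker, ← LinearMap.comp_apply, hd]
      rfl) (map_fil_le J d k)
  obtain ⟨D, G, hG, hgen⟩ := hfin S (fun k => sup_le inf_le_right (fil_anti J k.le_succ))
    (fun k => sup_le (fun x hx => by
      rw [Submodule.mem_comap, LinearMap.mem_ker.1 hx.1]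
      exact zero_mem _) (Submodule.map_le_iff_le_comap.1 (map_fil_le J d' (k + 1))))
    (fun k => le_sup_right) (fun k => (hker k).trans le_sup_left) (fun k => by
      simp only [S, Submodule.smul_sup]
      refine sup_le_sup (le_inf ((Submodule.smul_mono le_rfl inf_le_left).trans Submodule.smul_le_right)
        ((Submodule.smul_mono le_rfl inf_le_right).trans ?_)) ?_
      · rw [smul_fil_one]
      · rw [smul_fil_one])
  have hz : ∀ j, ∀ g ∈ G j, ∃ z, z ∈ LinearMap.ker d' ∧ z ∈ fil J Q j ∧ g - z ∈ fil J Q (j + 1) := fun j g hg => by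
    obtain ⟨a, ⟨ha, ha'⟩, b, hb, rfl⟩ := Submodule.mem_sup.1 (hG j hg)
    exact ⟨a, ha, ha', by rwa [add_sub_cancel_left]⟩
  choose z hzk hzf hz1 using hz
  let ι : Type u := Σ j : ULift.{u} (Fin (D + 1)), {g : Q // g ∈ G (j.down : ℕ)}
  haveI : Fintype ι := inferInstance
  let Z : ι → Q := fun i => z (i.1.down : ℕ) i.2.1 i.2.2
  have hZ : ∀ i, d' (Z i) = 0 := fun i => hzk _ _ _
  refine ⟨D, ι, ‹_›, Z, hZ, fun k y hy => ?_⟩
  let lc := Fintype.linearCombination A Z
  let T : ℕ → Submodule A Q := fun m =>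
    (Submodule.pi (Set.univ : Set ι) fun _ => (J ^ (m - D) : Submodule A A)).map lc
  have hTker : ∀ m, T m ≤ LinearMap.ker d' := fun m x hx => by
    obtain ⟨a, -, rfl⟩ := hx
    simp [lc, Fintype.linearCombination_apply, hZ]
  have step : ∀ m (x : Q), x ∈ LinearMap.ker d' ⊓ fil J Q m → ∃ a : ι → A, (∀ i, a i ∈ J ^ (m - D)) ∧
      ∃ w ∈ fil J P m, x - lc a - d w ∈ LinearMap.ker d' ⊓ fil J Q (m + 1) := by
    intro m x hx
    have hle : (⨆ (j : ℕ) (_ : j ≤ m) (_ : j ≤ D), J ^ (m - j) • Submodule.span A (G j : Set Q)) ⊔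
        (fil J P m).map d ⊔ fil J Q (m + 1) ≤ T m ⊔ (fil J P m).map d ⊔ fil J Q (m + 1) := by
      refine sup_le (sup_le (iSup_le fun j => iSup_le fun hj => iSup_le fun hjD => ?_)
        (le_sup_right.trans le_sup_left)) le_sup_right
      refine Submodule.smul_le.2 fun a ha g hg => ?_
      induction hg using Submodule.span_induction with
      | mem g hg =>
        have e : a • g = a • (z j g hg) + a • (g - z j g hg) := by rw [← smul_add, add_sub_cancel]
        rw [e]
        refine Submodule.add_mem _ (Submodule.mem_sup_left (Submodule.mem_sup_left ?_)) (Submodule.mem_sup_right ?_)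
        · refine ⟨Pi.single ⟨⟨⟨j, by omega⟩⟩, g, hg⟩ a, fun i _ => ?_, ?_⟩
          · rw [SetLike.mem_coe]
            by_cases h : i = ⟨⟨⟨j, by omega⟩⟩, g, hg⟩
            · subst h
              rw [Pi.single_eq_same]
              exact Ideal.pow_le_pow_right (by omega) ha
            · rw [Pi.single_eq_of_ne h]
              exact zero_mem _
          · exact Fintype.linearCombination_apply_single A Z _ a
        · have := Submodule.smul_mem_smul ha (hz1 j g hg)
          rw [smul_fil] at this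
          exact fil_anti J (by omega) this
      | zero => simp
      | add g g' _ _ h h' => rw [smul_add]; exact Submodule.add_mem _ h h'
      | smul c g _ h => rw [smul_comm]; exact Submodule.smul_mem _ c h
    obtain ⟨y₁, hy₁, b, hb, hsum⟩ := Submodule.mem_sup.1 (hle (hgen m (Submodule.mem_sup_left hx)))
    obtain ⟨-, ⟨a, ha, rfl⟩, -, ⟨w, hw, rfl⟩, rfl⟩ := Submodule.mem_sup.1 hy₁
    refine ⟨a, fun i => ha i (Set.mem_univ i), w, hw,
      Submodule.sub_mem _ (Submodule.sub_mem _ hx.1 (hTker m ⟨a, ha, rfl⟩)) (hker m ⟨w, hw, rfl⟩).1, ?_⟩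
    rw [show x - lc a - d w = b by rw [← hsum]; abel]
    exact hb
  choose! a ha w hw hstep using step
  let y' : ℕ → Q := fun m => Nat.rec y (fun i x => x - lc (a (k + i) x) - d (w (k + i) x)) m
  have hy' : ∀ m, y' m ∈ LinearMap.ker d' ⊓ fil J Q (k + m) := fun m => by
    induction m with
    | zero => exact hy
    | succ m ih => exact hstep (k + m) _ ih
  have hsum : ∀ N, y = y' N + lc (∑ m ∈ Finset.range N, a (k + m) (y' m)) +
      d (∑ m ∈ Finset.range N, w (k + m) (y' m)) := fun N => by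
    induction N with
    | zero => simp [y']
    | succ N ih =>
      rw [Finset.sum_range_succ, Finset.sum_range_succ, map_add, map_add]
      conv_lhs => rw [ih]
      change _ = (y' N - lc (a (k + N) (y' N)) - d (w (k + N) (y' N))) + _ + _
      abel
  have hfA : ∀ n, fil J A n = J ^ n := fun n => by
    simp only [fil, smul_eq_mul, Ideal.mul_top]
  have haS : ∀ i m, a (k + m) (y' m) i ∈ fil J A (m - D) := fun i m => by
    rw [hfA]
    exact Ideal.pow_le_pow_right (by omega) (ha (k + m) _ (hy' m) i)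
  have hA : ∀ i, ∃ α : A, ∀ N, α - ∑ m ∈ Finset.range N, a (k + m) (y' m) i ∈ fil J A (N - D) :=
    fun i => exists_series J _ D (haS i)
  choose α hα using hA
  obtain ⟨Lw, hLw⟩ := exists_series J (fun m => w (k + m) (y' m)) 0
    (fun m => fil_anti J (by omega) (hw (k + m) _ (hy' m)))
  have hαmem : ∀ i, α i ∈ J ^ (k - D) := fun i => by
    have h2 : ∑ m ∈ Finset.range k, a (k + m) (y' m) i ∈ J ^ (k - D) :=
      Submodule.sum_mem _ fun m _ => Ideal.pow_le_pow_right (by omega) (ha (k + m) _ (hy' m) i)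
    have h1 := hα i k
    rw [hfA] at h1
    simpa using (J ^ (k - D)).add_mem h1 h2
  have hLwmem : Lw ∈ fil J P k := by
    have h2 : ∑ m ∈ Finset.range k, w (k + m) (y' m) ∈ fil J P k :=
      Submodule.sum_mem _ fun m _ => fil_anti J (by omega) (hw (k + m) _ (hy' m))
    simpa using Submodule.add_mem _ (hLw k) h2
  refine Submodule.mem_sup.2 ⟨lc α, ?_, d Lw, ⟨Lw, hLwmem, rfl⟩, (sub_eq_zero.1 (fil_sep J fun N => ?_)).symm⟩
  · rw [Fintype.linearCombination_apply]
    exact Submodule.sum_mem _ fun i _ =>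
      Submodule.smul_mem_smul (hαmem i) (Submodule.subset_span ⟨i, rfl⟩)
  · have h1 : y' (N + D) ∈ fil J Q N := fil_anti J (by omega) (hy' (N + D)).2
    have h2 : lc (α - ∑ m ∈ Finset.range (N + D), a (k + m) (y' m)) ∈ fil J Q N := by
      rw [Fintype.linearCombination_apply]
      refine Submodule.sum_mem _ fun i _ => Submodule.smul_mem_smul ?_ trivial
      have := hα i (N + D)
      rw [hfA, Nat.add_sub_cancel] at this
      simpa using this
    have h3 : d (Lw - ∑ m ∈ Finset.range (N + D), w (k + m) (y' m)) ∈ fil J Q N :=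
      map_fil_le J d N ⟨_, fil_anti J (by omega) (hLw (N + D)), rfl⟩
    rw [map_sub] at h2 h3
    convert Submodule.sub_mem _ h1 (Submodule.add_mem _ h2 h3) using 1
    conv_lhs => rw [hsum (N + D)]
    abel

end Groth.Agent.FSProper
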