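import Groth.Agent.FSProper.Setup

/-!
# The Čech complex of a coherent system is adically complete with finite graded cohomology
-/

set_option autoImplicit false
set_option backward.isDefEq.respectTransparency false
set_option backward.isDefEq.respectTransparency.types false
set_option linter.style.haveILetI false
set_option maxHeartbeats 1000000

universe u

open CategoryTheory CategoryTheory.Limits AlgebraicGeometry TopologicalSpace Opposite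
open Groth.Agent.QC (res resO res_res res_smul app_res res_self)
open Groth.Agent.SiteCoh
open Groth.Agent.FSchCoh (MA ML OA RA JA projM transM projR transR)

noncomputable section

namespace Groth.Agent.FSProper

lemma mem_smul_top_pi {A : Type u} [CommRing A] {κ : Type u} [Finite κ] {M : κ → Type u}
    [∀ a, AddCommGroup (M a)] [∀ a, Module A (M a)] (I : Ideal A) (x : ∀ a, M a) :
    x ∈ I • (⊤ : Submodule A (∀ a, M a)) ↔ ∀ a, x a ∈ I • (⊤ : Submodule A (M a)) := by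
  classical
  haveI := Fintype.ofFinite κ
  constructor
  · intro h a
    have hm := Submodule.mem_map_of_mem (f := (LinearMap.proj a : (∀ a, M a) →ₗ[A] M a)) h
    rw [Submodule.map_smul''] at hm
    exact Submodule.smul_mono le_rfl le_top hm
  · intro h
    rw [← Finset.univ_sum_single x]
    refine Submodule.sum_mem _ fun a _ => ?_
    have hm := Submodule.mem_map_of_mem (f := LinearMap.single A M a) (h a)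
    rw [Submodule.map_smul''] at hm
    exact Submodule.smul_mono le_rfl le_top hm

variable (𝔛 : FSch.Sys.{u}) (h𝔛 : 𝔛.IsLocNoethFormal) {A : Type u} [CommRing A] {σ : Type u} [Fintype σ]
  (t : σ → A) {W : (𝔛.X 0).Opens} (φ : A →+* OA 𝔛 h𝔛.1 W) (𝔐 : FSch.ModSys 𝔛)

/-- The parameters generate the ideals of the bottom level. -/
def GensIdeal : Prop :=
  ∀ (V : (𝔛.X 0).Opens) (e : V ≤ W), IsAffineOpen V →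
    (tI t).map (scl (O := 𝔛.Osh h𝔛.1) φ e) = JA 𝔛 h𝔛.1 V

variable {t φ}

lemma mem_fil_secF (hJ : GensIdeal 𝔛 h𝔛 t φ) (hM : 𝔐.IsCoh) {V : (𝔛.X 0).Opens} (e : V ≤ W)
    (hV : IsAffineOpen V) (k : ℕ) (x : (secF (O := 𝔛.Osh h𝔛.1) φ (𝔐.realMod h𝔛.1) e : Type u)) :
    x ∈ fil (tI t) (secF (O := 𝔛.Osh h𝔛.1) φ (𝔐.realMod h𝔛.1) e : Type u) (k + 1) ↔
      projM 𝔛 h𝔛.1 𝔐 V k x = 0 := by
  letI : Algebra A (OA 𝔛 h𝔛.1 V) := (scl (O := 𝔛.Osh h𝔛.1) φ e).toAlgebra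
  letI : Module A (ML 𝔛 h𝔛.1 𝔐 V) := Module.compHom _ (scl (O := 𝔛.Osh h𝔛.1) φ e)
  haveI : IsScalarTower A (OA 𝔛 h𝔛.1 V) (ML 𝔛 h𝔛.1 𝔐 V) := IsScalarTower.of_algebraMap_smul fun _ _ => rfl
  have hk := (FSchCoh.main_mod 𝔛 h𝔛.1 𝔐 h𝔛 hM hV).2.2 k
  have hs := Set.ext_iff.1
    (FSchCoh.ker_comp_equiv_smul (R := OA 𝔛 h𝔛.1 V) ((tI t) ^ (k + 1)) (ML 𝔛 h𝔛.1 𝔐 V)) x
  rw [Ideal.map_pow, show (tI t).map (algebraMap A (OA 𝔛 h𝔛.1 V)) = JA 𝔛 h𝔛.1 V from hJ V e hV, ← hk] at hs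
  exact hs

variable {ι : Type u} (U : ι → (𝔛.X 0).Opens) (hle : ∀ i, U i ≤ W) [Finite ι]
  (hU : ∀ (n : ℕ) (a : Fin (n + 1) → ι), IsAffineOpen (tupleProd U a))
  (hJ : GensIdeal 𝔛 h𝔛 t φ) (hM : 𝔐.IsCoh)

include hU hJ hM in
lemma mem_fil_CM (n k : ℕ) (x : ((CM 𝔛 h𝔛.1 φ 𝔐 U hle).X n : Type u)) :
    x ∈ fil (tI t) ((CM 𝔛 h𝔛.1 φ 𝔐 U hle).X n : Type u) (k + 1) ↔
      ∀ a, projM 𝔛 h𝔛.1 𝔐 (tupleProd U a) k (x a) = 0 :=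
  (mem_smul_top_pi _ x).trans (forall_congr' fun a => mem_fil_secF 𝔛 h𝔛 𝔐 hJ hM (tupleProd_le' U hle a) (hU n a) k (x a))

include hU hJ hM in
lemma exists_CM_lift (n k : ℕ) (y : ∀ a : Fin (n + 1) → ι, MA 𝔛 h𝔛.1 𝔐 (tupleProd U a) k) :
    ∃ x : ((CM 𝔛 h𝔛.1 φ 𝔐 U hle).X n : Type u), ∀ a, projM 𝔛 h𝔛.1 𝔐 (tupleProd U a) k (x a) = y a := by
  choose x hx using fun a => (FSchCoh.main_mod 𝔛 h𝔛.1 𝔐 h𝔛 hM (hU n a)).2.1 k (y a)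
  exact ⟨x, hx⟩

include hU hJ hM in
/-- The cochains are adically complete. -/
theorem isAdicComplete_CM (n : ℕ) : IsAdicComplete (tI t) ((CM 𝔛 h𝔛.1 φ 𝔐 U hle).X n : Type u) where
  haus' x hx := funext fun a => FSchCoh.ML_ext 𝔛 h𝔛.1 𝔐 (tupleProd U a) fun k =>
    ((mem_fil_CM 𝔛 h𝔛 𝔐 U hle hU hJ hM n k x).1 (SModEq.zero.1 (hx (k + 1))) a).trans (map_zero _).symm
  prec' f hf := by
    have hcomp : ∀ (k : ℕ) a, transM 𝔛 h𝔛.1 𝔐 (tupleProd U a) k (projM 𝔛 h𝔛.1 𝔐 (tupleProd U a) (k + 1) (f (k + 2) a)) =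
        projM 𝔛 h𝔛.1 𝔐 (tupleProd U a) k (f (k + 1) a) := fun k a => by
      rw [FSchCoh.transM_projM]
      have h0 := (mem_fil_CM 𝔛 h𝔛 𝔐 U hle hU hJ hM n k (f (k + 1) - f (k + 2))).1
        (SModEq.sub_mem.1 (hf (show k + 1 ≤ k + 2 by omega))) a
      have h1 := (map_sub (projM 𝔛 h𝔛.1 𝔐 (tupleProd U a) k) _ _).symm.trans h0
      exact (sub_eq_zero.1 h1).symm
    choose x hx using fun a => FSchCoh.ML_lift 𝔛 h𝔛.1 𝔐 (tupleProd U a)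
      (fun k => projM 𝔛 h𝔛.1 𝔐 (tupleProd U a) k (f (k + 1) a)) fun k => hcomp k a
    refine ⟨x, fun m => ?_⟩
    rw [SModEq.sub_mem]
    rcases m with _ | m
    · simp
    · refine (mem_fil_CM 𝔛 h𝔛 𝔐 U hle hU hJ hM n m (f (m + 1) - (show ((CM 𝔛 h𝔛.1 φ 𝔐 U hle).X n : Type u) from x))).2 fun a => ?_
      exact (map_sub (projM 𝔛 h𝔛.1 𝔐 (tupleProd U a) m) _ _).trans (sub_eq_zero.2 (hx a m).symm)

omit [Finite ι] in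
lemma tupleProd_U0_image (n : ℕ) (a : Fin (n + 1) → ι) (hle : ∀ i, U i ≤ W) :
    (𝔛.lvU h𝔛.1 0 W).ι ''ᵁ tupleProd (U0 (W := W) 𝔛 h𝔛.1 U) a = 𝔛.lvU h𝔛.1 0 (tupleProd U a) := by
  rw [tupleProd_U0]
  exact lv_image 𝔛 h𝔛.1 (tupleProd_le' U hle a) 0

include hU hle in
omit [Finite ι] in
lemma affine_U0 (n : ℕ) (a : Fin (n + 1) → ι) : IsAffineOpen (tupleProd (U0 (W := W) 𝔛 h𝔛.1 U) a) := by
  rw [tupleProd_U0]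
  exact lv_affine 𝔛 h𝔛.1 (tupleProd_le' U hle a) (hU n a) 0

omit [Finite ι] in
lemma iSup_U0 (hcov : iSup U = W) : iSup (U0 (W := W) 𝔛 h𝔛.1 U) = ⊤ := by
  refine eq_top_iff.2 fun x _ => ?_
  have hx : (𝔛.gInv h𝔛.1 0) ((𝔛.lvU h𝔛.1 0 W).ι x) ∈ iSup U := hcov.symm ▸ x.2
  obtain ⟨i, hi⟩ := Opens.mem_iSup.1 hx
  exact Opens.mem_iSup.2 ⟨i, hi⟩

/-- The projection to the bottom level. -/
def p0C (n : ℕ) :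
    letI := lvOver 𝔛 h𝔛.1 φ 0
    ((CM 𝔛 h𝔛.1 φ 𝔐 U hle).X n : Type u) →ₗ[A]
      (W7Cech.CoX A (U0 (W := W) 𝔛 h𝔛.1 U) (Mres 𝔛 h𝔛.1 𝔐 W 0) n : Type u) :=
  letI := lvOver 𝔛 h𝔛.1 φ 0
  LinearMap.pi fun a =>
    { toFun := fun x => (res (Mres 𝔛 h𝔛.1 𝔐 W 0) (tupleProd_U0 𝔛 h𝔛.1 U a).le
        (show Γ(Mres 𝔛 h𝔛.1 𝔐 W 0, Wl (W := W) 𝔛 h𝔛.1 U 0 a) from prC 𝔛 h𝔛.1 φ 𝔐 U hle 0 n a x) :)
      map_add' := fun x y => (congrArg _ (map_add (prC 𝔛 h𝔛.1 φ 𝔐 U hle 0 n a) x y)).trans (map_add _ _ _)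
      map_smul' := fun r x => by
        refine (congrArg (res (Mres 𝔛 h𝔛.1 𝔐 W 0) _) (map_smul (prC 𝔛 h𝔛.1 φ 𝔐 U hle 0 n a) r x)).trans ?_
        refine (res_smul (Mres 𝔛 h𝔛.1 𝔐 W 0) _ (W7Cech.secRing A (Wl (W := W) 𝔛 h𝔛.1 U 0 a) r) _).trans ?_
        rw [W7Cech.resO_secRing]
        rfl }

lemma p0C_apply (n : ℕ) (x : ((CM 𝔛 h𝔛.1 φ 𝔐 U hle).X n : Type u)) (a : Fin (n + 1) → ι) :
    p0C 𝔛 h𝔛 𝔐 U hle n x a =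
      res (𝔐.F 0) (tupleProd_U0_image 𝔛 h𝔛 U n a hle).le
        (show Γ(𝔐.F 0, 𝔛.lvU h𝔛.1 0 (tupleProd U a)) from projM 𝔛 h𝔛.1 𝔐 (tupleProd U a) 0 (x a)) := by
  change res (Mres 𝔛 h𝔛.1 𝔐 W 0) (tupleProd_U0 𝔛 h𝔛.1 U a).le (res (𝔐.F 0)
    (lv_image 𝔛 h𝔛.1 (tupleProd_le' U hle a) 0).le
    (show Γ(𝔐.F 0, 𝔛.lvU h𝔛.1 0 (tupleProd U a)) from projM 𝔛 h𝔛.1 𝔐 (tupleProd U a) 0 (x a))) = _
  exact res_res (𝔐.F 0) ((𝔛.lvU h𝔛.1 0 W).ι.image_mono (tupleProd_U0 𝔛 h𝔛.1 U a).le) _ _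

set_option maxHeartbeats 4000000 in
lemma p0C_dF (n : ℕ) (x : ((CM 𝔛 h𝔛.1 φ 𝔐 U hle).X n : Type u)) (a : Fin (n + 2) → ι) (j : Fin (n + 2)) :
    res (𝔐.F 0) (tupleProd_U0_image 𝔛 h𝔛 U (n + 1) a hle).le
        (show Γ(𝔐.F 0, 𝔛.lvU h𝔛.1 0 (tupleProd U a)) from projM 𝔛 h𝔛.1 𝔐 (tupleProd U a) 0
          (RSFin.rs (X := (𝔛.X 0).carrier) (O := 𝔛.Osh h𝔛.1) (𝔐.realMod h𝔛.1) (leOfHom (tupleDrop U a j))
            (x (a ∘ j.succAbove)))) =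
      res (Mres 𝔛 h𝔛.1 𝔐 W 0) (leOfHom (tupleDrop (U0 (W := W) 𝔛 h𝔛.1 U) a j))
        (p0C 𝔛 h𝔛 𝔐 U hle n x (a ∘ j.succAbove)) := by
  have hP : ∀ (V V' : (𝔛.X 0).Opens) (e : V' ≤ V) (z : ML 𝔛 h𝔛.1 𝔐 V),
      (show Γ(𝔐.F 0, 𝔛.lvU h𝔛.1 0 V') from projM 𝔛 h𝔛.1 𝔐 V' 0
        (RSFin.rs (X := (𝔛.X 0).carrier) (O := 𝔛.Osh h𝔛.1) (𝔐.realMod h𝔛.1) e z)) =
      res (𝔐.F 0) ((Opens.map (𝔛.gInv h𝔛.1 0)).monotone e)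
        (show Γ(𝔐.F 0, 𝔛.lvU h𝔛.1 0 V) from projM 𝔛 h𝔛.1 𝔐 V 0 z) := fun V V' e z =>
    FSchCoh.projM_rs (h𝔛 := h𝔛) (𝔐 := 𝔐) e 0 z
  rw [hP, p0C_apply, res_res]
  exact (res_res (𝔐.F 0) ((𝔛.lvU h𝔛.1 0 W).ι.image_mono (leOfHom (tupleDrop (U0 (W := W) 𝔛 h𝔛.1 U) a j))) _ _).symm

set_option maxHeartbeats 4000000 in
lemma p0C_d (n m : ℕ) (x : ((CM 𝔛 h𝔛.1 φ 𝔐 U hle).X n : Type u)) :
    letI := lvOver 𝔛 h𝔛.1 φ 0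
    p0C 𝔛 h𝔛 𝔐 U hle m (((CM 𝔛 h𝔛.1 φ 𝔐 U hle).d n m).hom x) =
      (((W7Cech.CC A (U0 (W := W) 𝔛 h𝔛.1 U)).obj (Mres 𝔛 h𝔛.1 𝔐 W 0)).d n m).hom (p0C 𝔛 h𝔛 𝔐 U hle n x) := by
  letI := lvOver 𝔛 h𝔛.1 φ 0
  by_cases hnm : (ComplexShape.up ℕ).Rel n m
  · obtain rfl : n + 1 = m := hnm
    rw [CF_d, W7Cech.CC_d]
    funext a
    refine (p0C_apply 𝔛 h𝔛 𝔐 U hle (n + 1) _ a).trans ?_
    change res (𝔐.F 0) _ (projM 𝔛 h𝔛.1 𝔐 (tupleProd U a) 0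
        (∑ k : Fin (n + 2), (-1 : ℤ) ^ (k : ℕ) • RSFin.rs (X := (𝔛.X 0).carrier) (O := 𝔛.Osh h𝔛.1)
          (𝔐.realMod h𝔛.1) (leOfHom (tupleDrop U a k)) (x (a ∘ k.succAbove)))) =
      ∑ k : Fin (n + 2), (-1 : ℤ) ^ (k : ℕ) • res (Mres 𝔛 h𝔛.1 𝔐 W 0)
        (leOfHom (tupleDrop (U0 (W := W) 𝔛 h𝔛.1 U) a k)) (p0C 𝔛 h𝔛 𝔐 U hle n x (a ∘ k.succAbove))
    refine (congrArg (res (𝔐.F 0) _) (map_sum (projM 𝔛 h𝔛.1 𝔐 (tupleProd U a) 0) _ _)).trans ?_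
    refine (map_sum (res (𝔐.F 0) _) _ _).trans (Finset.sum_congr rfl fun k _ => ?_)
    refine (congrArg (res (𝔐.F 0) _) (map_zsmul (projM 𝔛 h𝔛.1 𝔐 (tupleProd U a) 0) _ _)).trans ?_
    exact (map_zsmul (res (𝔐.F 0) _) _ _).trans (congrArg _ (p0C_dF 𝔛 h𝔛 𝔐 U hle n x a k))
  · rw [HomologicalComplex.shape _ _ _ hnm, HomologicalComplex.shape _ _ _ hnm]
    exact map_zero _

lemma prC_eq (k n : ℕ) (a : Fin (n + 1) → ι) (x : ((CM 𝔛 h𝔛.1 φ 𝔐 U hle).X n : Type u)) :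
    (show Γ(𝔐.F k, (𝔛.lvU h𝔛.1 k W).ι ''ᵁ Wl (W := W) 𝔛 h𝔛.1 U k a) from prC 𝔛 h𝔛.1 φ 𝔐 U hle k n a x) =
      res (𝔐.F k) (lv_image 𝔛 h𝔛.1 (tupleProd_le' U hle a) k).le
        (show Γ(𝔐.F k, 𝔛.lvU h𝔛.1 k (tupleProd U a)) from projM 𝔛 h𝔛.1 𝔐 (tupleProd U a) k (x a)) := rfl

lemma prC_eq_zero_iff (k n : ℕ) (a : Fin (n + 1) → ι) (x : ((CM 𝔛 h𝔛.1 φ 𝔐 U hle).X n : Type u)) :
    prC 𝔛 h𝔛.1 φ 𝔐 U hle k n a x = 0 ↔ projM 𝔛 h𝔛.1 𝔐 (tupleProd U a) k (x a) = 0 := by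
  let z : Γ(𝔐.F k, 𝔛.lvU h𝔛.1 k (tupleProd U a)) := projM 𝔛 h𝔛.1 𝔐 (tupleProd U a) k (x a)
  have key : res (𝔐.F k) (lv_image 𝔛 h𝔛.1 (tupleProd_le' U hle a) k).le z = 0 ↔ z = 0 := by
    constructor
    · intro hx
      have h1 := congrArg (res (𝔐.F k) (lv_image 𝔛 h𝔛.1 (tupleProd_le' U hle a) k).ge) hx
      rwa [res_res, res_self, map_zero] at h1
    · intro hx
      rw [hx, map_zero]
  exact key

set_option maxHeartbeats 4000000 in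
lemma red_prC (k n : ℕ) (a : Fin (n + 1) → ι) (x : ((CM 𝔛 h𝔛.1 φ 𝔐 U hle).X n : Type u))
    {e : tupleProd (U0 (W := W) 𝔛 h𝔛.1 U) a ≤ cRes 𝔛 h𝔛.1 W k ⁻¹ᵁ Wl (W := W) 𝔛 h𝔛.1 U k a} :
    res (Mres 𝔛 h𝔛.1 𝔐 W 0) e ((redMor 𝔛 h𝔛.1 𝔐 W k).app (Wl (W := W) 𝔛 h𝔛.1 U k a)
      (prC 𝔛 h𝔛.1 φ 𝔐 U hle k n a x)) = p0C 𝔛 h𝔛 𝔐 U hle n x a := by
  let z : Γ(𝔐.F k, 𝔛.lvU h𝔛.1 k (tupleProd U a)) := projM 𝔛 h𝔛.1 𝔐 (tupleProd U a) k (x a)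
  have h1 : (redMor 𝔛 h𝔛.1 𝔐 W k).app (Wl (W := W) 𝔛 h𝔛.1 U k a) (prC 𝔛 h𝔛.1 φ 𝔐 U hle k n a x) =
      res (𝔐.F 0) (image_preimage_le 𝔛 h𝔛.1 W k _) ((tau 𝔛 𝔐 k).app _
        (res (𝔐.F k) (lv_image 𝔛 h𝔛.1 (tupleProd_le' U hle a) k).le z)) :=
    redMor_app 𝔛 h𝔛.1 𝔐 W k _ _
  rw [h1, p0C_apply, ← tau_projM 𝔛 h𝔛.1 𝔐 (tupleProd U a) k (x a), ← app_res (tau 𝔛 𝔐 k)]
  change res (𝔐.F 0) ((𝔛.lvU h𝔛.1 0 W).ι.image_mono e) (res (𝔐.F 0) _ (res (𝔐.F 0)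
    ((𝔛.toX k).preimage_mono (lv_image 𝔛 h𝔛.1 (tupleProd_le' U hle a) k).le) ((tau 𝔛 𝔐 k).app _ z))) = _
  rw [res_res, res_res]
  exact (res_res (𝔐.F 0) _ _ _).symm

set_option maxHeartbeats 4000000 in
include hU hJ hM in
/-- The tower of the levels over the base open. -/
def levData :
    letI := lvOver 𝔛 h𝔛.1 φ 0
    LevData t (Mres 𝔛 h𝔛.1 𝔐 W 0) (U0 (W := W) 𝔛 h𝔛.1 U) :=
  letI := lvOver 𝔛 h𝔛.1 φ 0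
  { C := fun n => ((CM 𝔛 h𝔛.1 φ 𝔐 U hle).X n : Type u)
    d := fun n m => ((CM 𝔛 h𝔛.1 φ 𝔐 U hle).d n m).hom
    p₀ := p0C 𝔛 h𝔛 𝔐 U hle
    p₀_surj := fun n y => by
      obtain ⟨x, hx⟩ := exists_CM_lift 𝔛 h𝔛 𝔐 U hle hU hJ hM n 0
        (fun a => res (𝔐.F 0) (tupleProd_U0_image 𝔛 h𝔛 U n a hle).ge (y a))
      refine ⟨x, funext fun a => (p0C_apply 𝔛 h𝔛 𝔐 U hle n x a).trans ?_⟩
      exact (congrArg _ (hx a)).trans ((res_res _ _ _ _).trans (res_self _ _ _))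
    p₀_ker := fun n => Submodule.ext fun x => by
      refine Iff.trans ?_ (mem_fil_CM 𝔛 h𝔛 𝔐 U hle hU hJ hM n 0 x).symm
      constructor
      · intro hx a
        have h0 : res (𝔐.F 0) (tupleProd_U0_image 𝔛 h𝔛 U n a hle).le
            (show Γ(𝔐.F 0, 𝔛.lvU h𝔛.1 0 (tupleProd U a)) from projM 𝔛 h𝔛.1 𝔐 (tupleProd U a) 0 (x a)) = 0 :=
          (p0C_apply 𝔛 h𝔛 𝔐 U hle n x a).symm.trans (congrFun hx a)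
        have h1 := congrArg (res (𝔐.F 0) (tupleProd_U0_image 𝔛 h𝔛 U n a hle).ge) h0
        rw [res_res, res_self, map_zero] at h1
        exact h1
      · intro hx
        exact funext fun a => (p0C_apply 𝔛 h𝔛 𝔐 U hle n x a).trans ((congrArg _ (hx a)).trans (map_zero _))
    p₀_d := fun n m x => p0C_d 𝔛 h𝔛 𝔐 U hle n m x
    X := fun k => Lv 𝔛 h𝔛.1 W k
    ov := fun k => lvOver 𝔛 h𝔛.1 φ k
    M := fun k => Mres 𝔛 h𝔛.1 𝔐 W k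
    qcoh := fun k => QC.isQCoh_restrict _ (hM k).1
    c := fun k => cRes 𝔛 h𝔛.1 W k
    W := fun k n a => Wl (W := W) 𝔛 h𝔛.1 U k a
    affine := fun k n a => lv_affine 𝔛 h𝔛.1 (tupleProd_le' U hle a) (hU n a) k
    le := fun k n a => by
      refine (Scheme.Hom.le_resLE_preimage_iff _ _ _ _).2 ?_
      rw [tupleProd_U0_image 𝔛 h𝔛 U n a hle, lv_image 𝔛 h𝔛.1 (tupleProd_le' U hle a) k]
      exact lvU_zero_le 𝔛 h𝔛.1 k _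
    surj := fun k n a => by
      rw [Scheme.Hom.resLE_appLE]
      exact appLE_surjective_congr (𝔛.toX k) (lv_image 𝔛 h𝔛.1 (tupleProd_le' U hle a) k).symm
        (tupleProd_U0_image 𝔛 h𝔛 U n a hle).symm _ _ (toX_appLE_surjective 𝔛 h𝔛.1 (hU n a) k)
    red := fun k => redMor 𝔛 h𝔛.1 𝔐 W k
    pr := fun k n a => prC 𝔛 h𝔛.1 φ 𝔐 U hle k n a
    pr_surj := fun k n y => by
      obtain ⟨x, hx⟩ := exists_CM_lift 𝔛 h𝔛 𝔐 U hle hU hJ hM n k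
        (fun a => res (𝔐.F k) (lv_image 𝔛 h𝔛.1 (tupleProd_le' U hle a) k).ge (y a))
      exact ⟨x, fun a => (congrArg (res (𝔐.F k) _) (hx a)).trans ((res_res _ _ _ _).trans (res_self _ _ _))⟩
    pr_ker := fun k n x =>
      (forall_congr' fun a => prC_eq_zero_iff 𝔛 h𝔛 𝔐 U hle k n a x).trans
        (mem_fil_CM 𝔛 h𝔛 𝔐 U hle hU hJ hM n k x).symm
    red_pr := fun k n a x => red_prC 𝔛 h𝔛 𝔐 U hle k n a x }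

/-- The base is proper at the bottom. -/
def ProperBase (φ : A →+* OA 𝔛 h𝔛.1 W) : Prop := IsProper (lvStr 𝔛 h𝔛.1 φ 0)

include hU hJ hM in
/-- **Finite graded cohomology** for the Čech complex. -/
theorem grFin_CM [IsNoetherianRing A] (hcov : iSup U = W) (hP : ProperBase 𝔛 h𝔛 φ)
    (i p k : ℕ) (hi : (ComplexShape.up ℕ).prev p = i) (hk : (ComplexShape.up ℕ).next p = k) :
    GrFin (tI t) ((CM 𝔛 h𝔛.1 φ 𝔐 U hle).d i p).hom ((CM 𝔛 h𝔛.1 φ 𝔐 U hle).d p k).hom := by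
  letI := lvOver 𝔛 h𝔛.1 φ 0
  haveI : IsProper (Lv 𝔛 h𝔛.1 W 0 ↘ Spec (CommRingCat.of A)) := hP
  haveI := h𝔛.2.2 0
  exact (levData 𝔛 h𝔛 𝔐 U hle hU hJ hM).grFin (affine_U0 𝔛 h𝔛 U hle hU) (iSup_U0 𝔛 h𝔛 U hcov)
    (CohFinite.isCoh_of_iso ((Scheme.Modules.restrictFunctorIsoPullback _).app _).symm
      (QC.isCoh_pullback _ (hM 0))) i p k hi hk

end Groth.Agent.FSProper
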