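import Groth.Agent.FSProper.Complete
import Mathlib.RingTheory.TensorProduct.Basic
import Mathlib.RingTheory.Polynomial.Basic
import Mathlib.RingTheory.MvPolynomial.Homogeneous
import Mathlib.RingTheory.Finiteness.Cardinality

/-!
# The associated graded pair as a quotient of a polynomial base change

If `J` is generated by `t₁, …, t_r`, the graded module of `Q` is a quotient of
`A[T₁, …, T_r] ⊗_A (Q / JQ)`; finiteness of the cohomology of the quotient pair gives `GrFin`.
-/

set_option autoImplicit false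

universe u

open TensorProduct MvPolynomial

noncomputable section

namespace Groth.Agent.FSProper

variable {A : Type u} [CommRing A] {σ : Type u} [Fintype σ] (t : σ → A)

/-- The ideal of the parameters. -/
abbrev tI : Ideal A := Ideal.span (Set.range t)

/-- The value at `t` of the part of degree `k`. -/
def mu (k : ℕ) : MvPolynomial σ A →ₗ[A] A :=
  (MvPolynomial.aeval t).toLinearMap ∘ₗ MvPolynomial.homogeneousComponent k

lemma mu_mem (k : ℕ) (p : MvPolynomial σ A) : mu t k p ∈ tI t ^ k := by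
  simp only [mu, LinearMap.comp_apply, AlgHom.toLinearMap_apply]
  have hp := MvPolynomial.homogeneousComponent_isHomogeneous k p
  generalize MvPolynomial.homogeneousComponent k p = q at hp
  rw [MvPolynomial.aeval_def, MvPolynomial.eval₂_eq]
  refine Ideal.sum_mem _ fun e he => Ideal.mul_mem_left _ _ ?_
  have hk : e.sum (fun _ n => n) = k := by
    have := hp (MvPolynomial.mem_support_iff.1 he)
    simpa [Finsupp.weight_apply, smul_eq_mul] using this
  rw [← hk, Finsupp.sum]
  rw [← Finset.prod_pow_eq_pow_sum]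
  exact Ideal.prod_mem_prod (I := fun i => tI t ^ e i) fun i _ =>
    Ideal.pow_mem_pow (show t i ∈ tI t from Ideal.subset_span ⟨i, rfl⟩) _

lemma mu_of_isHomogeneous {p : MvPolynomial σ A} {m : ℕ} (hp : p.IsHomogeneous m) (k : ℕ) :
    mu t k p = if k = m then MvPolynomial.aeval t p else 0 := by
  rw [mu, LinearMap.comp_apply,
    MvPolynomial.homogeneousComponent_of_mem ((MvPolynomial.mem_homogeneousSubmodule m p).2 hp)]
  split_ifs <;> simp

lemma mu_monomial (k : ℕ) (e : σ →₀ ℕ) :
    mu t k (monomial e 1) = if k = e.degree then MvPolynomial.aeval t (monomial e (1 : A)) else 0 :=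
  mu_of_isHomogeneous t (isHomogeneous_monomial _ rfl) k

lemma mu_X_mul_succ (i : σ) (k : ℕ) : mu t (k + 1) ∘ₗ LinearMap.mulLeft A (X i) = t i • mu t k := by
  refine (MvPolynomial.basisMonomials σ A).ext fun e => ?_
  simp only [coe_basisMonomials, LinearMap.comp_apply, LinearMap.mulLeft_apply, LinearMap.smul_apply,
    smul_eq_mul]
  rw [MvPolynomial.X, monomial_mul, one_mul, mu_monomial, mu_monomial]
  have : (Finsupp.single i 1 + e).degree = e.degree + 1 := by
    rw [map_add, Finsupp.degree_single, add_comm]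
  simp only [this, Nat.add_right_cancel_iff]
  split_ifs
  · rw [show (monomial (Finsupp.single i 1 + e) (1 : A)) = X i * monomial e 1 by
      rw [MvPolynomial.X, monomial_mul, one_mul], map_mul, MvPolynomial.aeval_X]
  · rw [mul_zero]

lemma mu_X_mul_zero (i : σ) : mu t 0 ∘ₗ LinearMap.mulLeft A (X i) = 0 := by
  refine (MvPolynomial.basisMonomials σ A).ext fun e => ?_
  simp only [coe_basisMonomials, LinearMap.comp_apply, LinearMap.mulLeft_apply, LinearMap.zero_apply]
  rw [MvPolynomial.X, monomial_mul, one_mul, mu_monomial, if_neg]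
  rw [map_add, Finsupp.degree_single]
  omega

lemma mu_eq_zero_of_lt {p : MvPolynomial σ A} {k : ℕ} (h : p.totalDegree < k) : mu t k p = 0 := by
  rw [mu, LinearMap.comp_apply, MvPolynomial.homogeneousComponent_eq_zero _ _ h, map_zero]

variable {P Q R : Type u} [AddCommGroup P] [Module A P] [AddCommGroup Q] [Module A Q]
  [AddCommGroup R] [Module A R]

variable (Q) in
/-- The reduction modulo the ideal. -/
abbrev Red : Type u := Q ⧸ fil (tI t) Q 1

variable (Q) in
/-- The degree `k` part of `A[T] ⊗ Q/JQ` in `Q/J^(k+1)Q`. -/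
def gr (k : ℕ) : MvPolynomial σ A ⊗[A] Red t Q →ₗ[A] Q ⧸ fil (tI t) Q (k + 1) :=
  TensorProduct.lift
    { toFun := fun b => Submodule.mapQ _ _ (mu t k b • LinearMap.id) (fun x hx => by
        rw [Submodule.mem_comap, LinearMap.smul_apply, LinearMap.id_apply, ← smul_fil]
        exact Submodule.smul_mem_smul (mu_mem t k b) hx)
      map_add' := fun b c => Submodule.linearMap_qext _ (LinearMap.ext fun x => by simp [add_smul])
      map_smul' := fun r b => Submodule.linearMap_qext _ (LinearMap.ext fun x => by simp [mul_smul]) }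

lemma gr_tmul (k : ℕ) (b : MvPolynomial σ A) (x : Q) :
    gr t Q k (b ⊗ₜ Submodule.Quotient.mk x) = Submodule.Quotient.mk (mu t k b • x) := rfl

lemma gr_mem (k : ℕ) (z : MvPolynomial σ A ⊗[A] Red t Q) :
    ∃ x ∈ fil (tI t) Q k, gr t Q k z = Submodule.Quotient.mk x := by
  induction z using TensorProduct.induction_on with
  | zero => exact ⟨0, zero_mem _, by simp⟩
  | tmul b x =>
    obtain ⟨x, rfl⟩ := Submodule.Quotient.mk_surjective _ x
    exact ⟨mu t k b • x, Submodule.smul_mem_smul (mu_mem t k b) trivial, gr_tmul t k b x⟩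
  | add a b ha hb =>
    obtain ⟨x, hx, hx'⟩ := ha
    obtain ⟨y, hy, hy'⟩ := hb
    exact ⟨x + y, add_mem hx hy, by rw [map_add, hx', hy']; rfl⟩

lemma gr_X_smul_succ (i : σ) (k : ℕ) (z : MvPolynomial σ A ⊗[A] Red t Q) {x : Q}
    (hx : gr t Q k z = Submodule.Quotient.mk x) :
    gr t Q (k + 1) ((X i : MvPolynomial σ A) • z) = Submodule.Quotient.mk (t i • x) := by
  let m : Q ⧸ fil (tI t) Q (k + 1) →ₗ[A] Q ⧸ fil (tI t) Q (k + 1 + 1) :=
    Submodule.mapQ _ _ (t i • LinearMap.id) fun y hy => by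
      rw [Submodule.mem_comap, LinearMap.smul_apply, LinearMap.id_apply, ← smul_fil_one]
      exact Submodule.smul_mem_smul (Ideal.subset_span ⟨i, rfl⟩) hy
  have h : gr t Q (k + 1) ((X i : MvPolynomial σ A) • z) = m (gr t Q k z) := by
    clear hx
    induction z using TensorProduct.induction_on with
    | zero => simp
    | tmul b y =>
      obtain ⟨y, rfl⟩ := Submodule.Quotient.mk_surjective _ y
      rw [smul_tmul', smul_eq_mul, gr_tmul, gr_tmul,
        show mu t (k + 1) (X i * b) = t i * mu t k b from congr($(mu_X_mul_succ t i k) b)]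
      rw [mul_smul]
      rfl
    | add a b ha hb => rw [smul_add, map_add, ha, hb, map_add, map_add]
  rw [h, hx]
  rfl

lemma gr_X_smul_zero (i : σ) (z : MvPolynomial σ A ⊗[A] Red t Q) :
    gr t Q 0 ((X i : MvPolynomial σ A) • z) = 0 := by
  induction z using TensorProduct.induction_on with
  | zero => simp
  | tmul b y =>
    obtain ⟨y, rfl⟩ := Submodule.Quotient.mk_surjective _ y
    rw [smul_tmul', smul_eq_mul, gr_tmul, show mu t 0 (X i * b) = 0 from congr($(mu_X_mul_zero t i) b)]
    simp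
  | add a b ha hb => rw [smul_add, map_add, ha, hb, add_zero]

lemma gr_bdd (z : MvPolynomial σ A ⊗[A] Red t Q) : ∃ N, ∀ k, N ≤ k → gr t Q k z = 0 := by
  induction z using TensorProduct.induction_on with
  | zero => exact ⟨0, fun k _ => by simp⟩
  | tmul b y =>
    obtain ⟨y, rfl⟩ := Submodule.Quotient.mk_surjective _ y
    exact ⟨b.totalDegree + 1, fun k hk => by
      rw [gr_tmul, mu_eq_zero_of_lt t (by omega), zero_smul, Submodule.Quotient.mk_zero]⟩
  | add a b ha hb =>
    obtain ⟨N, hN⟩ := ha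
    obtain ⟨M, hM⟩ := hb
    exact ⟨max N M, fun k hk => by
      rw [map_add, hN k (le_of_max_le_left hk), hM k (le_of_max_le_right hk), add_zero]⟩

lemma gr_lift : ∀ (k : ℕ) (x : Q), x ∈ fil (tI t) Q k →
    ∃ z, gr t Q k z = Submodule.Quotient.mk x ∧ ∀ j, j ≠ k → gr t Q j z = 0 := by
  intro k
  induction k with
  | zero =>
    intro x _
    refine ⟨1 ⊗ₜ Submodule.Quotient.mk x, ?_, fun j hj => ?_⟩
    · rw [gr_tmul, mu_of_isHomogeneous t (isHomogeneous_one σ A) 0, if_pos rfl, map_one, one_smul]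
    · rw [gr_tmul, mu_of_isHomogeneous t (isHomogeneous_one σ A) j, if_neg hj, zero_smul, Submodule.Quotient.mk_zero]
  | succ k ih =>
    intro x hx
    rw [← smul_fil_one] at hx
    refine Submodule.smul_induction_on hx (fun a ha y hy => ?_) (fun a b ha hb => ?_)
    · induction ha using Submodule.span_induction with
      | mem a ha =>
        obtain ⟨i, rfl⟩ := ha
        obtain ⟨z, hz, hz'⟩ := ih y hy
        refine ⟨(X i : MvPolynomial σ A) • z, gr_X_smul_succ t i k z hz, fun j hj => ?_⟩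
        rcases j with _ | j
        · exact gr_X_smul_zero t i z
        · rw [gr_X_smul_succ t i j z (x := 0) (by rw [hz' j (by omega)]; rfl), smul_zero, Submodule.Quotient.mk_zero]
      | zero => exact ⟨0, by simp, fun j _ => by simp⟩
      | add a b _ _ ha hb =>
        obtain ⟨z, hz, hz'⟩ := ha
        obtain ⟨w, hw, hw'⟩ := hb
        exact ⟨z + w, by rw [map_add, hz, hw, add_smul]; rfl, fun j hj => by rw [map_add, hz' j hj, hw' j hj, add_zero]⟩
      | smul r a _ ha =>
        obtain ⟨z, hz, hz'⟩ := ha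
        exact ⟨r • z, by rw [map_smul, hz, smul_assoc]; rfl, fun j hj => by rw [map_smul, hz' j hj, smul_zero]⟩
    · obtain ⟨z, hz, hz'⟩ := ha
      obtain ⟨w, hw, hw'⟩ := hb
      exact ⟨z + w, by rw [map_add, hz, hw]; rfl, fun j hj => by rw [map_add, hz' j hj, hw' j hj, add_zero]⟩

/-- Reduction of a linear map. -/
abbrev redMap (f : P →ₗ[A] Q) : Red t P →ₗ[A] Red t Q :=
  Submodule.mapQ _ _ f (Submodule.map_le_iff_le_comap.1 (map_fil_le (tI t) f 1))

lemma gr_natural (f : P →ₗ[A] Q) (k : ℕ) (z : MvPolynomial σ A ⊗[A] Red t P) {x : P}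
    (hx : gr t P k z = Submodule.Quotient.mk x) :
    gr t Q k ((redMap t f).baseChange (MvPolynomial σ A) z) = Submodule.Quotient.mk (f x) := by
  let m := Submodule.mapQ _ _ f (Submodule.map_le_iff_le_comap.1 (map_fil_le (tI t) f (k + 1)))
  have h : gr t Q k ((redMap t f).baseChange (MvPolynomial σ A) z) = m (gr t P k z) := by
    clear hx
    induction z using TensorProduct.induction_on with
    | zero => simp
    | tmul b y =>
      obtain ⟨y, rfl⟩ := Submodule.Quotient.mk_surjective _ y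
      rw [LinearMap.baseChange_tmul, gr_tmul]
      exact (gr_tmul t k b (f y)).trans (congrArg Submodule.Quotient.mk (map_smul f _ y).symm)
    | add a b ha hb => rw [map_add, map_add, ha, hb, map_add, map_add]
  rw [h, hx]
  rfl

/-- A graded family of submodules stable under the parameters cuts out a module over the polynomials. -/
lemma smul_mem_of_family (T : ℕ → Submodule A Q) (hT : ∀ k i x, x ∈ T k → t i • x ∈ T (k + 1))
    (b : MvPolynomial σ A) (z : MvPolynomial σ A ⊗[A] Red t Q)
    (hz : ∀ k, ∃ x ∈ T k, gr t Q k z = Submodule.Quotient.mk x) :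
    ∀ k, ∃ x ∈ T k, gr t Q k (b • z) = Submodule.Quotient.mk x := by
  induction b using MvPolynomial.induction_on generalizing z with
  | C a =>
    intro k
    obtain ⟨x, hx, hx'⟩ := hz k
    refine ⟨a • x, Submodule.smul_mem _ a hx, ?_⟩
    rw [← MvPolynomial.algebraMap_eq, algebraMap_smul, map_smul, hx']
    rfl
  | add p q hp hq =>
    intro k
    obtain ⟨x, hx, hx'⟩ := hp z hz k
    obtain ⟨y, hy, hy'⟩ := hq z hz k
    exact ⟨x + y, add_mem hx hy, by rw [add_smul, map_add, hx', hy']; rfl⟩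
  | mul_X p i hp =>
    intro k
    rw [mul_smul]
    refine hp _ (fun j => ?_) k
    rcases j with _ | j
    · exact ⟨0, zero_mem _, by rw [gr_X_smul_zero]; rfl⟩
    · obtain ⟨x, hx, hx'⟩ := hz j
      exact ⟨t i • x, hT j i x hx, gr_X_smul_succ t i j z hx'⟩

/-- The exponents of degree `k`. -/
abbrev Deg (σ : Type u) (k : ℕ) : Type u := {e : σ →₀ ℕ // e.degree = k}

instance (k : ℕ) : Fintype (Deg σ k) :=
  (Finsupp.finite_of_degree_le k |>.subset fun _ h => le_of_eq h).fintype

/-- The monomial in the parameters. -/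
def tPow (e : σ →₀ ℕ) : A := MvPolynomial.aeval t (monomial e (1 : A))

lemma tPow_mem (e : σ →₀ ℕ) : tPow t e ∈ tI t ^ e.degree := by
  have := mu_mem t e.degree (monomial e (1 : A))
  rwa [mu_monomial, if_pos rfl] at this

variable (Q) in
/-- The homogeneous element with coefficients `x`. -/
def hom (k : ℕ) (x : Deg σ k → Q) : MvPolynomial σ A ⊗[A] Red t Q :=
  ∑ e : Deg σ k, monomial e.1 (1 : A) ⊗ₜ Submodule.Quotient.mk (x e)

lemma gr_hom (j k : ℕ) (x : Deg σ k → Q) :
    gr t Q j (hom t Q k x) = if j = k then Submodule.Quotient.mk (∑ e : Deg σ k, tPow t e.1 • x e) else 0 := by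
  rw [hom, map_sum]
  split_ifs with h
  · subst h
    rw [← Submodule.mkQ_apply, map_sum]
    refine Finset.sum_congr rfl fun e _ => ?_
    rw [gr_tmul, mu_monomial, if_pos e.2.symm]
    rfl
  · refine Finset.sum_eq_zero fun e _ => ?_
    rw [gr_tmul, mu_monomial, if_neg (by rw [e.2]; exact h), zero_smul, Submodule.Quotient.mk_zero]

lemma hom_zero (k : ℕ) : hom t Q k 0 = 0 := by
  refine Finset.sum_eq_zero fun e _ => ?_
  rw [Pi.zero_apply, Submodule.Quotient.mk_zero, TensorProduct.tmul_zero]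

lemma hom_add (k : ℕ) (x y : Deg σ k → Q) : hom t Q k (x + y) = hom t Q k x + hom t Q k y := by
  rw [hom, hom, hom, ← Finset.sum_add_distrib]
  exact Finset.sum_congr rfl fun e _ => by rw [Pi.add_apply, Submodule.Quotient.mk_add, TensorProduct.tmul_add]

lemma exists_eq_sum_hom (z : MvPolynomial σ A ⊗[A] Red t Q) :
    ∃ (N : ℕ) (x : ∀ k, Deg σ k → Q), (∀ k, N ≤ k → x k = 0) ∧
      z = ∑ k ∈ Finset.range N, hom t Q k (x k) := by
  classical
  have hadd : ∀ a b : MvPolynomial σ A ⊗[A] Red t Q,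
      (∃ (N : ℕ) (x : ∀ k, Deg σ k → Q), (∀ k, N ≤ k → x k = 0) ∧ a = ∑ k ∈ Finset.range N, hom t Q k (x k)) →
      (∃ (N : ℕ) (x : ∀ k, Deg σ k → Q), (∀ k, N ≤ k → x k = 0) ∧ b = ∑ k ∈ Finset.range N, hom t Q k (x k)) →
      ∃ (N : ℕ) (x : ∀ k, Deg σ k → Q), (∀ k, N ≤ k → x k = 0) ∧
        a + b = ∑ k ∈ Finset.range N, hom t Q k (x k) := by
    rintro a b ⟨N, x, hx, rfl⟩ ⟨M, y, hy, rfl⟩
    refine ⟨max N M, fun k => x k + y k, fun k hk => by
      show x k + y k = 0
      rw [hx k (le_of_max_le_left hk), hy k (le_of_max_le_right hk), add_zero], ?_⟩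
    simp only [hom_add, Finset.sum_add_distrib]
    congr 1
    · refine (Finset.sum_subset (Finset.range_mono (le_max_left N M)) fun k _ hk => ?_)
      rw [hx k (by simpa using hk), hom_zero]
    · refine (Finset.sum_subset (Finset.range_mono (le_max_right N M)) fun k _ hk => ?_)
      rw [hy k (by simpa using hk), hom_zero]
  induction z using TensorProduct.induction_on with
  | zero => exact ⟨0, 0, fun _ _ => rfl, by simp⟩
  | add a b ha hb => exact hadd a b ha hb
  | tmul b y =>
    obtain ⟨y, rfl⟩ := Submodule.Quotient.mk_surjective _ y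
    induction b using MvPolynomial.induction_on' with
    | add p q hp hq => rw [TensorProduct.add_tmul]; exact hadd _ _ hp hq
    | monomial e a =>
      let x : ∀ k, Deg σ k → Q := fun k f => if f.1 = e then a • y else 0
      refine ⟨e.degree + 1, x, fun k hk => funext fun f => if_neg fun h => ?_, ?_⟩
      · have := f.2
        rw [h] at this
        omega
      · rw [Finset.sum_eq_single_of_mem e.degree (by simp) fun k _ hk => ?_]
        · rw [hom, Finset.sum_eq_single_of_mem (⟨e, rfl⟩ : Deg σ e.degree) (Finset.mem_univ _) fun f _ hf => ?_]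
          · simp only [x, if_pos rfl, Submodule.Quotient.mk_smul]
            rw [TensorProduct.tmul_smul, TensorProduct.smul_tmul', MvPolynomial.smul_monomial, smul_eq_mul, mul_one]
          · simp only [x, if_neg fun h : f.1 = e => hf (Subtype.ext h), Submodule.Quotient.mk_zero,
              TensorProduct.tmul_zero]
        · rw [show x k = 0 from funext fun f => if_neg fun h => hk (by rw [← h, f.2]), hom_zero]

/-- The common kernel of the graded maps consists of sums of homogeneous kernel elements. -/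
lemma exists_eq_sum_hom_of_gr (z : MvPolynomial σ A ⊗[A] Red t Q) (hz : ∀ k, gr t Q k z = 0) :
    ∃ (N : ℕ) (x : ∀ k, Deg σ k → Q),
      (∀ k, ∑ e : Deg σ k, tPow t e.1 • x k e ∈ fil (tI t) Q (k + 1)) ∧
      z = ∑ k ∈ Finset.range N, hom t Q k (x k) := by
  obtain ⟨N, x, hx, rfl⟩ := exists_eq_sum_hom t z
  refine ⟨N, x, fun k => ?_, rfl⟩
  by_cases hk : k < N
  · have h := hz k
    rw [map_sum, Finset.sum_eq_single_of_mem k (Finset.mem_range.2 hk)
      fun j _ hj => by rw [gr_hom, if_neg hj.symm], gr_hom, if_pos rfl, Submodule.Quotient.mk_eq_zero] at h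
    exact h
  · simp [hx k (not_lt.1 hk)]

variable {d : P →ₗ[A] Q} {d' : Q →ₗ[A] R}

/-- The criterion for `GrFin`. -/
theorem grFin_of_finite [IsNoetherianRing A]
    {MP MQ MR : Type u} [AddCommGroup MP] [AddCommGroup MQ] [AddCommGroup MR]
    [Module (MvPolynomial σ A) MP] [Module (MvPolynomial σ A) MQ] [Module (MvPolynomial σ A) MR]
    (e : MP →ₗ[MvPolynomial σ A] MQ) (e' : MQ →ₗ[MvPolynomial σ A] MR)
    (πP : MvPolynomial σ A ⊗[A] Red t P →ₗ[MvPolynomial σ A] MP)
    (πQ : MvPolynomial σ A ⊗[A] Red t Q →ₗ[MvPolynomial σ A] MQ)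
    (πR : MvPolynomial σ A ⊗[A] Red t R →ₗ[MvPolynomial σ A] MR)
    (hP : Function.Surjective πP)
    (hkQ : ∀ z, πQ z = 0 → ∀ k, gr t Q k z = 0)
    (hkR : ∀ z, (∀ k, gr t R k z = 0) → πR z = 0)
    (he : ∀ z, e (πP z) = πQ ((redMap t d).baseChange (MvPolynomial σ A) z))
    (he' : ∀ z, e' (πQ z) = πR ((redMap t d').baseChange (MvPolynomial σ A) z))
    (hfin : Module.Finite (MvPolynomial σ A)
      (LinearMap.ker e' ⧸ (LinearMap.range e).comap (LinearMap.ker e').subtype)) :
    GrFin (tI t) d d' := by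
  classical
  haveI := hfin
  intro S hS1 hS2 hS3 hS4 hS5
  have hS5' : ∀ k i x, x ∈ S k → t i • x ∈ S (k + 1) := fun k i x hx =>
    hS5 k (Submodule.smul_mem_smul (Ideal.subset_span ⟨i, rfl⟩) hx)
  let MS : Submodule (MvPolynomial σ A) (MvPolynomial σ A ⊗[A] Red t Q) :=
    { carrier := {z | ∀ k, ∃ x ∈ S k, gr t Q k z = Submodule.Quotient.mk x}
      add_mem' := fun {a b} ha hb k => by
        obtain ⟨x, hx, hx'⟩ := ha k
        obtain ⟨y, hy, hy'⟩ := hb k
        exact ⟨x + y, add_mem hx hy, by rw [map_add, hx', hy']; rfl⟩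
      zero_mem' := fun k => ⟨0, zero_mem _, by simp⟩
      smul_mem' := fun b z hz => smul_mem_of_family t S hS5' b z hz }
  have hMS : ∀ z ∈ MS, e' (πQ z) = 0 := fun z hz => by
    rw [he']
    refine hkR _ fun k => ?_
    obtain ⟨x, hx, hx'⟩ := hz k
    rw [gr_natural t d' k z hx']
    exact (Submodule.Quotient.mk_eq_zero _).2 (hS2 k hx)
  let W : Submodule (MvPolynomial σ A) (LinearMap.ker e') :=
    (MS.map πQ).comap (LinearMap.ker e').subtype
  let π := ((LinearMap.range e).comap (LinearMap.ker e').subtype).mkQ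
  obtain ⟨s, hs⟩ : (W.map π).FG := IsNoetherian.noetherian _
  have hpre : ∀ y ∈ s, ∃ z ∈ MS, ∃ h : e' (πQ z) = 0, π ⟨πQ z, h⟩ = y := fun y hy => by
    obtain ⟨⟨w, hw'⟩, ⟨z, hz, rfl⟩, rfl⟩ := (hs ▸ Submodule.subset_span hy : y ∈ W.map π)
    exact ⟨z, hz, hw', rfl⟩
  choose Z hZ hZ0 hZy using hpre
  choose N hN using fun y : s => gr_bdd t (Z y.1 y.2)
  let D := Finset.univ.sup N
  choose xf hxf hxf' using fun (y : s) (j : ℕ) => hZ y.1 y.2 j
  let G : ℕ → Finset Q := fun j => Finset.univ.image fun y : s => xf y j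
  have hG : ∀ j, (G j : Set Q) ⊆ S j := fun j x hx => by
    simp only [G, Finset.coe_image, Set.mem_image] at hx
    obtain ⟨y, -, rfl⟩ := hx
    exact hxf y j
  refine ⟨D, G, hG, fun k x hx => ?_⟩
  let T : ℕ → Submodule A Q := fun k =>
    (⨆ (j : ℕ) (_ : j ≤ k) (_ : j ≤ D), tI t ^ (k - j) • Submodule.span A (G j : Set Q)) ⊔
      (fil (tI t) P k).map d ⊔ fil (tI t) Q (k + 1)
  have hT : ∀ k i x, x ∈ T k → t i • x ∈ T (k + 1) := fun k i x hx => by
    have hle : tI t • T k ≤ T (k + 1) := by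
      simp only [T, Submodule.smul_sup, Submodule.smul_iSup]
      refine sup_le_sup (sup_le_sup (iSup_le fun j => iSup_le fun hj => iSup_le fun hjD => ?_) ?_) ?_
      · refine le_iSup_of_le j (le_iSup_of_le (by omega) (le_iSup_of_le hjD ?_))
        rw [← Submodule.smul_assoc, smul_eq_mul, ← pow_succ', ← Nat.sub_add_comm hj]
      · rw [← Submodule.map_smul'', smul_fil_one]
      · rw [smul_fil_one]
    exact hle (Submodule.smul_mem_smul (Ideal.subset_span ⟨i, rfl⟩) hx)
  let MT : Submodule (MvPolynomial σ A) (MvPolynomial σ A ⊗[A] Red t Q) :=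
    { carrier := {z | ∀ k, ∃ x ∈ T k, gr t Q k z = Submodule.Quotient.mk x}
      add_mem' := fun {a b} ha hb k => by
        obtain ⟨x, hx, hx'⟩ := ha k
        obtain ⟨y, hy, hy'⟩ := hb k
        exact ⟨x + y, add_mem hx hy, by rw [map_add, hx', hy']; rfl⟩
      zero_mem' := fun k => ⟨0, zero_mem _, by simp⟩
      smul_mem' := fun b z hz => smul_mem_of_family t T hT b z hz }
  have hgen : ∀ y (hy : y ∈ s), Z y hy ∈ MT := fun y hy j => by
    by_cases hj : j ≤ D
    · refine ⟨xf ⟨y, hy⟩ j, Submodule.mem_sup_left (Submodule.mem_sup_left ?_), hxf' ⟨y, hy⟩ j⟩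
      refine Submodule.mem_iSup_of_mem j (Submodule.mem_iSup_of_mem le_rfl (Submodule.mem_iSup_of_mem hj ?_))
      rw [Nat.sub_self, pow_zero, Ideal.one_eq_top, Submodule.top_smul]
      exact Submodule.subset_span (Finset.mem_coe.2 (Finset.mem_image_of_mem _ (Finset.mem_univ _)))
    · refine ⟨0, zero_mem _, ?_⟩
      rw [hN ⟨y, hy⟩ j ((Finset.le_sup (Finset.mem_univ _)).trans (by omega))]
      rfl
  obtain ⟨z, hz, hz'⟩ := gr_lift t k x (hS1 k hx)
  have hzS : z ∈ MS := fun j => by
    by_cases h : j = k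
    · subst h
      exact ⟨x, hx, hz⟩
    · exact ⟨0, zero_mem _, by rw [hz' j h]; rfl⟩
  have hmem : π ⟨πQ z, hMS z hzS⟩ ∈ Submodule.span (MvPolynomial σ A) (s : Set _) :=
    hs.symm ▸ ⟨_, ⟨z, hzS, rfl⟩, rfl⟩
  let U := ((MT.map πQ).comap (LinearMap.ker e').subtype).map π
  have hsU : Submodule.span (MvPolynomial σ A) (s : Set _) ≤ U :=
    Submodule.span_le.2 fun y hy => ⟨⟨πQ (Z y hy), hZ0 y hy⟩, ⟨_, hgen y hy, rfl⟩, hZy y hy⟩
  obtain ⟨⟨w, hw⟩, ⟨v, hv, hvw⟩, hweq⟩ := hsU hmem
  obtain ⟨p, hp⟩ := (Submodule.Quotient.eq _).1 hweq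
  obtain ⟨p, rfl⟩ := hP p
  have hdiff : πQ (z - (v - (redMap t d).baseChange (MvPolynomial σ A) p)) = 0 := by
    change e (πP p) = w - πQ z at hp
    change πQ v = w at hvw
    rw [map_sub, map_sub, ← he, hp, hvw]
    abel
  have h0 := hkQ _ hdiff k
  obtain ⟨a, ha, ha'⟩ := hv k
  obtain ⟨b, hb, hb'⟩ := gr_mem t k p
  rw [map_sub, map_sub, hz, ha', gr_natural t d k p hb', ← Submodule.Quotient.mk_sub, ← Submodule.Quotient.mk_sub,
    Submodule.Quotient.mk_eq_zero] at h0
  have hmem' : a - d b ∈ T k := Submodule.sub_mem _ ha (Submodule.mem_sup_left (Submodule.mem_sup_right ⟨b, hb, rfl⟩))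
  simpa using Submodule.add_mem _ (Submodule.mem_sup_right h0 : x - (a - d b) ∈ T k) hmem'

end Groth.Agent.FSProper
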