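import Groth.Agent.FSchCoh.QCTInd
import Groth.Agent.FSchCoh.LimClose
import Groth.Agent.FSchCoh.LimKer
import Groth.Agent.FSchCoh.Vanish
import Groth.Agent.FSchCoh.PushColim
import Groth.Agent.SiteCoh.AcyclicCx

/-!
# Unions of coherent submodules are closed under extensions
-/

set_option autoImplicit false
set_option backward.isDefEq.respectTransparency false
set_option backward.isDefEq.respectTransparency.types false
set_option linter.style.haveILetI false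
set_option maxHeartbeats 1000000

universe u

open CategoryTheory CategoryTheory.Limits AlgebraicGeometry TopologicalSpace Opposite
open Groth.Agent.RSFin (sc rsR rs rs_rs rs_smul ap ap_rs Gen Rel leg)
open Groth.Agent.FSchCoh (Fam Sat satSub spanS satObj satι satι_injective FGen famOf mem_span_of_sat_famOf Good LimPres
  limPres_of_cover exists_gen exists_gen_rel_of_mono ind_acyclic ind_of_limPres)

noncomputable section

namespace Groth.Agent.FSProper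

variable {𝔛 : FSch.Sys.{u}} {h𝔛 : 𝔛.IsLocNoethFormal}

lemma sections_lift {S : ShortComplex (FSch.ModF 𝔛 h𝔛.1)} (hS : S.ShortExact) {U : (𝔛.X 0).Opens}
    (h₁ : Subsingleton (CohSite.HU (ModSite.toAb S.X₁) 1 U)) : Function.Surjective (ap S.g U) := by
  haveI : PreservesFiniteColimits (SheafOfModules.toSheaf.{u} (ModSite.ringSh (𝔛.Osh h𝔛.1))) :=
    CohQC.toSheaf_preservesFiniteColimits _
  haveI : Subsingleton (CohSite.HU (S.map (SheafOfModules.toSheaf.{u} (ModSite.ringSh (𝔛.Osh h𝔛.1)))).X₁ 1 U) := h₁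
  exact SiteCoh.sections_surjective (hS.map_of_exact (SheafOfModules.toSheaf.{u} (ModSite.ringSh (𝔛.Osh h𝔛.1)))) U

lemma sections_exact {S : ShortComplex (FSch.ModF 𝔛 h𝔛.1)} (hS : S.ShortExact) {U : (𝔛.X 0).Opens}
    (t : ModSite.sect S.X₂ U) (ht : ap S.g U t = 0) : ∃ a, ap S.f U a = t := by
  haveI := hS.mono_f
  haveI : IsIso (kernel.lift S.g S.f S.zero) :=
    haveI := hS.exact.epi_kernelLift
    haveI : Mono (kernel.lift S.g S.f S.zero) := mono_of_mono_fac (kernel.lift_ι S.g S.f S.zero)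
    isIso_of_mono_of_epi _
  obtain ⟨b, rfl⟩ := (RSFin.kernel_sections S.g U).2 t ht
  refine ⟨ap (inv (kernel.lift S.g S.f S.zero)) U b, ?_⟩
  rw [← RSFin.ap_comp]
  exact congrArg (fun z => ap z U b) (by rw [IsIso.inv_comp_eq, kernel.lift_ι])

/-- An extension of good modules is good. -/
theorem good_ext {S : ShortComplex (FSch.ModF 𝔛 h𝔛.1)} (hS : S.ShortExact) (hA : Good h𝔛 S.X₁)
    (hC : Good h𝔛 S.X₃) : Good h𝔛 S.X₂ := by
  intro U hU ι _ q
  obtain ⟨κ, hκ, r, hr⟩ := hC hU fun k => ap S.g U (q k)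
  choose a ha using fun l => sections_exact (h𝔛 := h𝔛) hS (∑ k, r l k • q k) (by
    rw [map_sum, ← hr.1 l]
    exact Finset.sum_congr rfl fun k _ => map_smul _ _ _)
  obtain ⟨μ, hμ, r', hr'⟩ := hA hU a
  refine ⟨μ, hμ, fun m k => ∑ l, r' m l * r l k, fun m => ?_, fun V h c hc y hy => ?_⟩
  · have := congrArg (ap S.f U) (hr'.1 m)
    simp only [map_sum, map_smul, ha, map_zero, Finset.smul_sum, smul_smul] at this
    rw [Finset.sum_comm] at this
    simpa only [Finset.sum_smul] using this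
  · have hc' : ∑ k, c k • rs S.X₃ h (ap S.g U (q k)) = 0 := by
      have := congrArg (ap S.g V) hc
      rw [map_sum, map_zero] at this
      refine Eq.trans (Finset.sum_congr rfl fun k _ => ?_) this
      rw [map_smul, ap_rs]
    obtain ⟨W, hW, hyW, hm⟩ := hr.2 h c hc' y hy
    obtain ⟨d, hd⟩ := (Submodule.mem_span_range_iff_exists_fun _).1 hm
    have hd0 : ∑ l, d l • rs S.X₁ (hW.trans h) (a l) = 0 := by
      haveI := hS.mono_f
      refine RSFin.injective_of_mono S.f W ?_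
      rw [map_zero, map_sum]
      simp only [map_smul, ap_rs, ha, map_sum, rs_smul, Finset.smul_sum, smul_smul]
      rw [Finset.sum_comm]
      simp only [← Finset.sum_smul]
      have := congrArg (rs S.X₂ hW) hc
      rw [RSFin.rs_sum_smul, map_zero] at this
      refine Eq.trans (Finset.sum_congr rfl fun k _ => ?_) this
      rw [rs_rs]
      refine congrArg (· • rs S.X₂ (hW.trans h) (q k)) ?_
      have := congrFun hd k
      simpa only [Finset.sum_apply, Pi.smul_apply, smul_eq_mul] using this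
    obtain ⟨W', hW', hyW', hm'⟩ := hr'.2 (hW.trans h) d hd0 y hyW
    obtain ⟨e, he⟩ := (Submodule.mem_span_range_iff_exists_fun _).1 hm'
    refine ⟨W', hW'.trans hW, hyW', (Submodule.mem_span_range_iff_exists_fun _).2 ⟨e, funext fun k => ?_⟩⟩
    simp only [Finset.sum_apply, Pi.smul_apply, smul_eq_mul, map_sum, map_mul, Finset.mul_sum]
    rw [Finset.sum_comm]
    rw [← RSFin.rsR_rsR hW' hW, ← congrFun hd k]
    simp only [Finset.sum_apply, Pi.smul_apply, smul_eq_mul, map_sum, map_mul, RSFin.rsR_rsR]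
    refine Finset.sum_congr rfl fun l _ => ?_
    have := congrFun he l
    simp only [Finset.sum_apply, Pi.smul_apply, smul_eq_mul] at this
    rw [← this, Finset.sum_mul]
    exact Finset.sum_congr rfl fun m _ => by ring

/-- A family that is finitely generated near every point spans a coherent submodule of a good module. -/
theorem isCohF_satObj_of_good {F : FSch.ModF 𝔛 h𝔛.1} (hF : Good h𝔛 F) {S : Fam F} (hS : FGen S ⊤) :
    FSch.IsCohF 𝔛 h𝔛.1 (satObj S) := by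
  refine RSFin.isFinitePresentation_of_forall _ fun x => ?_
  obtain ⟨W, n, e, hxW, -, he, hg⟩ := hS x trivial
  obtain ⟨U, hU, hxU, hle⟩ := exists_isAffineOpen_mem_and_subset (X := 𝔛.X 0) (x := x) (U := W) hxW
  let e' : ULift.{u} (Fin n) → ModSite.sect (satObj S) U := fun k => ⟨rs F hle (e k.down), (he k.down).rs hle⟩
  have hgen : Gen (satObj S) e' := fun V hV t y hy => by
    obtain ⟨W', hW', hyW', hm⟩ := mem_span_of_sat_famOf e (hV.trans hle)
      ((show Sat S (ap (satι S) V t) from t.2).trans fun p hp => by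
        have := (hg p hp).rs (inf_le_inf_left p.1 (hV.trans hle))
        rwa [rs_rs] at this) hy
    obtain ⟨c, hc⟩ := (RSFin.mem_spanOn_iff _ _ _ _).1 hm
    refine ⟨W', hW', hyW', ?_⟩
    have e1 : rs (satObj S) hW' t = ∑ k, c k • rs (satObj S) (hW'.trans hV) (e' ⟨k⟩) := by
      refine satι_injective S W' ?_
      rw [ap_rs, ← hc, map_sum]
      refine Finset.sum_congr rfl fun k _ => ?_
      rw [map_smul, ap_rs]
      exact congrArg _ (rs_rs F (hW'.trans hV) hle (e k)).symm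
    rw [e1]
    exact Submodule.sum_mem _ fun k _ => Submodule.smul_mem _ _ (Submodule.subset_span ⟨⟨k⟩, rfl⟩)
  obtain ⟨ι', κ', h₁, h₂, s', r', hs', hr'⟩ := exists_gen_rel_of_mono (satι S) e' hgen
    (fun k => rs F hle (e k.down)) (fun _ => rfl) (hF hU _)
  exact ⟨U, ι', κ', h₁, h₂, s', r', hxU, hs', hr'⟩

lemma sat_ap_leg {J : Type u} [Category.{u} J] {D : J ⥤ FSch.ModF 𝔛 h𝔛.1} (cA : Cocone D) {F : FSch.ModF 𝔛 h𝔛.1}
    (f : cA.pt ⟶ F) {l : J} {W : (𝔛.X 0).Opens} {μ : Type*} [Fintype μ] {g : μ → ModSite.sect (D.obj l) W}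
    (hg : Gen (D.obj l) g) {S : Fam F} (hS : ∀ m, (⟨W, ap f W (ap (leg cA l) W (g m))⟩ : Σ V, ModSite.sect F V) ∈ S)
    {V : (𝔛.X 0).Opens} (hV : V ≤ W) (a : ModSite.sect (D.obj l) V) : Sat S (ap f V (ap (leg cA l) V a)) := by
  intro y hy
  obtain ⟨W', hW, d, hyW, hd⟩ := hg.exists_fun hV a hy
  refine ⟨W', hW, hyW, ?_⟩
  rw [← ap_rs, ← ap_rs, ← hd, map_sum, map_sum]
  refine Submodule.sum_mem _ fun m _ => ?_
  rw [map_smul, map_smul, ap_rs, ap_rs]
  exact Submodule.smul_mem _ _ (Submodule.subset_span ⟨⟨⟨_, hS m⟩, hW.trans hV⟩, rfl⟩)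

lemma fgen_iUnion {F : FSch.ModF 𝔛 h𝔛.1} {α : Type*} (Ua : α → (𝔛.X 0).Opens)
    (hcov : ∀ x : 𝔛.X 0, ∃ a, x ∈ Ua a) (N : α → Type) [∀ a, Fintype (N a)]
    (e : ∀ a, N a → ModSite.sect F (Ua a))
    (hsat : ∀ a b (m : N b), Sat (Set.range fun n : N a => (⟨Ua a, e a n⟩ : Σ V, ModSite.sect F V))
      (rs F (inf_le_left : Ua b ⊓ Ua a ≤ Ua b) (e b m))) :
    FGen (⋃ a, Set.range fun n : N a => (⟨Ua a, e a n⟩ : Σ V, ModSite.sect F V)) ⊤ := by
  intro x _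
  obtain ⟨b, hxb⟩ := hcov x
  refine ⟨Ua b, Fintype.card (N b), fun m => e b ((Fintype.equivFin (N b)).symm m), hxb, le_top,
    fun m => Sat.of_mem (p := ⟨Ua b, e b ((Fintype.equivFin (N b)).symm m)⟩) (Set.mem_iUnion.2 ⟨b, _, rfl⟩),
    fun p hp => ?_⟩
  obtain ⟨b', m, rfl⟩ := Set.mem_iUnion.1 hp
  refine (hsat b b' m).mono fun p' hp' => ?_
  obtain ⟨n, rfl⟩ := hp'
  exact ⟨Fintype.equivFin (N b) n, congrArg (fun k => (⟨Ua b, e b k⟩ : Σ V, ModSite.sect F V))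
    ((Fintype.equivFin (N b)).symm_apply_apply n)⟩

variable [CompactSpace (𝔛.X 0)]

/-- The local step: a section of an extension lifting a section of a coherent stage lies in a finitely
generated family. -/
lemma exists_sat_step {S : ShortComplex (FSch.ModF 𝔛 h𝔛.1)} (hS : S.ShortExact) {J : Type u} [Category.{u} J]
    [IsFiltered J] {D : J ⥤ FSch.ModF 𝔛 h𝔛.1} (cA : Cocone D) (hc : IsColimit cA) (f : cA.pt ⟶ S.X₁) [IsIso f]
    {W : (𝔛.X 0).Opens} (loc : J → Fam S.X₂)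
    (hloc : ∀ {l l' : J}, (l ⟶ l') → ∀ {V : (𝔛.X 0).Opens}, V ≤ W → ∀ {z : ModSite.sect S.X₂ V},
      Sat (loc l) z → Sat (loc l') z)
    (hA : ∀ (l : J) (V : (𝔛.X 0).Opens), V ≤ W → ∀ a : ModSite.sect (D.obj l) V,
      Sat (loc l) (ap S.f V (ap f V (ap (leg cA l) V a))))
    {C : FSch.ModF 𝔛 h𝔛.1} (i : C ⟶ S.X₃) {κ : Type*} [Fintype κ] {c : κ → ModSite.sect C W} (hcg : Gen C c)
    (σ : κ → ModSite.sect S.X₂ W) (hσ : ∀ k, ap S.g W (σ k) = ap i W (c k))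
    (hσl : ∀ l k, (⟨W, σ k⟩ : Σ V, ModSite.sect S.X₂ V) ∈ loc l)
    {V : (𝔛.X 0).Opens} (hV : V ≤ W) (x : ModSite.sect S.X₂ V) (cx : ModSite.sect C V)
    (hx : ap S.g V x = ap i V cx) : ∃ l, Sat (loc l) x := by
  classical
  have hpt : ∀ y : V, ∃ (W' : (𝔛.X 0).Opens) (hW : W' ≤ V) (l : J), (y : 𝔛.X 0) ∈ W' ∧
      Sat (loc l) (rs S.X₂ hW x) := fun y => by
    obtain ⟨W₁, hW₁, d, hyW₁, hd⟩ := hcg.exists_fun hV cx y.2
    obtain ⟨a, ha⟩ := sections_exact (h𝔛 := h𝔛) hS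
      (rs S.X₂ hW₁ x - ∑ k, d k • rs S.X₂ (hW₁.trans hV) (σ k)) (by
        rw [map_sub, map_sum, sub_eq_zero, ap_rs, hx, ← ap_rs, ← hd, map_sum]
        refine Finset.sum_congr rfl fun k _ => ?_
        rw [map_smul, map_smul, ap_rs, ap_rs, hσ])
    obtain ⟨l, W', hW, a', hyW, ha'⟩ := RSFin.exists_stage_germ D cA hc hyW₁ (ap (inv f) W₁ a)
    refine ⟨W', hW.trans hW₁, l, hyW, ?_⟩
    have e1 : ap f W' (ap (leg cA l) W' a') = rs S.X₁ hW a := by
      rw [ha', ← ap_rs, ← RSFin.ap_comp, IsIso.inv_hom_id]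
      rfl
    have e : rs S.X₂ (hW.trans hW₁) x = ap S.f W' (ap f W' (ap (leg cA l) W' a')) +
        ∑ k, rsR hW (d k) • rs S.X₂ (hW.trans (hW₁.trans hV)) (σ k) := by
      rw [e1, ap_rs, ha, map_sub, RSFin.rs_sum_smul]
      simp only [rs_rs]
      exact (sub_add_cancel _ _).symm
    rw [e]
    refine (satSub (loc l) W').add_mem (hA l W' (hW.trans (hW₁.trans hV)) a') (Sat.of_mem_span ?_)
    exact Submodule.sum_mem _ fun k _ => Submodule.smul_mem _ _ (Submodule.subset_span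
      ⟨⟨⟨_, hσl l k⟩, hW.trans (hW₁.trans hV)⟩, rfl⟩)
  choose W' hW l hyW hl using hpt
  haveI : IsLocallyNoetherian (𝔛.X 0) := h𝔛.2.2 0
  haveI : IsNoetherian (𝔛.X 0) := ⟨⟩
  obtain ⟨Y, hY⟩ := (show IsCompact (V : Set (𝔛.X 0)) from NoetherianSpace.isCompact _).elim_finite_subcover
    (fun y : V => (W' y : Set (𝔛.X 0))) (fun y => (W' y).isOpen) fun y hy => Set.mem_iUnion.2 ⟨⟨y, hy⟩, hyW _⟩
  obtain ⟨l', hl'⟩ := IsFiltered.sup_objs_exists (Y.image l)
  refine ⟨l', Sat.of_locally fun y hy => ?_⟩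
  obtain ⟨z, hz, hyz⟩ := Set.mem_iUnion₂.1 (hY hy)
  exact ⟨W' z, hW z, hyz, hloc (hl' (Finset.mem_image_of_mem l hz)).some ((hW z).trans hV) (hl z)⟩

/-- Every section of an extension lies in a finitely generated family. -/
lemma exists_fgen_sat {S : ShortComplex (FSch.ModF 𝔛 h𝔛.1)} (hS : S.ShortExact)
    (hacy : ∀ {U : (𝔛.X 0).Opens}, IsAffineOpen U → Subsingleton (CohSite.HU (ModSite.toAb S.X₁) 1 U))
    {J : Type u} [Category.{u} J] [IsFiltered J] {D : J ⥤ FSch.ModF 𝔛 h𝔛.1} (cA : Cocone D) (hc : IsColimit cA)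
    (f : cA.pt ⟶ S.X₁) [IsIso f] (hD : ∀ l, FSch.IsCohF 𝔛 h𝔛.1 (D.obj l))
    {K : Type u} [Category.{u} K] [IsFiltered K] {E : K ⥤ FSch.ModF 𝔛 h𝔛.1} (cC : Cocone E) (hcC : IsColimit cC)
    (i : cC.pt ⟶ S.X₃) [IsIso i] (hE : ∀ j, FSch.IsCohF 𝔛 h𝔛.1 (E.obj j))
    [∀ j, Mono (leg cC j)]
    (U : (𝔛.X 0).Opens) (t : ModSite.sect S.X₂ U) : ∃ T : Fam S.X₂, FGen T ⊤ ∧ Sat T t := by
  classical
  haveI : IsLocallyNoetherian (𝔛.X 0) := h𝔛.2.2 0
  haveI : IsNoetherian (𝔛.X 0) := ⟨⟩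
  obtain ⟨α, hα, Ua, hUa, -, hcov⟩ := QC.exists_finite_affine_cover (X := 𝔛.X 0) (W := ⊤) isCompact_univ
  haveI := Fintype.ofFinite α
  obtain ⟨j, ct, hct⟩ := FSchCoh.LimGen.exists_stage_sect E cC hcC
    ((show IsCompact (U : Set (𝔛.X 0)) from NoetherianSpace.isCompact _)) (ap (inv i) U (ap S.g U t))
  have hct' : ap i U (ap (leg cC j) U ct) = ap S.g U t := by
    rw [hct, ← RSFin.ap_comp, IsIso.inv_hom_id]
    rfl
  choose κ hκ c hcg using fun a => exists_gen h𝔛 (hE j) (hUa a)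
  choose σ hσ using fun (m : Σ a, κ a) => sections_lift (h𝔛 := h𝔛) hS (hacy (hUa m.1))
    (ap (leg cC j ≫ i) (Ua m.1) (c m.1 m.2))
  choose μ hμ g hg using fun (a : α) (l : J) => exists_gen h𝔛 (hD l) (hUa a)
  haveI := hκ
  let e : ∀ (l : J) (b : α), κ b ⊕ μ b l → ModSite.sect S.X₂ (Ua b) := fun l b =>
    Sum.elim (fun k => σ ⟨b, k⟩) (fun k => ap S.f (Ua b) (ap f (Ua b) (ap (leg cA l) (Ua b) (g b l k))))
  let loc : α → J → Fam S.X₂ := fun b l => Set.range fun n => ⟨Ua b, e l b n⟩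
  have hAsat : ∀ (b : α) (l : J) (V : (𝔛.X 0).Opens), V ≤ Ua b → ∀ a : ModSite.sect (D.obj l) V,
      Sat (loc b l) (ap S.f V (ap f V (ap (leg cA l) V a))) := fun b l V hV a => by
    haveI := hμ b l
    have := sat_ap_leg (h𝔛 := h𝔛) cA (f ≫ S.f) (hg b l) (S := loc b l)
      (fun m => ⟨Sum.inr m, by simp [e, RSFin.ap_comp]⟩) hV a
    rwa [RSFin.ap_comp] at this
  have hloc : ∀ (b : α) {l l' : J}, (l ⟶ l') → ∀ {V : (𝔛.X 0).Opens}, V ≤ Ua b → ∀ {z : ModSite.sect S.X₂ V},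
      Sat (loc b l) z → Sat (loc b l') z := fun b {l l'} u {V} hV {z} hz => hz.trans fun p hp => by
    obtain ⟨n, rfl⟩ := hp
    rcases n with m | m
    · exact (Sat.of_mem (S := loc b l') (p := ⟨Ua b, σ ⟨b, m⟩⟩) ⟨Sum.inl m, rfl⟩).rs _
    · have e' : ap (leg cA l) (Ua b) (g b l m) = ap (leg cA l') (Ua b) (ap (D.map u) (Ua b) (g b l m)) := by
        rw [← RSFin.ap_comp, RSFin.leg_w]
      show Sat _ (rs S.X₂ _ (ap S.f (Ua b) (ap f (Ua b) (ap (leg cA l) (Ua b) (g b l m)))))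
      rw [e', ← ap_rs, ← ap_rs, ← ap_rs]
      exact hAsat b l' _ (inf_le_right.trans hV) _
  have hstep := fun (b : α) {V : (𝔛.X 0).Opens} (hV : V ≤ Ua b) (x : ModSite.sect S.X₂ V)
      (cx : ModSite.sect (E.obj j) V) (hx : ap S.g V x = ap (leg cC j ≫ i) V cx) =>
    exists_sat_step (h𝔛 := h𝔛) hS cA hc f (loc b) (hloc b) (hAsat b) (leg cC j ≫ i) (hcg b) (fun k => σ ⟨b, k⟩)
      (fun k => hσ ⟨b, k⟩) (fun l k => ⟨Sum.inl k, rfl⟩) hV x cx hx
  choose l₁ hl₁ using fun (q : (Σ a, κ a) × α) =>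
    hstep q.2 (V := Ua q.1.1 ⊓ Ua q.2) inf_le_right (rs S.X₂ inf_le_left (σ q.1))
      (rs _ inf_le_left (c q.1.1 q.1.2)) (by rw [ap_rs, hσ, ap_rs])
  choose l₂ hl₂ using fun b : α => hstep b (V := U ⊓ Ua b) inf_le_right (rs S.X₂ inf_le_left t)
    (rs _ inf_le_left ct) (by rw [ap_rs, ← hct', ← RSFin.ap_comp, ap_rs])
  obtain ⟨l, hl⟩ := IsFiltered.sup_objs_exists ((Finset.univ.image l₁) ∪ (Finset.univ.image l₂))
  haveI : ∀ b, Fintype (μ b l) := fun b => hμ b l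
  refine ⟨⋃ b, loc b l, fgen_iUnion (h𝔛 := h𝔛) Ua (fun x => hcov x trivial) (fun b => κ b ⊕ μ b l) (e l)
    fun b b' n => ?_, Sat.of_locally fun y hy => ?_⟩
  · rcases n with k | k
    · have hm : l₁ ((⟨b', k⟩ : Σ a, κ a), b) ∈ Finset.univ.image l₁ ∪ Finset.univ.image l₂ :=
        Finset.mem_union_left _ (Finset.mem_image_of_mem l₁ (Finset.mem_univ _))
      have h1 := hl₁ ((⟨b', k⟩ : Σ a, κ a), b)
      exact hloc b (hl hm).some inf_le_right h1
    · show Sat _ (rs S.X₂ _ (ap S.f (Ua b') (ap f (Ua b') (ap (leg cA l) (Ua b') (g b' l k)))))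
      rw [← ap_rs, ← ap_rs, ← ap_rs]
      exact hAsat b l _ inf_le_right _
  · obtain ⟨b, hxb⟩ := hcov y trivial
    have hm : l₂ b ∈ Finset.univ.image l₁ ∪ Finset.univ.image l₂ :=
      Finset.mem_union_right _ (Finset.mem_image_of_mem l₂ (Finset.mem_univ _))
    have h1 := hl₂ b
    have h2 := hloc b (hl hm).some inf_le_right h1
    refine ⟨U ⊓ Ua b, inf_le_left, ⟨hy, hxb⟩, h2.mono ?_⟩
    exact Set.subset_iUnion (fun b => loc b l) b

/-- **Unions of coherent submodules are closed under extensions.** -/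
theorem limPres_ext {S : ShortComplex (FSch.ModF 𝔛 h𝔛.1)} (hS : S.ShortExact) (hA : LimPres h𝔛 S.X₁)
    (hC : LimPres h𝔛 S.X₃) : LimPres h𝔛 S.X₂ := by
  have hgood : Good h𝔛 S.X₂ := good_ext hS hA.good hC.good
  have hacy : ∀ {U : (𝔛.X 0).Opens}, IsAffineOpen U → Subsingleton (CohSite.HU (ModSite.toAb S.X₁) 1 U) :=
    fun hU => ind_acyclic 𝔛 h𝔛.1 h𝔛 _ (ind_of_limPres hA) hU 0
  obtain ⟨J, _, _, PA, hPA, hmA⟩ := hA
  obtain ⟨K, _, _, PC, hPC, hmC⟩ := hC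
  haveI : ∀ j, Mono (leg (⟨S.X₃, PC.ι⟩ : Cocone PC.diag) j) := hmC
  choose T hT hTt using fun m : Σ U : (𝔛.X 0).Opens, ModSite.sect S.X₂ U =>
    exists_fgen_sat (h𝔛 := h𝔛) hS hacy (⟨S.X₁, PA.ι⟩ : Cocone PA.diag) PA.isColimit (𝟙 _) hPA
      (⟨S.X₃, PC.ι⟩ : Cocone PC.diag) PC.isColimit (𝟙 _) hPC m.1 m.2
  refine limPres_of_cover h𝔛 (fun m => satι (T m)) (fun m => isCohF_satObj_of_good hgood (hT m)) ?_
    fun U hU ι _ a g => hgood hU _
  intro V t x hx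
  refine ⟨V, le_rfl, PUnit.{1}, inferInstance, fun _ => ⟨V, t⟩, fun _ => ⟨t, hTt ⟨V, t⟩⟩, hx, ?_⟩
  rw [Fintype.sum_unique, RSFin.rs_self]
  rfl

end Groth.Agent.FSProper
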