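import Groth.Agent.FSProper.IndExt
import Groth.Agent.FSchCoh.LevelRpush

/-!
# Coherent and ind-coherent modules form weak Serre subcategories
-/

set_option autoImplicit false
set_option backward.isDefEq.respectTransparency false
set_option backward.isDefEq.respectTransparency.types false
set_option linter.style.haveILetI false
set_option maxHeartbeats 1000000

universe u

open CategoryTheory CategoryTheory.Limits AlgebraicGeometry TopologicalSpace Opposite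
open Groth.Agent.FSchCoh (LimPres limPres_cokernel limPres_kernel limPres_of_iso limPres_of_ind limPres_of_coh
  ind_of_limPres isQuasicoherent_of_limPres isCohF_kernel isCohF_of_qcoh_of_isFiniteType isCohF_unit)

noncomputable section

namespace Groth.Agent.FSProper

variable {𝔛 : FSch.Sys.{u}} (h𝔛 : 𝔛.IsLocNoethFormal) [CompactSpace (𝔛.X 0)]

/-- unions of coherent submodules in a five term exact sequence -/
theorem limPres_five (S : ComposableArrows (FSch.ModF 𝔛 h𝔛.1) 4) (hS : S.Exact) (h₀ : LimPres h𝔛 (S.obj 0))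
    (h₁ : LimPres h𝔛 (S.obj 1)) (h₃ : LimPres h𝔛 (S.obj 3)) (h₄ : LimPres h𝔛 (S.obj 4)) :
    LimPres h𝔛 (S.obj 2) := by
  let f₀ := S.map' 0 1
  let f₁ := S.map' 1 2
  let f₂ := S.map' 2 3
  let f₃ := S.map' 3 4
  have e₀ := hS.exact 0
  have e₁ := hS.exact 1
  have e₂ := hS.exact 2
  let i : cokernel f₀ ⟶ S.obj 2 := cokernel.desc f₀ f₁ (S.sc hS.toIsComplex 0).zero
  let π : S.obj 2 ⟶ kernel f₃ := kernel.lift f₃ f₂ (S.sc hS.toIsComplex 2).zero
  haveI : Mono i := e₀.mono_cokernelDesc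
  haveI : Epi π := e₂.epi_kernelLift
  have hπι : π ≫ kernel.ι f₃ = f₂ := kernel.lift_ι _ _ _
  have h12 : f₁ ≫ f₂ = 0 := (S.sc hS.toIsComplex 1).zero
  have hi2 : i ≫ f₂ = 0 := by rw [← cancel_epi (cokernel.π f₀), cokernel.π_desc_assoc, comp_zero, h12]
  have w : i ≫ π = 0 := by rw [← cancel_mono (kernel.ι f₃), Category.assoc, hπι, zero_comp, hi2]
  have h2 : (ShortComplex.mk i f₂ hi2).Exact := by
    let φ : ShortComplex.mk f₁ f₂ h12 ⟶ ShortComplex.mk i f₂ hi2 :=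
      { τ₁ := cokernel.π f₀, τ₂ := 𝟙 _, τ₃ := 𝟙 _, comm₁₂ := by simp [i], comm₂₃ := by simp }
    exact (ShortComplex.exact_iff_of_epi_of_isIso_of_mono φ).1 e₁
  have h3 : (ShortComplex.mk i π w).Exact := by
    let φ : ShortComplex.mk i π w ⟶ ShortComplex.mk i f₂ hi2 :=
      { τ₁ := 𝟙 _, τ₂ := 𝟙 _, τ₃ := kernel.ι f₃, comm₁₂ := by simp, comm₂₃ := by simp [hπι] }
    exact (ShortComplex.exact_iff_of_epi_of_isIso_of_mono φ).2 h2
  exact limPres_ext (h𝔛 := h𝔛) (S := ShortComplex.mk i π w) ⟨h3⟩ (limPres_cokernel (h𝔛 := h𝔛) f₀ h₀ h₁)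
    (limPres_kernel (h𝔛 := h𝔛) f₃ h₃ h₄)

/-- the ind-coherent modules -/
abbrev Ind : ObjectProperty (FSch.ModF 𝔛 h𝔛.1) :=
  ObjectProperty.ind.{u} fun M : FSch.ModF 𝔛 h𝔛.1 => FSch.IsCohF 𝔛 h𝔛.1 M

/-- the coherent modules -/
abbrev CohP : ObjectProperty (FSch.ModF 𝔛 h𝔛.1) := fun M => FSch.IsCohF 𝔛 h𝔛.1 M

theorem isCohF_zero : ∃ Z : FSch.ModF 𝔛 h𝔛.1, IsZero Z ∧ FSch.IsCohF 𝔛 h𝔛.1 Z :=
  ⟨kernel (𝟙 (FSch.unitF 𝔛 h𝔛.1)), isZero_kernel_of_mono _, isCohF_kernel h𝔛 (isCohF_unit h𝔛) (isCohF_unit h𝔛) _⟩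

theorem isWeakSerre_coh : WSerre.IsWeakSerre (CohP h𝔛) := by
  exact
    { exists_zero := by
        obtain ⟨Z, hZ, h⟩ := isCohF_zero h𝔛
        exact ⟨Z, hZ, h⟩
      kernels_le := by
        rintro _ ⟨g, k, hk, hX, hY⟩
        exact ObjectProperty.IsClosedUnderIsomorphisms.of_iso (P := fun G : FSch.ModF 𝔛 h𝔛.1 => FSch.IsCohF 𝔛 h𝔛.1 G)
          (hk.conePointUniqueUpToIso (kernelIsKernel g)).symm (isCohF_kernel h𝔛 hX hY g)
      cokernels_le := by
        rintro _ ⟨g, k, hk, hX, hY⟩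
        haveI := hX
        haveI := hY
        exact ObjectProperty.IsClosedUnderIsomorphisms.of_iso (P := fun G : FSch.ModF 𝔛 h𝔛.1 => FSch.IsCohF 𝔛 h𝔛.1 G)
          (hk.coconePointUniqueUpToIso (cokernelIsCokernel g)).symm
          (RSFin.isFinitePresentation_cokernel (X := (𝔛.X 0).carrier) (O := 𝔛.Osh h𝔛.1) g)
      prop_X₂_of_shortExact := fun {S} hS h1 h3 => by
        haveI := h1
        haveI := h3
        haveI : SheafOfModules.IsQuasicoherent.{u} (R := ModSite.ringSh (𝔛.Osh h𝔛.1)) S.X₂ :=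
          isQuasicoherent_of_limPres h𝔛 (limPres_ext (h𝔛 := h𝔛) hS (limPres_of_coh h𝔛 h1) (limPres_of_coh h𝔛 h3))
        haveI := RSFin.isFiniteType_of_shortExact (X := (𝔛.X 0).carrier) (O := 𝔛.Osh h𝔛.1) S hS
        exact isCohF_of_qcoh_of_isFiniteType h𝔛 }

theorem isWeakSerre_ind : WSerre.IsWeakSerre (Ind h𝔛) := by
  exact
    { exists_zero := by
        obtain ⟨Z, hZ, h⟩ := isCohF_zero h𝔛
        exact ⟨Z, hZ, ind_of_limPres (limPres_of_coh h𝔛 h)⟩
      kernels_le := by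
        rintro _ ⟨g, k, hk, hX, hY⟩
        exact ind_of_limPres (limPres_of_iso (hk.conePointUniqueUpToIso (kernelIsKernel g)).symm
          (limPres_kernel (h𝔛 := h𝔛) g (limPres_of_ind h𝔛 hX) (limPres_of_ind h𝔛 hY)))
      cokernels_le := by
        rintro _ ⟨g, k, hk, hX, hY⟩
        exact ind_of_limPres (limPres_of_iso (hk.coconePointUniqueUpToIso (cokernelIsCokernel g)).symm
          (limPres_cokernel (h𝔛 := h𝔛) g (limPres_of_ind h𝔛 hX) (limPres_of_ind h𝔛 hY)))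
      prop_X₂_of_shortExact := fun {S} hS h1 h3 => by
        exact ind_of_limPres (limPres_ext (h𝔛 := h𝔛) hS (limPres_of_ind h𝔛 h1) (limPres_of_ind h𝔛 h3)) }

end Groth.Agent.FSProper
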