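import Groth.Agent.FSProper.GrFin
import Groth.Agent.W7Cech.BCComplex
import Groth.Agent.CohFinite.Proper
import Groth.Agent.FlatCx.FlatBC
import Groth.Agent.QC.IdealMod
import Groth.Agent.ModDesc.FamOps

/-!
# Finite graded cohomology of a tower of Čech complexes on thickenings of a proper scheme
-/

set_option autoImplicit false
set_option backward.isDefEq.respectTransparency false
set_option backward.isDefEq.respectTransparency.types false
set_option linter.style.haveILetI false
set_option maxHeartbeats 1000000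

universe u

open CategoryTheory CategoryTheory.Limits AlgebraicGeometry TopologicalSpace Opposite
open TensorProduct MvPolynomial
open Groth.Agent.QC (res resO res_res res_smul app_res res_self)
open Groth.Agent.SiteCoh
open Groth.Agent.ModDesc (pullSectLE pullSectLE_smul span_pullSectLE)

noncomputable section

namespace Groth.Agent.FSProper

attribute [local instance] Abelian.hasFiniteBiproducts

section General

/-- The ring of sections over the preimage of an affine open is spanned by the sections over the open. -/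
theorem exists_eq_sum_secRing (A B : Type u) [CommRing A] [CommRing B] [Algebra A B] {X X' : Scheme.{u}}
    [X.Over (Spec (CommRingCat.of A))] [X'.Over (Spec (CommRingCat.of B))] (g : X' ⟶ X)
    (sq : IsPullback g (X' ↘ Spec (CommRingCat.of B)) (X ↘ Spec (CommRingCat.of A))
      (Spec.map (CommRingCat.ofHom (algebraMap A B)))) {V : X.Opens} (hV : IsAffineOpen V)
    (r : Γ(X', g ⁻¹ᵁ V)) :
    ∃ (n : ℕ) (b : Fin n → B) (s : Fin n → Γ(X, V)),
      r = ∑ i, W7Cech.secRing B (g ⁻¹ᵁ V) (b i) * (g.app V).hom (s i) := by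
  haveI := W7Cech.isAffineHom_bc A B g sq
  let h := Spec.map (CommRingCat.ofHom (algebraMap A B))
  have eV : V ≤ (X ↘ Spec (CommRingCat.of A)) ⁻¹ᵁ ⊤ := le_top
  have eO : (⊤ : (Spec (CommRingCat.of B)).Opens) ≤ h ⁻¹ᵁ ⊤ := le_top
  have hUW : g ⁻¹ᵁ V = g ⁻¹ᵁ V ⊓ (X' ↘ Spec (CommRingCat.of B)) ⁻¹ᵁ ⊤ := le_antisymm (le_inf le_rfl le_top) inf_le_left
  have hP := (isIso_pushoutSection_iff sq eO eV hUW).1
    (isIso_pushoutSection_of_isAffineOpen sq eO eV hUW (isAffineOpen_top _) (isAffineOpen_top _) hV)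
  letI : Algebra A ↑Γ(X, V) := (W7Cech.secRing A V).toAlgebra
  letI : Algebra B ↑Γ(X', g ⁻¹ᵁ V) := (W7Cech.secRing B (g ⁻¹ᵁ V)).toAlgebra
  letI : Algebra ↑Γ(X, V) ↑Γ(X', g ⁻¹ᵁ V) := (g.app V).hom.toAlgebra
  letI : Algebra A ↑Γ(X', g ⁻¹ᵁ V) := ((algebraMap B ↑Γ(X', g ⁻¹ᵁ V)).comp (algebraMap A B)).toAlgebra
  haveI : IsScalarTower A B ↑Γ(X', g ⁻¹ᵁ V) := IsScalarTower.of_algebraMap_eq fun _ => rfl
  haveI : IsScalarTower A ↑Γ(X, V) ↑Γ(X', g ⁻¹ᵁ V) :=
    IsScalarTower.of_algebraMap_eq fun a => (W7Cech.secRing_comm A B g sq V a).symm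
  haveI hpush : Algebra.IsPushout A B ↑Γ(X, V) ↑Γ(X', g ⁻¹ᵁ V) := by
    refine CommRingCat.isPushout_iff_isPushout.1 ?_
    refine IsPushout.of_iso hP.flip (Scheme.ΓSpecIso (CommRingCat.of A))
      (Scheme.ΓSpecIso (CommRingCat.of B)) (Iso.refl _) (Iso.refl _) ?_ ?_ ?_ ?_
    · rw [show h.appLE ⊤ ⊤ eO = h.appTop from h.app_eq_appLE.symm]
      exact Scheme.ΓSpecIso_naturality (CommRingCat.ofHom (algebraMap A B))
    · rw [← cancel_epi (Scheme.ΓSpecIso (CommRingCat.of A)).inv]
      ext a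
      simp only [Iso.refl_hom, Category.comp_id, Iso.inv_hom_id_assoc]
      rfl
    · rw [← cancel_epi (Scheme.ΓSpecIso (CommRingCat.of B)).inv]
      ext a
      simp only [Iso.refl_hom, Category.comp_id, Iso.inv_hom_id_assoc]
      rfl
    · simp only [Iso.refl_hom, Category.comp_id, Category.id_comp]
      exact (g.app_eq_appLE).symm
  haveI : Algebra.IsPushout A ↑Γ(X, V) B ↑Γ(X', g ⁻¹ᵁ V) := hpush.symm
  obtain ⟨z, rfl⟩ := (Algebra.IsPushout.equiv A ↑Γ(X, V) B ↑Γ(X', g ⁻¹ᵁ V)).surjective r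
  obtain ⟨S, rfl⟩ := TensorProduct.exists_finset z
  refine ⟨S.card, fun i => (S.equivFin.symm i).1.2, fun i => (S.equivFin.symm i).1.1, ?_⟩
  rw [map_sum, ← Finset.sum_coe_sort, ← S.equivFin.symm.sum_comp]
  refine Finset.sum_congr rfl fun i _ => ?_
  rw [Algebra.IsPushout.equiv_tmul]
  exact mul_comm _ _

variable {X : Scheme.{u}}

lemma app_sum {M N : X.Modules} {ι : Type*} (s : Finset ι) (φ : ι → (M ⟶ N)) (W : X.Opens) (m : Γ(M, W)) :
    (∑ i ∈ s, φ i).app W m = ∑ i ∈ s, (φ i).app W m :=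
  map_sum (AddMonoidHom.mk' (fun ψ : M ⟶ N => ψ.app W m) fun _ _ => rfl) φ s

lemma isQCoh_biproduct {ι : Type} [Fintype ι] (N : ι → X.Modules) (hN : ∀ i, Coh.IsQCoh (N i)) :
    Coh.IsQCoh (⨁ N) :=
  QC.isQCoh_of_iso (biproduct.isoCoproduct N ≪≫
      (Sigma.whiskerEquiv (g := fun k : ULift.{u} ι => N k.down) Equiv.ulift.symm
        (fun _ => Iso.refl _))).symm (QC.isQCoh_colimit (Discrete.functor _) fun j => hN j.as.down)

/-- Sections of a finite sum. -/
lemma biproduct_app_eq_sum {ι : Type} [Fintype ι] (N : ι → X.Modules) (W : X.Opens) (m : Γ(⨁ N, W)) :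
    m = ∑ i, (biproduct.ι N i).app W ((biproduct.π N i).app W m) := by
  have h := congr(($(biproduct.total (f := N))).app W m)
  rw [app_sum] at h
  exact h.symm

lemma biproduct_desc_app {ι : Type} [Fintype ι] {N : ι → X.Modules} {T : X.Modules} (φ : ∀ i, N i ⟶ T)
    (W : X.Opens) (m : Γ(⨁ N, W)) :
    (biproduct.desc φ).app W m = ∑ i, (φ i).app W ((biproduct.π N i).app W m) := by
  conv_lhs => rw [biproduct_app_eq_sum N W m]
  rw [map_sum]
  refine Finset.sum_congr rfl fun i _ => ?_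
  exact congr(($(biproduct.ι_desc φ i)).app W ((biproduct.π N i).app W m))

open scoped Classical in
lemma biproduct_π_app_sum {ι : Type} [Fintype ι] (N : ι → X.Modules) (W : X.Opens) (y : ∀ i, Γ(N i, W)) (j : ι) :
    (biproduct.π N j).app W (∑ i, (biproduct.ι N i).app W (y i)) = y j := by
  rw [map_sum, Finset.sum_eq_single_of_mem j (Finset.mem_univ j) fun i _ hi => ?_]
  · exact congr(($(biproduct.ι_π_self N j)).app W (y j))
  · exact congr(($(biproduct.ι_π_ne N hi)).app W (y i))

lemma mem_of_eq {R M : Type*} [Semiring R] [AddCommMonoid M] [Module R M] {S : Submodule R M} {a b : M}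
    (e : a = b) (h : b ∈ S) : a ∈ S := e.symm ▸ h

/-- An element killed by the cokernel projection comes from the source, on an affine open. -/
lemma exists_app_eq_of_cokernel {M N : X.Modules} (hM : Coh.IsQCoh M) (hN : Coh.IsQCoh N) (φ : M ⟶ N)
    {V : X.Opens} (hV : IsAffineOpen V) (s : Γ(N, V)) (h : (cokernel.π φ).app V s = 0) :
    ∃ m, φ.app V m = s := by
  obtain ⟨k, hk⟩ := (QC.mem_range_kernel_app (cokernel.π φ) V s).2 h
  obtain ⟨m, hm⟩ := QC.app_surjective_of_epi hV hM (QC.isQCoh_image hM hN φ) (Abelian.factorThruImage φ) k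
  refine ⟨m, ?_⟩
  rw [← hk, ← hm]
  exact (congr(($(Abelian.image.fac φ)).app V m)).symm

end General

variable {A : Type u} [CommRing A] {σ : Type u} [Fintype σ] (t : σ → A)
variable {X₀ : Scheme.{u}} [X₀.Over (Spec (CommRingCat.of A))] (M₀ : X₀.Modules)
variable {ι : Type u} [Finite ι] (U : ι → X₀.Opens)

/-- A tower of thickenings with modules, seen through a complex of `A`-modules. -/
structure LevData where
  /-- the cochains -/
  C : ℕ → Type u
  [grp : ∀ n, AddCommGroup (C n)]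
  [mod : ∀ n, Module A (C n)]
  /-- the differentials -/
  d : ∀ n m, C n →ₗ[A] C m
  /-- the map to the cochains of the bottom level -/
  p₀ : ∀ n, C n →ₗ[A] (W7Cech.CoX A U M₀ n : Type u)
  p₀_surj : ∀ n, Function.Surjective (p₀ n)
  p₀_ker : ∀ n, LinearMap.ker (p₀ n) = fil (tI t) (C n) 1
  p₀_d : ∀ n m x, p₀ m (d n m x) = (((W7Cech.CC A U).obj M₀).d n m).hom (p₀ n x)
  /-- the thickenings -/
  X : ℕ → Scheme.{u}
  [ov : ∀ k, (X k).Over (Spec (CommRingCat.of A))]
  /-- the modules on the thickenings -/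
  M : ∀ k, (X k).Modules
  qcoh : ∀ k, Coh.IsQCoh (M k)
  /-- the immersions of the bottom level -/
  c : ∀ k, X₀ ⟶ X k
  /-- opens over the intersections -/
  W : ∀ k n, (Fin (n + 1) → ι) → (X k).Opens
  affine : ∀ k n a, IsAffineOpen (W k n a)
  le : ∀ k n a, tupleProd U a ≤ c k ⁻¹ᵁ W k n a
  surj : ∀ k n a, Function.Surjective ((c k).appLE (W k n a) (tupleProd U a) (le k n a)).hom
  /-- the reductions -/
  red : ∀ k, M k ⟶ (Scheme.Modules.pushforward (c k)).obj M₀
  /-- the maps to the sections -/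
  pr : ∀ k n a, C n →ₗ[A] ((W7Cech.secA A (W k n a)).obj (M k) : Type u)
  pr_surj : ∀ k n (y : ∀ a, ((W7Cech.secA A (W k n a)).obj (M k) : Type u)), ∃ x, ∀ a, pr k n a x = y a
  pr_ker : ∀ k n x, (∀ a, pr k n a x = 0) ↔ x ∈ fil (tI t) (C n) (k + 1)
  red_pr : ∀ k n a x,
    res M₀ (le k n a) ((red k).app (W k n a) (pr k n a x)) = (show Γ(M₀, tupleProd U a) from p₀ n x a)

variable {t M₀ U}

namespace LevData

attribute [local instance] LevData.grp LevData.mod LevData.ov

variable (D : LevData t M₀ U)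


variable {X' : Scheme.{u}} [X'.Over (Spec (CommRingCat.of (MvPolynomial σ A)))] (g : X' ⟶ X₀)
  (sq : IsPullback g (X' ↘ Spec (CommRingCat.of (MvPolynomial σ A))) (X₀ ↘ Spec (CommRingCat.of A))
    (Spec.map (CommRingCat.ofHom (algebraMap A (MvPolynomial σ A)))))
  (hU : ∀ (n : ℕ) (a : Fin (n + 1) → ι), IsAffineOpen (tupleProd U a))
  (hM₀ : Coh.IsQCoh M₀)

/-- The pulled back module. -/
abbrev F' : X'.Modules := (Scheme.Modules.pullback g).obj M₀

/-- The coefficient of a homogeneous relation in a component. -/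
def val (k n : ℕ) (a : Fin (n + 1) → ι) (y : Deg σ k → Γ(D.M k, D.W k n a)) :
    Γ(F' (M₀ := M₀) g, tupleProd (W7Cech.pre g U) a) :=
  ∑ e : Deg σ k, W7Cech.secRing (MvPolynomial σ A) (tupleProd (W7Cech.pre g U) a) (monomial e.1 1) •
    pullSectLE g M₀ (tupleProd U a) (tupleProd (W7Cech.pre g U) a) (W7Cech.tupleProd_pre g U a).le
      (res M₀ (D.le k n a) ((D.red k).app (D.W k n a) (y e)))

/-- The relations of degree `k`. -/
def Rel (k n : ℕ) (a : Fin (n + 1) → ι) : Set (Deg σ k → Γ(D.M k, D.W k n a)) :=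
  {y | ∑ e : Deg σ k, W7Cech.secRing A (D.W k n a) (tPow t e.1) • y e = 0}

/-- The coefficients of relations of degree at most `N`. -/
def valSet (N n : ℕ) (a : Fin (n + 1) → ι) : Set Γ(F' (M₀ := M₀) g, tupleProd (W7Cech.pre g U) a) :=
  {s | ∃ k, k ≤ N ∧ ∃ y ∈ D.Rel k n a, D.val g k n a y = s}

lemma valSet_mono {N N' : ℕ} (h : N ≤ N') (n : ℕ) (a : Fin (n + 1) → ι) : D.valSet g N n a ⊆ D.valSet g N' n a :=
  fun _ ⟨k, hk, y, hy, e⟩ => ⟨k, hk.trans h, y, hy, e⟩

lemma rel_smul {k n : ℕ} {a : Fin (n + 1) → ι} {y : Deg σ k → Γ(D.M k, D.W k n a)} (hy : y ∈ D.Rel k n a)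
    (r : Γ(D.X k, D.W k n a)) : (fun e => r • y e) ∈ D.Rel k n a := by
  change ∑ e : Deg σ k, _ = 0
  simp only [smul_comm _ r]
  rw [← Finset.smul_sum, show ∑ e : Deg σ k, W7Cech.secRing A (D.W k n a) (tPow t e.1) • y e = 0 from hy, smul_zero]

lemma val_smul (k n : ℕ) (a : Fin (n + 1) → ι) (y : Deg σ k → Γ(D.M k, D.W k n a)) (r : Γ(D.X k, D.W k n a)) :
    D.val g k n a (fun e => r • y e) =
      (g.appLE (tupleProd U a) (tupleProd (W7Cech.pre g U) a) (W7Cech.tupleProd_pre g U a).le).hom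
        (((D.c k).appLE (D.W k n a) (tupleProd U a) (D.le k n a)).hom r) • D.val g k n a y := by
  rw [val, val, Finset.smul_sum]
  refine Finset.sum_congr rfl fun e _ => ?_
  have h1 : (D.red k).app (D.W k n a) (r • y e) =
      ((D.c k).app (D.W k n a)).hom r • (show Γ(M₀, D.c k ⁻¹ᵁ D.W k n a) from (D.red k).app (D.W k n a) (y e)) :=
    Scheme.Modules.Hom.app_smul (D.red k) r (y e)
  rw [h1, res_smul, pullSectLE_smul, smul_comm]
  rfl

/-- The cochains of the pullback as a base change. -/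
def theta (n : ℕ) : (MvPolynomial σ A) ⊗[A] Red t (D.C n) ≃ₗ[(MvPolynomial σ A)] (W7Cech.CoX (MvPolynomial σ A) (W7Cech.pre g U) (F' (M₀ := M₀) g) n : Type u) :=
  letI := Module.compHom (W7Cech.CoX (MvPolynomial σ A) (W7Cech.pre g U) (F' (M₀ := M₀) g) n : Type u) (algebraMap A (MvPolynomial σ A))
  haveI : IsScalarTower A (MvPolynomial σ A) (W7Cech.CoX (MvPolynomial σ A) (W7Cech.pre g U) (F' (M₀ := M₀) g) n : Type u) :=
    IsScalarTower.of_algebraMap_smul fun _ _ => rfl
  (LinearEquiv.baseChange A (MvPolynomial σ A) _ _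
    ((Submodule.quotEquivOfEq _ _ (D.p₀_ker n).symm).trans
      (LinearMap.quotKerEquivOfSurjective (D.p₀ n) (D.p₀_surj n)))).trans
    (W7Cech.isBaseChange_psiX A (MvPolynomial σ A) g sq U M₀ hU hM₀ n).equiv

lemma theta_tmul (n : ℕ) (b : (MvPolynomial σ A)) (x : D.C n) :
    D.theta g sq hU hM₀ n (b ⊗ₜ Submodule.Quotient.mk x) =
      b • (show (W7Cech.CoX (MvPolynomial σ A) (W7Cech.pre g U) (F' (M₀ := M₀) g) n : Type u) from
        W7Cech.psiX A (MvPolynomial σ A) g U M₀ n sq (D.p₀ n x)) := by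
  letI := Module.compHom (W7Cech.CoX (MvPolynomial σ A) (W7Cech.pre g U) (F' (M₀ := M₀) g) n : Type u) (algebraMap A (MvPolynomial σ A))
  haveI : IsScalarTower A (MvPolynomial σ A) (W7Cech.CoX (MvPolynomial σ A) (W7Cech.pre g U) (F' (M₀ := M₀) g) n : Type u) :=
    IsScalarTower.of_algebraMap_smul fun _ _ => rfl
  exact IsBaseChange.equiv_tmul (W7Cech.isBaseChange_psiX A (MvPolynomial σ A) g sq U M₀ hU hM₀ n) b (D.p₀ n x)

lemma theta_hom (k n : ℕ) (x : Deg σ k → D.C n) (a : Fin (n + 1) → ι) :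
    (show Γ(F' (M₀ := M₀) g, tupleProd (W7Cech.pre g U) a) from D.theta g sq hU hM₀ n (hom t (D.C n) k x) a) =
      D.val g k n a (fun e => D.pr k n a (x e)) := by
  rw [hom, map_sum]
  rw [show (∑ e : Deg σ k, D.theta g sq hU hM₀ n (monomial e.1 1 ⊗ₜ Submodule.Quotient.mk (x e))) a =
    ∑ e : Deg σ k, D.theta g sq hU hM₀ n (monomial e.1 1 ⊗ₜ Submodule.Quotient.mk (x e)) a from
      Finset.sum_apply a _ _]
  refine Finset.sum_congr rfl fun e _ => ?_
  rw [theta_tmul, D.red_pr k n a (x e)]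
  rfl

include sq hU hM₀ in
lemma theta_d (n m : ℕ) (z : (MvPolynomial σ A) ⊗[A] Red t (D.C n)) :
    D.theta g sq hU hM₀ m ((redMap t (D.d n m)).baseChange (MvPolynomial σ A) z) =
      (((W7Cech.CC (MvPolynomial σ A) (W7Cech.pre g U)).obj (F' (M₀ := M₀) g)).d n m).hom (D.theta g sq hU hM₀ n z) := by
  induction z using TensorProduct.induction_on with
  | zero => simp
  | add a b ha hb => simp only [map_add, ha, hb]
  | tmul b x =>
    obtain ⟨x, rfl⟩ := Submodule.Quotient.mk_surjective _ x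
    rw [LinearMap.baseChange_tmul]
    refine (D.theta_tmul g sq hU hM₀ m b (D.d n m x)).trans ?_
    rw [theta_tmul, LinearMap.map_smul, D.p₀_d]
    by_cases h : (ComplexShape.up ℕ).Rel n m
    · obtain rfl : n + 1 = m := h
      rw [W7Cech.CC_d, W7Cech.CC_d]
      exact congrArg (b • ·) (W7Cech.psiX_d A (MvPolynomial σ A) g sq U M₀ n (D.p₀ n x)).symm
    · rw [HomologicalComplex.shape _ _ _ h, HomologicalComplex.shape _ _ _ h]
      simp

/-- An enumeration of the exponents. -/
abbrev ed (k : ℕ) : Fin (Fintype.card (Deg σ k)) ≃ Deg σ k := (Fintype.equivFin (Deg σ k)).symm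

/-- The sum of the modules of the level, one summand per exponent. -/
abbrev PW (k : ℕ) : (D.X k).Modules := ⨁ fun _ : Fin (Fintype.card (Deg σ k)) => D.M k

/-- The combination with coefficients the monomials. -/
def psi (k : ℕ) : D.PW k ⟶ D.M k := biproduct.desc fun e => Formal.smulMod A (D.M k) (tPow t (ed (σ := σ) k e).1)

/-- The component of the map of relations. -/
def lam (k : ℕ) (e : Deg σ k) : D.M k ⟶ (Scheme.Modules.pushforward (g ≫ D.c k)).obj (F' (M₀ := M₀) g) :=
  D.red k ≫ (Scheme.Modules.pushforward (D.c k)).map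
      ((Scheme.Modules.pullbackPushforwardAdjunction g).unit.app M₀ ≫
        (Scheme.Modules.pushforward g).map (Formal.smulMod (MvPolynomial σ A) (F' (M₀ := M₀) g) (monomial e.1 1))) ≫
    (Scheme.Modules.pushforwardComp g (D.c k)).hom.app _

/-- The map of relations. -/
def gam (k : ℕ) : (Scheme.Modules.pullback (g ≫ D.c k)).obj (kernel (D.psi k)) ⟶ F' (M₀ := M₀) g :=
  ((Scheme.Modules.pullbackPushforwardAdjunction (g ≫ D.c k)).homEquiv _ _).symm
    (kernel.ι (D.psi k) ≫ biproduct.desc (fun e => D.lam g k (ed (σ := σ) k e)))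

/-- The map of relations up to a degree. -/
def gamD (N : ℕ) :
    (⨁ fun k : Fin (N + 1) =>
      (Scheme.Modules.pullback (g ≫ D.c (k : ℕ))).obj (kernel (D.psi (k : ℕ)))) ⟶ F' (M₀ := M₀) g :=
  biproduct.desc fun k => D.gam g (k : ℕ)

lemma le_preimage (k n : ℕ) (a : Fin (n + 1) → ι) :
    tupleProd (W7Cech.pre g U) a ≤ (g ≫ D.c k) ⁻¹ᵁ D.W k n a :=
  (W7Cech.tupleProd_pre g U a).le.trans (g.preimage_mono (D.le k n a))

lemma gam_app (k n : ℕ) (a : Fin (n + 1) → ι) (m : Γ(kernel (D.psi k), D.W k n a)) :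
    (D.gam g k).app (tupleProd (W7Cech.pre g U) a)
        (pullSectLE (g ≫ D.c k) _ (D.W k n a) _ (D.le_preimage g k n a) m) =
      D.val g k n a (fun e => (biproduct.π (fun _ : Fin (Fintype.card (Deg σ k)) => D.M k) ((ed (σ := σ) k).symm e)).app (D.W k n a)
        ((kernel.ι (D.psi k)).app (D.W k n a) m)) := by
  have h := congr(($(((Scheme.Modules.pullbackPushforwardAdjunction (g ≫ D.c k)).homEquiv _ _).apply_symm_apply
    (kernel.ι (D.psi k) ≫ biproduct.desc (fun e => D.lam g k (ed (σ := σ) k e))))).app (D.W k n a) m)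
  rw [Adjunction.homEquiv_unit] at h
  refine (app_res (D.gam g k) _ _).symm.trans ?_
  refine (congrArg (res (F' (M₀ := M₀) g) (D.le_preimage g k n a))
    (show (D.gam g k).app _ (OmegaSh.pullSect (g ≫ D.c k) _ (D.W k n a) m) =
      (biproduct.desc (fun e => D.lam g k (ed (σ := σ) k e))).app (D.W k n a)
        ((kernel.ι (D.psi k)).app (D.W k n a) m) from h)).trans ?_
  rw [biproduct_desc_app, map_sum, val]
  refine Fintype.sum_equiv (ed (σ := σ) k) _ _ fun e => ?_
  rw [Equiv.symm_apply_apply]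
  generalize (biproduct.π (fun _ : Fin (Fintype.card (Deg σ k)) => D.M k) e).app (D.W k n a)
    ((kernel.ι (D.psi k)).app (D.W k n a) m) = y
  change res (F' (M₀ := M₀) g) (D.le_preimage g k n a)
    (W7Cech.secRing (MvPolynomial σ A) (g ⁻¹ᵁ (D.c k ⁻¹ᵁ D.W k n a)) (monomial (ed (σ := σ) k e).1 1) •
      OmegaSh.pullSect g M₀ (D.c k ⁻¹ᵁ D.W k n a) ((D.red k).app (D.W k n a) y)) = _
  rw [ModDesc.pullSectLE_apply, OmegaSh.pullSect_map g M₀ (D.le k n a), ]
  rw [res_smul]
  exact congrArg₂ (· • ·) (W7Cech.resO_secRing _ _ _) (res_res _ _ _ _).symm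

/-- The span over the sections of the coefficients of relations. -/
abbrev valSpan (N n : ℕ) (a : Fin (n + 1) → ι) :
    Submodule Γ(X', tupleProd (W7Cech.pre g U) a) Γ(F' (M₀ := M₀) g, tupleProd (W7Cech.pre g U) a) :=
  Submodule.span _ (D.valSet g N n a)

include sq hU hM₀ in
lemma range_gamD_le (N n : ℕ) (a : Fin (n + 1) → ι)
    (s : Γ(⨁ (fun k : Fin (N + 1) =>
      (Scheme.Modules.pullback (g ≫ D.c (k : ℕ))).obj (kernel (D.psi (k : ℕ)))), tupleProd (W7Cech.pre g U) a)) :
    (D.gamD g N).app _ s ∈ D.valSpan g N n a := by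
  rw [gamD, biproduct_desc_app]
  refine Submodule.sum_mem _ fun k _ => ?_
  generalize (biproduct.π (fun k : Fin (N + 1) =>
    (Scheme.Modules.pullback (g ≫ D.c (k : ℕ))).obj (kernel (D.psi (k : ℕ)))) k).app
      (tupleProd (W7Cech.pre g U) a) s = z
  haveI : Coh.IsQCoh (kernel (D.psi (k : ℕ))) :=
    QC.isQCoh_kernel (isQCoh_biproduct _ fun _ => D.qcoh _) (D.qcoh _) _
  have hz : z ∈ Submodule.span Γ(X', tupleProd (W7Cech.pre g U) a)
      ((pullSectLE (g ≫ D.c (k : ℕ)) (kernel (D.psi (k : ℕ))) (D.W (k : ℕ) n a) _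
        (D.le_preimage g (k : ℕ) n a)) '' Set.univ) := by
    rw [span_pullSectLE _ _ (D.affine (k : ℕ) n a) (W7Cech.isAffineOpen_pre A (MvPolynomial σ A) g sq U hU n a) _ Submodule.span_univ]
    exact Submodule.mem_top
  induction hz using Submodule.span_induction with
  | mem z hz =>
    obtain ⟨m, -, rfl⟩ := hz
    rw [gam_app]
    refine Submodule.subset_span ⟨(k : ℕ), Nat.lt_succ_iff.1 k.2, _, ?_, rfl⟩
    have h0 : (D.psi (k : ℕ)).app (D.W (k : ℕ) n a) ((kernel.ι (D.psi (k : ℕ))).app _ m) = 0 :=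
      (QC.mem_range_kernel_app (D.psi (k : ℕ)) _ _).1 ⟨m, rfl⟩
    have h1 := (biproduct_desc_app (fun e => Formal.smulMod A (D.M (k : ℕ)) (tPow t (ed (σ := σ) (k : ℕ) e).1))
      (D.W (k : ℕ) n a) _).symm.trans h0
    refine Eq.trans (Fintype.sum_equiv (ed (σ := σ) (k : ℕ)).symm _ _ fun e => ?_) h1
    rw [Equiv.apply_symm_apply]
    rfl
  | zero => simp
  | add a b _ _ ha hb => rw [map_add]; exact add_mem ha hb
  | smul r z _ hz => rw [Scheme.Modules.Hom.app_smul]; exact Submodule.smul_mem _ r hz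

include sq hU hM₀ in
lemma exists_gamD_eq (N n : ℕ) (a : Fin (n + 1) → ι) {v : Γ(F' (M₀ := M₀) g, tupleProd (W7Cech.pre g U) a)}
    (hv : v ∈ D.valSpan g N n a) : ∃ s, (D.gamD g N).app _ s = v := by
  induction hv using Submodule.span_induction with
  | mem v hv =>
    obtain ⟨k, hk, y, hy, rfl⟩ := hv
    let i : Fin (N + 1) := ⟨k, Nat.lt_succ_of_le hk⟩
    obtain ⟨m, hm⟩ := (QC.mem_range_kernel_app (D.psi k) (D.W k n a)
      (∑ e, (biproduct.ι (fun _ : Fin (Fintype.card (Deg σ k)) => D.M k) e).app (D.W k n a) (y (ed (σ := σ) k e)))).2 (by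
        rw [psi, biproduct_desc_app]
        simp only [biproduct_π_app_sum]
        exact (Fintype.sum_equiv (ed (σ := σ) k) _ _ fun e => rfl).trans hy)
    refine ⟨(biproduct.ι (fun k : Fin (N + 1) =>
      (Scheme.Modules.pullback (g ≫ D.c (k : ℕ))).obj (kernel (D.psi (k : ℕ)))) i).app _
      (pullSectLE (g ≫ D.c k) (kernel (D.psi k)) (D.W k n a) _ (D.le_preimage g k n a) m), ?_⟩
    refine (congr(($(biproduct.ι_desc (fun k : Fin (N + 1) => D.gam g (k : ℕ)) i)).app _
      (pullSectLE (g ≫ D.c k) (kernel (D.psi k)) (D.W k n a) _ (D.le_preimage g k n a) m))).trans ?_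
    refine (D.gam_app g k n a m).trans ?_
    refine congrArg _ (funext fun e => ?_)
    rw [hm, biproduct_π_app_sum, Equiv.apply_symm_apply]
  | zero => exact ⟨0, map_zero _⟩
  | add a b _ _ ha hb =>
    obtain ⟨s, rfl⟩ := ha
    obtain ⟨t, rfl⟩ := hb
    exact ⟨s + t, map_add _ _ _⟩
  | smul r v _ hv =>
    obtain ⟨s, rfl⟩ := hv
    exact ⟨r • s, Scheme.Modules.Hom.app_smul _ r s⟩

include sq hU hM₀ in
/-- The kernel of the graded maps, componentwise. -/
lemma theta_mem_valSpan (n : ℕ) (z : (MvPolynomial σ A) ⊗[A] Red t (D.C n)) (hz : ∀ k, gr t (D.C n) k z = 0)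
    (a : Fin (n + 1) → ι) :
    ∃ N, (show Γ(F' (M₀ := M₀) g, tupleProd (W7Cech.pre g U) a) from D.theta g sq hU hM₀ n z a) ∈ D.valSpan g N n a := by
  obtain ⟨N, x, hx, rfl⟩ := exists_eq_sum_hom_of_gr t z hz
  refine ⟨N, ?_⟩
  rw [map_sum, show (∑ k ∈ Finset.range N, D.theta g sq hU hM₀ n (hom t (D.C n) k (x k))) a =
    ∑ k ∈ Finset.range N, D.theta g sq hU hM₀ n (hom t (D.C n) k (x k)) a from Finset.sum_apply a _ _]
  refine Submodule.sum_mem _ fun k hk => ?_
  refine mem_of_eq (D.theta_hom g sq hU hM₀ k n (x k) a) ?_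
  refine Submodule.subset_span ⟨k, (Finset.mem_range.1 hk).le, _, ?_, rfl⟩
  have h := (D.pr_ker k n _).2 (hx k) a
  rw [map_sum] at h
  simp only [map_smul] at h
  exact h

include sq hU hM₀ in
/-- Coefficients of relations are killed by the graded maps. -/
lemma gr_eq_zero_of_valSpan (N n : ℕ) (z : (MvPolynomial σ A) ⊗[A] Red t (D.C n))
    (hz : ∀ a, (show Γ(F' (M₀ := M₀) g, tupleProd (W7Cech.pre g U) a) from D.theta g sq hU hM₀ n z a) ∈
      D.valSpan g N n a) (k : ℕ) : gr t (D.C n) k z = 0 := by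
  classical
  haveI := Fintype.ofFinite (Fin (n + 1) → ι)
  let K : Submodule (MvPolynomial σ A) ((MvPolynomial σ A) ⊗[A] Red t (D.C n)) :=
    { carrier := {z | ∀ k, gr t (D.C n) k z = 0}
      add_mem' := fun {a b} ha hb k => by rw [map_add, ha k, hb k, add_zero]
      zero_mem' := fun k => map_zero _
      smul_mem' := fun b z hz k => by
        obtain ⟨x, hx, hx'⟩ := smul_mem_of_family t (fun k => fil (tI t) (D.C n) (k + 1))
          (fun k i x hx => by
            rw [← smul_fil_one]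
            exact Submodule.smul_mem_smul (Ideal.subset_span ⟨i, rfl⟩) hx) b z
          (fun k => ⟨0, zero_mem _, by rw [hz k]; rfl⟩) k
        rw [hx', Submodule.Quotient.mk_eq_zero]
        exact hx }
  let KT := K.map (D.theta g sq hU hM₀ n).toLinearMap
  let sg : ∀ a, Γ(F' (M₀ := M₀) g, tupleProd (W7Cech.pre g U) a) →
      (W7Cech.CoX (MvPolynomial σ A) (W7Cech.pre g U) (F' (M₀ := M₀) g) n : Type u) := fun a v => Pi.single a v
  have hsg : ∀ a v, v ∈ D.valSpan g N n a → sg a v ∈ KT := by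
    intro a v hv
    refine Submodule.closure_induction (p := fun v _ => sg a v ∈ KT) ?_ ?_ ?_ hv
    · simp [sg]
    · intro v w _ _ hv hw
      simp only [sg, Pi.single_add]
      exact add_mem hv hw
    · rintro r v ⟨j, -, y, hy, rfl⟩
      obtain ⟨l, b, s, hr⟩ := exists_eq_sum_secRing A (MvPolynomial σ A) g sq (hU n a)
        (QC.resO X' (W7Cech.tupleProd_pre g U a).ge r)
      have hr' : r = ∑ i, W7Cech.secRing (MvPolynomial σ A) (tupleProd (W7Cech.pre g U) a) (b i) *
          (g.appLE (tupleProd U a) (tupleProd (W7Cech.pre g U) a) (W7Cech.tupleProd_pre g U a).le).hom (s i) := by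
        have h := congrArg (QC.resO X' (W7Cech.tupleProd_pre g U a).le) hr
        rw [QC.resO_resO, map_sum] at h
        refine ((QC.resO_self _ r).symm.trans h).trans (Finset.sum_congr rfl fun i _ => ?_)
        rw [map_mul, W7Cech.resO_secRing]
        rfl
      rw [hr', Finset.sum_smul]
      rw [show sg a (∑ i, _) = ∑ i, sg a _ from map_sum (AddMonoidHom.single
        (fun a => Γ(F' (M₀ := M₀) g, tupleProd (W7Cech.pre g U) a)) a) _ _]
      refine Submodule.sum_mem _ fun i _ => ?_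
      obtain ⟨r', hr'⟩ := D.surj j n a (s i)
      rw [mul_smul, ← hr', ← D.val_smul g j n a y r']
      have hcomp : sg a (D.val g j n a (fun e => r' • y e)) ∈ KT := by
        choose x hx using fun e : Deg σ j => D.pr_surj j n
          (Pi.single a (show ((W7Cech.secA A (D.W j n a)).obj (D.M j) : Type u) from r' • y e))
        refine ⟨hom t (D.C n) j x, fun k => ?_, ?_⟩
        · rw [gr_hom]
          split_ifs with h
          · subst h
            rw [Submodule.Quotient.mk_eq_zero, ← D.pr_ker]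
            intro a'
            rw [map_sum]
            simp only [map_smul, hx]
            by_cases h : a' = a
            · subst h
              simp only [Pi.single_eq_same]
              exact D.rel_smul hy r'
            · simp only [Pi.single_eq_of_ne h, smul_zero, Finset.sum_const_zero]
          · rfl
        · funext a'
          refine (D.theta_hom g sq hU hM₀ j n x a').trans ?_
          by_cases h : a' = a
          · subst h
            simp only [hx, sg, Pi.single_eq_same]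
          · simp only [hx, sg, Pi.single_eq_of_ne h, val]
            refine Finset.sum_eq_zero fun e _ => ?_
            refine (congrArg (fun v => _ • pullSectLE g M₀ (tupleProd U a') _ _ (res M₀ (D.le j n a') v))
              (map_zero ((D.red j).app (D.W j n a')).hom)).trans ?_
            simp
      have h := KT.smul_mem (b i) hcomp
      convert h using 1
      refine funext fun a' => ?_
      change (Pi.single a _ : ∀ a, Γ(F' (M₀ := M₀) g, tupleProd (W7Cech.pre g U) a)) a' =
        W7Cech.secRing (MvPolynomial σ A) (tupleProd (W7Cech.pre g U) a') (b i) • (Pi.single a _ : ∀ a, Γ(F' (M₀ := M₀) g, tupleProd (W7Cech.pre g U) a)) a'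
      by_cases h : a' = a
      · subst h
        simp only [Pi.single_eq_same]
      · simp only [Pi.single_eq_of_ne h, smul_zero]
  have hmem : D.theta g sq hU hM₀ n z ∈ KT := by
    rw [← Finset.univ_sum_single (D.theta g sq hU hM₀ n z)]
    exact Submodule.sum_mem _ fun a _ => hsg a _ (hz a)
  obtain ⟨w, hw, hwz⟩ := hmem
  rw [← (D.theta g sq hU hM₀ n).injective hwz]
  exact hw k

include sq hU hM₀ in
lemma exists_stable [IsLocallyNoetherian X'] (hF' : Coh.IsCoh (F' (M₀ := M₀) g)) (n : ℕ) :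
    ∃ N, ∀ N' a, D.valSpan g N' n a ≤ D.valSpan g N n a := by
  haveI := Fintype.ofFinite (Fin (n + 1) → ι)
  have h : ∀ a : Fin (n + 1) → ι, ∃ N, ∀ N', D.valSpan g N' n a ≤ D.valSpan g N n a := fun a => by
    have hV := W7Cech.isAffineOpen_pre A (MvPolynomial σ A) g sq U hU n a
    haveI := IsLocallyNoetherian.component_noetherian (X := X') ⟨_, hV⟩
    haveI : Module.Finite Γ(X', tupleProd (W7Cech.pre g U) a) Γ(F' (M₀ := M₀) g, tupleProd (W7Cech.pre g U) a) :=
      (QC.isCoh_iff_finite_sections.mp hF').2 ⟨_, hV⟩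
    obtain ⟨N, hN⟩ := monotone_stabilizes_iff_noetherian.mpr
      (inferInstanceAs (IsNoetherian Γ(X', tupleProd (W7Cech.pre g U) a) Γ(F' (M₀ := M₀) g, tupleProd (W7Cech.pre g U) a)))
      ⟨fun N => D.valSpan g N n a, fun a' b hab => Submodule.span_mono (D.valSet_mono g hab n a)⟩
    refine ⟨N, fun N' => ?_⟩
    exact (Submodule.span_mono (D.valSet_mono g (le_max_right N N') n a)).trans (hN _ (le_max_left N N')).ge
  choose N hN using h
  exact ⟨Finset.univ.sup N, fun N' a => (hN a N').trans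
    (Submodule.span_mono (D.valSet_mono g (Finset.le_sup (Finset.mem_univ a)) n a))⟩

end LevData

attribute [local instance] LevData.grp LevData.mod LevData.ov

/-- **Finiteness of the graded cohomology** of a tower of Čech complexes on thickenings of a proper scheme. -/
theorem LevData.grFin [IsNoetherianRing A] [IsProper (X₀ ↘ Spec (CommRingCat.of A))] (D : LevData t M₀ U)
    (hU : ∀ (n : ℕ) (a : Fin (n + 1) → ι), IsAffineOpen (tupleProd U a)) (hcov : iSup U = ⊤)
    (hM₀ : Coh.IsCoh M₀) (i p k : ℕ) (hi : (ComplexShape.up ℕ).prev p = i)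
    (hk : (ComplexShape.up ℕ).next p = k) :
    GrFin (tI t) (D.d i p) (D.d p k) := by
  let B := MvPolynomial σ A
  let X' := pullback (X₀ ↘ Spec (CommRingCat.of A)) (Spec.map (CommRingCat.ofHom (algebraMap A B)))
  letI : X'.Over (Spec (CommRingCat.of B)) := ⟨pullback.snd _ _⟩
  haveI : IsProper (X' ↘ Spec (CommRingCat.of B)) :=
    MorphismProperty.pullback_snd (P := @IsProper) _ _ inferInstance
  let g : X' ⟶ X₀ := pullback.fst _ _
  have sq : IsPullback g (X' ↘ Spec (CommRingCat.of B)) (X₀ ↘ Spec (CommRingCat.of A))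
      (Spec.map (CommRingCat.ofHom (algebraMap A B))) := IsPullback.of_hasPullback _ _
  haveI : IsLocallyNoetherian X' := LocallyOfFiniteType.isLocallyNoetherian (X' ↘ Spec (CommRingCat.of B))
  let F := LevData.F' (M₀ := M₀) g
  have hF : Coh.IsCoh F := QC.isCoh_pullback g hM₀
  let V := W7Cech.pre g U
  have hV := W7Cech.isAffineOpen_pre A B g sq U hU
  have hcov' := W7Cech.iSup_pre g U hcov
  obtain ⟨Np, hNp⟩ := D.exists_stable g sq hU hM₀.1 hF p
  obtain ⟨Nk, hNk⟩ := D.exists_stable g sq hU hM₀.1 hF k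
  let N := max Np Nk
  let S := ⨁ fun j : Fin (N + 1) =>
    (Scheme.Modules.pullback (g ≫ D.c (j : ℕ))).obj (kernel (D.psi (j : ℕ)))
  have hS : Coh.IsQCoh S := isQCoh_biproduct _ fun j =>
    QC.isQCoh_pullback _ (QC.isQCoh_kernel (isQCoh_biproduct _ fun _ => D.qcoh _) (D.qcoh _) _)
  let G := cokernel (D.gamD g N)
  have hGq : Coh.IsQCoh G := QC.isQCoh_cokernel hS hF.1 _
  have hG : Coh.IsCoh G := QC.isCoh_of_epi hF hGq (cokernel.π (D.gamD g N))
  let CG := (W7Cech.CC B V).obj G
  let π : ∀ n, B ⊗[A] Red t (D.C n) →ₗ[B] (CG.X n : Type u) := fun n =>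
    (((W7Cech.CC B V).map (cokernel.π (D.gamD g N))).f n).hom ∘ₗ (D.theta g sq hU hM₀.1 n).toLinearMap
  have hπd : ∀ n m z, (CG.d n m).hom (π n z) = π m ((redMap t (D.d n m)).baseChange B z) := fun n m z => by
    refine Eq.trans ?_ (congrArg (((W7Cech.CC B V).map (cokernel.π (D.gamD g N))).f m).hom
      (D.theta_d g sq hU hM₀.1 n m z)).symm
    exact congr($(((W7Cech.CC B V).map (cokernel.π (D.gamD g N))).comm n m).hom (D.theta g sq hU hM₀.1 n z))
  have hsurj : ∀ n, Function.Surjective (π n) := fun n y => by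
    choose x hx using fun a => QC.app_surjective_of_epi (hV n a) hF.1 hGq (cokernel.π (D.gamD g N)) (y a)
    refine ⟨(D.theta g sq hU hM₀.1 n).symm (fun a => x a), ?_⟩
    change (((W7Cech.CC B V).map (cokernel.π (D.gamD g N))).f n).hom _ = y
    exact (congrArg _ (LinearEquiv.apply_symm_apply _ _)).trans (funext hx)
  have hzero : ∀ n z, π n z = 0 ↔ ∀ a, (show Γ(F, tupleProd V a) from D.theta g sq hU hM₀.1 n z a) ∈
      D.valSpan g N n a := by
    intro n z
    constructor
    · intro h a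
      obtain ⟨s, hs⟩ := exists_app_eq_of_cokernel hS hF.1 (D.gamD g N) (hV n a) _ (congrFun h a)
      exact mem_of_eq hs.symm (D.range_gamD_le g sq hU hM₀.1 N n a s)
    · intro h
      refine funext fun a => ?_
      obtain ⟨s, hs⟩ := D.exists_gamD_eq g sq hU hM₀.1 N n a (h a)
      exact (congrArg ((cokernel.π (D.gamD g N)).app (tupleProd V a)) hs.symm).trans
        congr(($(cokernel.condition (D.gamD g N))).app _ s)
  refine grFin_of_finite (e := (CG.d i p).hom) (e' := (CG.d p k).hom) (πP := π i) (πQ := π p) (πR := π k) t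
    (hsurj i) (fun z hz j => D.gr_eq_zero_of_valSpan g sq hU hM₀.1 N p z ((hzero p z).1 hz) j) ?_
    (hπd i p) (hπd p k) ?_
  · intro z hz
    refine (hzero k z).2 fun a => ?_
    obtain ⟨N', hN'⟩ := D.theta_mem_valSpan g sq hU hM₀.1 k z hz a
    exact Submodule.span_mono (D.valSet_mono g (le_max_right Np Nk) k a) (hNk N' a hN')
  · obtain ⟨e, -⟩ := W7Cech.exists_hhEquiv B V hV hcov' p
    haveI : Module.Finite B (CG.homology p) :=
      haveI := CohFinite.finite_proper B X' G hG p
      Module.Finite.equiv (e G hG.1).symm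
    subst hi hk
    have hfin := Module.Finite.equiv (FlatCx.homologyHmEquiv CG p)
    have heq : LinearMap.range ((CG.d ((ComplexShape.up ℕ).prev p) p).hom.codRestrict
        (LinearMap.ker (CG.d p ((ComplexShape.up ℕ).next p)).hom) fun x => congr($(CG.d_comp_d _ p _).hom x)) =
        (LinearMap.range (CG.d ((ComplexShape.up ℕ).prev p) p).hom).comap
          (LinearMap.ker (CG.d p ((ComplexShape.up ℕ).next p)).hom).subtype :=
      LinearMap.range_codRestrict _ _ _
    exact @Module.Finite.equiv _ _ _ _ _ _ _ _ hfin (Submodule.quotEquivOfEq _ _ heq)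

end Groth.Agent.FSProper
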