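import Groth.Agent.FSProper.Affine
import Groth.Agent.FormBlow.Osh
import Groth.Agent.CechX.BasicOpens
import Groth.Agent.QC.Localisation

/-!
# Restriction of Čech cochains to a basic open; localisation for modules of levels
-/

set_option autoImplicit false
set_option backward.isDefEq.respectTransparency false
set_option backward.isDefEq.respectTransparency.types false
set_option linter.style.haveILetI false
set_option maxHeartbeats 1000000

universe u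

open CategoryTheory CategoryTheory.Limits AlgebraicGeometry TopologicalSpace Opposite
open Groth.Agent.SiteCoh Groth.Agent.ProjCech
open Groth.Agent.RSFin (sc rsR rs rs_rs rs_self rs_smul rsR_rsR ap)
open Groth.Agent.FSchCoh (MA ML OA RA JA projM transM projR transR pullSys)

noncomputable section

namespace Groth.Agent.FSProper

section Restrict

variable {X : TopCat.{u}} {O : TopCat.Sheaf CommRingCat.{u} X} {A : Type u} [CommRing A]
  {W W' : Opens X} (φ : A →+* sc O W) (e : W' ≤ W) {ι : Type u} {U U' : ι → Opens X}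
  (hle : ∀ i, U i ≤ W) (hle' : ∀ i, U' i ≤ W') (hUU : ∀ i, U' i ≤ U i)

include hUU in
lemma tupleProd_mono' {n : ℕ} (a : Fin (n + 1) → ι) : tupleProd U' a ≤ tupleProd U a := by
  rw [tupleProd_eq_iInf, tupleProd_eq_iInf]
  exact iInf_mono fun k => hUU (a k)

lemma scl_scl {V : Opens X} (i : V ≤ W') (a : A) : scl (scl φ e) i a = scl φ (i.trans e) a :=
  rsR_scl φ e i a

/-- Restriction of cochains. -/
def resC (M : ModSite.Mod O) (n : ℕ) :
    (CoF φ U hle M n : Type u) →ₗ[A] (CoF (scl φ e) U' hle' M n : Type u) where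
  toFun x a := (rs M (tupleProd_mono' hUU a) (show ModSite.sect M (tupleProd U a) from x a) :)
  map_add' x y := funext fun a => map_add (rs M (tupleProd_mono' hUU a)) _ _
  map_smul' r x := funext fun a => by
    refine (rs_smul M (tupleProd_mono' hUU a) (scl φ (tupleProd_le' U hle a) r)
      (show ModSite.sect M (tupleProd U a) from x a)).trans ?_
    refine congrArg (· • rs M (tupleProd_mono' hUU a) (show ModSite.sect M (tupleProd U a) from x a)) ?_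
    exact (rsR_scl φ _ _ r).trans (scl_scl φ e (tupleProd_le' U' hle' a) r).symm

lemma resC_mapF {M N : ModSite.Mod O} (f : M ⟶ N) (n : ℕ) (x : (CoF φ U hle M n : Type u)) :
    resC φ e hle hle' hUU N n (mapF φ U hle f n x) =
      mapF (scl φ e) U' hle' f n (resC φ e hle hle' hUU M n x) :=
  funext fun _ => (RSFin.ap_rs f _ _).symm

lemma resC_d (M : ModSite.Mod O) (n : ℕ) (x : ((CF φ U hle M).X n : Type u)) :
    resC φ e hle hle' hUU M (n + 1) (((CF φ U hle M).d n (n + 1)).hom x) =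
      ((CF (scl φ e) U' hle' M).d n (n + 1)).hom (resC φ e hle hle' hUU M n x) := by
  rw [CF_d, CF_d]
  funext a
  change rs M (tupleProd_mono' hUU a) (∑ k : Fin (n + 2), (-1 : ℤ) ^ (k : ℕ) •
      rs M (leOfHom (tupleDrop U a k)) (x (a ∘ k.succAbove) : ModSite.sect M (tupleProd U (a ∘ k.succAbove)))) =
    ∑ k : Fin (n + 2), (-1 : ℤ) ^ (k : ℕ) • rs M (leOfHom (tupleDrop U' a k))
      (rs M (tupleProd_mono' hUU (a ∘ k.succAbove)) (x (a ∘ k.succAbove)))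
  rw [map_sum]
  refine Finset.sum_congr rfl fun k _ => ?_
  rw [map_zsmul, rs_rs, rs_rs]

/-- Sections over the smaller intersections are localisations. -/
def IsLocC (g : A) (M : ModSite.Mod O) : Prop :=
  ∀ (n : ℕ) (a : Fin (n + 1) → ι),
    (∀ y : ModSite.sect M (tupleProd U' a), ∃ (k : ℕ) (x : ModSite.sect M (tupleProd U a)),
      rs M (tupleProd_mono' hUU a) x = scl φ ((tupleProd_le' U' hle' a).trans e) g ^ k • y) ∧
    (∀ x : ModSite.sect M (tupleProd U a), rs M (tupleProd_mono' hUU a) x = 0 →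
      ∃ k : ℕ, scl φ (tupleProd_le' U hle a) g ^ k • x = 0)

variable {g : A} (M : ModSite.Mod O) [Finite ι] (hM : IsLocC φ e hle hle' hUU g M)

include hM in
lemma exists_resC_eq (n : ℕ) (y : (CoF (scl φ e) U' hle' M n : Type u)) :
    ∃ (N : ℕ) (x : (CoF φ U hle M n : Type u)), resC φ e hle hle' hUU M n x = g ^ N • y := by
  haveI := Fintype.ofFinite ι
  have h := fun a => (hM n a).1 (y a)
  choose k x hx using h
  refine ⟨Finset.univ.sup k, fun a =>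
    (scl φ (tupleProd_le' U hle a) g ^ (Finset.univ.sup k - k a) • x a :), funext fun a => ?_⟩
  change rs M (tupleProd_mono' hUU a) (scl φ (tupleProd_le' U hle a) g ^ (Finset.univ.sup k - k a) • x a) =
    scl (scl φ e) (tupleProd_le' U' hle' a) (g ^ Finset.univ.sup k) •
      (show ModSite.sect M (tupleProd U' a) from y a)
  rw [rs_smul, map_pow, rsR_scl, hx, smul_smul, ← pow_add, map_pow, scl_scl,
    Nat.sub_add_cancel (Finset.le_sup (f := k) (Finset.mem_univ a))]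

include hM in
lemma exists_pow_smul_of_resC (n : ℕ) (x : (CoF φ U hle M n : Type u))
    (hx : resC φ e hle hle' hUU M n x = 0) : ∃ N : ℕ, g ^ N • x = 0 := by
  haveI := Fintype.ofFinite ι
  have h := fun a => (hM n a).2 (x a) (congrFun hx a)
  choose k hk using h
  refine ⟨Finset.univ.sup k, funext fun a => ?_⟩
  change scl φ (tupleProd_le' U hle a) (g ^ Finset.univ.sup k) •
    (show ModSite.sect M (tupleProd U a) from x a) = 0
  rw [map_pow, ← Nat.sub_add_cancel (Finset.le_sup (f := k) (Finset.mem_univ a)), pow_add, mul_smul, hk, smul_zero]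

include hM in
/-- Cocycles over the smaller open extend up to a power. -/
theorem exists_cocycle_extend (n : ℕ) (z : ((CF (scl φ e) U' hle' M).X n : Type u))
    (hz : ((CF (scl φ e) U' hle' M).d n (n + 1)).hom z = 0) :
    ∃ (N : ℕ) (x : ((CF φ U hle M).X n : Type u)),
      ((CF φ U hle M).d n (n + 1)).hom x = 0 ∧ resC φ e hle hle' hUU M n x = g ^ N • z := by
  obtain ⟨N, x, hx⟩ := exists_resC_eq φ e hle hle' hUU M hM n z
  have h0 : resC φ e hle hle' hUU M (n + 1) (((CF φ U hle M).d n (n + 1)).hom x) = 0 := by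
    rw [resC_d, hx]
    exact (map_smul _ _ _).trans ((congrArg (g ^ N • ·) hz).trans (smul_zero _))
  obtain ⟨N', hN'⟩ := exists_pow_smul_of_resC φ e hle hle' hUU M hM (n + 1) _ h0
  refine ⟨N' + N, g ^ N' • x, (map_smul _ _ _).trans hN', ?_⟩
  refine (map_smul (resC φ e hle hle' hUU M n) _ x).trans ?_
  rw [hx, smul_smul, pow_add]

omit [Finite ι] in
/-- A scalar that becomes a unit acts bijectively on the cochains. -/
lemma smul_bijective (hg : IsUnit (scl φ e g)) (N n : ℕ) :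
    Function.Bijective fun y : (CoF (scl φ e) U' hle' M n : Type u) => g ^ N • y := by
  have hu : ∀ a : Fin (n + 1) → ι, IsUnit (scl (scl φ e) (tupleProd_le' U' hle' a) (g ^ N)) := fun a => by
    rw [map_pow]
    exact ((hg.map (rsR (tupleProd_le' U' hle' a)))).pow N
  refine ⟨fun x y hxy => funext fun a => ((hu a).smul_left_cancel
    (x := (show ModSite.sect M (tupleProd U' a) from x a))).1 (congrFun hxy a), fun y => ?_⟩
  exact ⟨fun a => ((hu a).unit⁻¹ • (show ModSite.sect M (tupleProd U' a) from y a) :), funext fun a =>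
    smul_inv_smul (hu a).unit (show ModSite.sect M (tupleProd U' a) from y a)⟩

end Restrict

variable (𝔛 : FSch.Sys.{u}) (h𝔛 : 𝔛.IsLocNoethFormal)

/-- The open where a section over `W` is invertible. -/
abbrev bop {W : (𝔛.X 0).Opens} (b : OA 𝔛 h𝔛.1 W) : (𝔛.X 0).Opens :=
  (𝔛.X 0).basicOpen (projR 𝔛 h𝔛.1 W 0 b)

lemma bop_le {W : (𝔛.X 0).Opens} (b : OA 𝔛 h𝔛.1 W) : bop 𝔛 h𝔛 b ≤ W :=
  ((𝔛.X 0).basicOpen_le _).trans (FormBlow.lvU_zero h𝔛.1 W).le

lemma bop_rsR {W V : (𝔛.X 0).Opens} (e : V ≤ W) (b : OA 𝔛 h𝔛.1 W) :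
    bop 𝔛 h𝔛 (rsR (O := 𝔛.Osh h𝔛.1) e b : OA 𝔛 h𝔛.1 V) = V ⊓ bop 𝔛 h𝔛 b := by
  have h1 : projR 𝔛 h𝔛.1 V 0 (rsR (O := 𝔛.Osh h𝔛.1) e b) =
      (𝔛.X 0).presheaf.map (homOfLE (FormBlow.lvU_mono h𝔛.1 e 0)).op (projR 𝔛 h𝔛.1 W 0 b) :=
    FormBlow.projR_rs h𝔛.1 e 0 b
  rw [bop, h1, Scheme.basicOpen_res, FormBlow.lvU_zero h𝔛.1 V]

lemma isUnit_rsR_bop {W : (𝔛.X 0).Opens} (b : OA 𝔛 h𝔛.1 W) :
    IsUnit (rsR (O := 𝔛.Osh h𝔛.1) (bop_le 𝔛 h𝔛 b) b : OA 𝔛 h𝔛.1 (bop 𝔛 h𝔛 b)) := by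
  refine FormBlow.isUnit_of_projR_zero h𝔛.1 (FormBlow.isUnit_of_basicOpen_eq _ ?_)
  refine le_of_eq ?_
  change _ = bop 𝔛 h𝔛 (rsR (O := 𝔛.Osh h𝔛.1) (bop_le 𝔛 h𝔛 b) b : OA 𝔛 h𝔛.1 (bop 𝔛 h𝔛 b))
  rw [bop_rsR, inf_idem, FormBlow.lvU_zero h𝔛.1]

variable {A : Type u} [CommRing A] {W : (𝔛.X 0).Opens} (φ : A →+* OA 𝔛 h𝔛.1 W)
  {ι : Type u} (U : ι → (𝔛.X 0).Opens) (hle : ∀ i, U i ≤ W) (g : A)

/-- The traces on the basic open. -/
abbrev Ub : ι → (𝔛.X 0).Opens := fun i => U i ⊓ bop 𝔛 h𝔛 (φ g)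

lemma tupleProd_Ub {n : ℕ} (a : Fin (n + 1) → ι) :
    tupleProd (Ub 𝔛 h𝔛 φ U g) a = tupleProd U a ⊓ bop 𝔛 h𝔛 (φ g) := by
  rw [tupleProd_eq_iInf, tupleProd_eq_iInf]
  exact (iInf_inf).symm

lemma affine_Ub (hle : ∀ i, U i ≤ W) (hU : ∀ (n : ℕ) (a : Fin (n + 1) → ι), IsAffineOpen (tupleProd U a)) (n : ℕ)
    (a : Fin (n + 1) → ι) : IsAffineOpen (tupleProd (Ub 𝔛 h𝔛 φ U g) a) := by
  rw [tupleProd_Ub, ← bop_rsR 𝔛 h𝔛 (tupleProd_le' U hle a) (φ g)]
  exact (FSchAff.isAffineOpen_lvU 𝔛 h𝔛.1 (hU n a) 0).basicOpen _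

set_option maxHeartbeats 4000000 in
/-- Sections of a module of a level localise. -/
theorem isLocC_level (hU : ∀ (n : ℕ) (a : Fin (n + 1) → ι), IsAffineOpen (tupleProd U a))
    (m : ℕ) (G : (𝔛.X m).Modules) (hG : Coh.IsQCoh G) :
    IsLocC (X := (𝔛.X 0).carrier) (O := 𝔛.Osh h𝔛.1) (U := U) (U' := Ub 𝔛 h𝔛 φ U g) φ (bop_le 𝔛 h𝔛 (φ g))
      hle (fun _ => inf_le_right) (fun _ => inf_le_left) g ((FSch.levelMor 𝔛 h𝔛.1 m).push.obj G) := fun n a => by
  haveI : G.IsQuasicoherent := hG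
  let T := tupleProd U a
  let T' := tupleProd (Ub 𝔛 h𝔛 φ U g) a
  let b : OA 𝔛 h𝔛.1 T := scl (X := (𝔛.X 0).carrier) (O := 𝔛.Osh h𝔛.1) φ (tupleProd_le' U hle a) g
  let β : Γ(𝔛.X m, 𝔛.lvU h𝔛.1 m T) := projR 𝔛 h𝔛.1 T m b
  have hT : (𝔛.X m).basicOpen β = 𝔛.lvU h𝔛.1 m T' :=
    (FormBlow.basicOpen_projR h𝔛.1 T b m).trans (congrArg (𝔛.lvU h𝔛.1 m)
      ((bop_rsR 𝔛 h𝔛 (tupleProd_le' U hle a) (φ g)).trans (tupleProd_Ub 𝔛 h𝔛 φ U g a).symm))
  have hloc := QC.isLoc_of_isQCoh (FSchAff.isAffineOpen_lvU 𝔛 h𝔛.1 (hU n a) m) (M := G)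
  have hle' : T' ≤ W := ((tupleProd_Ub 𝔛 h𝔛 φ U g a).le.trans inf_le_right).trans (bop_le 𝔛 h𝔛 (φ g))
  constructor
  · intro y
    obtain ⟨k, x, hx⟩ := hloc.exists_extend β (QC.res G hT.le (show Γ(G, 𝔛.lvU h𝔛.1 m T') from y))
    refine ⟨k, x, ?_⟩
    have h1 := congrArg (QC.res G hT.ge) hx
    rw [QC.res_res, QC.res_smul, map_pow, QC.resO_resO, QC.res_res, QC.res_self] at h1
    refine h1.trans ?_
    refine congrArg (fun r : Γ(𝔛.X m, 𝔛.lvU h𝔛.1 m T') => r • (show Γ(G, 𝔛.lvU h𝔛.1 m T') from y)) ?_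
    refine Eq.trans (congrArg (· ^ k) ?_) (map_pow (projR 𝔛 h𝔛.1 T' m)
      (scl (X := (𝔛.X 0).carrier) (O := 𝔛.Osh h𝔛.1) φ hle' g) k).symm
    have h2 : (rsR (O := 𝔛.Osh h𝔛.1) ((tupleProd_Ub 𝔛 h𝔛 φ U g a).le.trans inf_le_left) b : OA 𝔛 h𝔛.1 T') =
        scl (X := (𝔛.X 0).carrier) (O := 𝔛.Osh h𝔛.1) φ hle' g := rsR_scl φ _ _ g
    rw [← h2]
    exact (FormBlow.projR_rs h𝔛.1 ((tupleProd_Ub 𝔛 h𝔛 φ U g a).le.trans inf_le_left) m b).symm
  · intro x hx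
    obtain ⟨k, hk⟩ := hloc.exists_pow_smul_eq_zero β (show Γ(G, 𝔛.lvU h𝔛.1 m T) from x) (by
      have h1 := congrArg (QC.res G hT.le) (show QC.res G (FormBlow.lvU_mono h𝔛.1 ((tupleProd_Ub 𝔛 h𝔛 φ U g a).le.trans inf_le_left) m)
        (show Γ(G, 𝔛.lvU h𝔛.1 m T) from x) = 0 from hx)
      rwa [QC.res_res, map_zero] at h1)
    refine ⟨k, ?_⟩
    refine Eq.trans ?_ hk
    exact congrArg (fun r : Γ(𝔛.X m, 𝔛.lvU h𝔛.1 m T) => r • (show Γ(G, 𝔛.lvU h𝔛.1 m T) from x))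
      (map_pow (projR 𝔛 h𝔛.1 T m) b k)

end Groth.Agent.FSProper
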