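import Groth.Agent.FSProper.Loc
import Groth.Agent.FormBlow.Adic
import Groth.Agent.FSchCoh.Dist

/-!
# Proper morphisms of formal schemes over an affine open of the base
-/

set_option autoImplicit false
set_option backward.isDefEq.respectTransparency false
set_option backward.isDefEq.respectTransparency.types false
set_option linter.style.haveILetI false
set_option maxHeartbeats 1000000

universe u

open CategoryTheory CategoryTheory.Limits AlgebraicGeometry TopologicalSpace Opposite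
open Groth.Agent.SiteCoh Groth.Agent.ProjCech
open Groth.Agent.RSFin (sc rsR rsR_rsR)
open Groth.Agent.FSchCoh (MA ML OA RA JA projM transM projR transR pullSys toReal isIso_toReal isCoh_pullSys)

noncomputable section

namespace Groth.Agent.FSProper

variable {𝔛 𝔜 : FSch.Sys.{u}} (h𝔛 : 𝔛.IsLocNoethFormal) (h𝔜 : 𝔜.IsLocNoethFormal) (f : 𝔛 ⟶ 𝔜)
  (V : (𝔜.X 0).Opens)

/-- The inverse image of an open of the base. -/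
abbrev Wof : (𝔛.X 0).Opens := (f : FSch.Hom 𝔛 𝔜).app 0 ⁻¹ᵁ V

/-- The scalars over an open of the base. -/
abbrev phiV : OA 𝔜 h𝔜.1 V →+* OA 𝔛 h𝔛.1 (Wof f V) := FormBlow.shPb h𝔜.1 h𝔛.1 f (le_refl (Wof f V))

lemma scl_phiV {U : (𝔛.X 0).Opens} (e : U ≤ Wof f V) :
    scl (X := (𝔛.X 0).carrier) (O := 𝔛.Osh h𝔛.1) (phiV h𝔛 h𝔜 f V) e = FormBlow.shPb h𝔜.1 h𝔛.1 f e :=
  RingHom.ext fun a => FormBlow.pb_rs _ _ (le_refl (Wof f V)) e a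

lemma Wof_bop (g : OA 𝔜 h𝔜.1 V) : Wof f (bop 𝔜 h𝔜 g) = bop 𝔛 h𝔛 (phiV h𝔛 h𝔜 f V g) := by
  have h1 : bop 𝔛 h𝔛 (phiV h𝔛 h𝔜 f V g) = (𝔛.X 0).basicOpen (((f : FSch.Hom 𝔛 𝔜).app 0).appLE _ _
      (FormBlow.lvU_le_preimage h𝔜.1 h𝔛.1 f (le_refl (Wof f V)) 0) (projR 𝔜 h𝔜.1 V 0 g)) :=
    congrArg (𝔛.X 0).basicOpen (FormBlow.projR_shPb h𝔜.1 h𝔛.1 f (le_refl (Wof f V)) 0 g)
  rw [h1, Scheme.basicOpen_appLE, FormBlow.lvU_zero h𝔛.1]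
  exact (inf_eq_right.2 (((f : FSch.Hom 𝔛 𝔜).app 0).preimage_mono (bop_le 𝔜 h𝔜 g))).symm

variable (hf : FSch.IsProperHom f) (hV : IsAffineOpen V)

include hf hV in
/-- The ideal of definition of the base generates that of the source. -/
theorem map_JA {U : (𝔛.X 0).Opens} (e : U ≤ Wof f V) (hU : IsAffineOpen U) :
    (JA 𝔜 h𝔜.1 V).map (FormBlow.shPb h𝔜.1 h𝔛.1 f e) = JA 𝔛 h𝔛.1 U := by
  let ψ := FormBlow.shPb h𝔜.1 h𝔛.1 f e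
  have hq := FSchAff.isAffineOpen_lvU 𝔛 h𝔛.1 hU 1
  have hqY := FSchAff.isAffineOpen_lvU 𝔜 h𝔜.1 hV 1
  haveI := (h𝔛.1 0).1
  haveI := (h𝔜.1 0).1
  obtain ⟨hN, -, hpow⟩ := FSchCoh.main 𝔛 h𝔛.1 h𝔛 hU
  have hle : (JA 𝔜 h𝔜.1 V).map ψ ≤ JA 𝔛 h𝔛.1 U := by
    refine Ideal.map_le_iff_le_comap.2 fun a ha => ?_
    change projR 𝔛 h𝔛.1 U 0 (ψ a) = 0
    rw [FormBlow.projR_shPb, RingHom.mem_ker.1 ha, map_zero]
  have hkY : RingHom.ker (transR 𝔜 h𝔜.1 V 0) = (JA 𝔜 h𝔜.1 V).map (projR 𝔜 h𝔜.1 V 1) := by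
    refine le_antisymm (fun x hx => ?_) (Ideal.map_le_iff_le_comap.2 fun a ha => ?_)
    · obtain ⟨a, rfl⟩ := FSchCoh.projR_surjective 𝔜 h𝔜.1 hV 1 x
      refine Ideal.mem_map_of_mem _ ?_
      change projR 𝔜 h𝔜.1 V 0 a = 0
      rw [← FSchCoh.transR_projR]
      exact hx
    · change transR 𝔜 h𝔜.1 V 0 (projR 𝔜 h𝔜.1 V 1 a) = 0
      rw [FSchCoh.transR_projR]
      exact RingHom.mem_ker.1 ha
  have hkX : RingHom.ker (transR 𝔛 h𝔛.1 U 0) = ((JA 𝔜 h𝔜.1 V).map ψ).map (projR 𝔛 h𝔛.1 U 1) := by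
    have e1 : RingHom.ker (transR 𝔛 h𝔛.1 U 0) = (𝔛.ι 0).ker.ideal ⟨_, hq⟩ :=
      FSchCoh.ker_appLE_eq (𝔛.ι 0) hq (𝔛.lvU_succ h𝔛.1 0 U).symm
    have e2 : RingHom.ker (transR 𝔜 h𝔜.1 V 0) = (𝔜.ι 0).ker.ideal ⟨_, hqY⟩ :=
      FSchCoh.ker_appLE_eq (𝔜.ι 0) hqY (𝔜.lvU_succ h𝔜.1 0 V).symm
    rw [e1, ThickSys.ker_of_isPullback (hf.1 0),
      FpqcDescent.ideal_comap_appLE _ _ ⟨_, hqY⟩ ⟨_, hq⟩ (FormBlow.lvU_le_preimage h𝔜.1 h𝔛.1 f e 1),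
      ← e2, hkY, Ideal.map_map, Ideal.map_map]
    exact congrArg (fun φ : OA 𝔜 h𝔜.1 V →+* RA 𝔛 h𝔛.1 U 1 => (JA 𝔜 h𝔜.1 V).map φ)
      (RingHom.ext fun a => (FormBlow.projR_shPb h𝔜.1 h𝔛.1 f e 1 a).symm)
  refine le_antisymm hle (Submodule.le_of_le_smul_of_le_jacobson_bot (IsNoetherian.noetherian (JA 𝔛 h𝔛.1 U))
    (FSchCoh.JA_le_jacobson h𝔛 hU) fun x hx => ?_)
  have hx' : projR 𝔛 h𝔛.1 U 1 x ∈ RingHom.ker (transR 𝔛 h𝔛.1 U 0) := by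
    rw [RingHom.mem_ker, FSchCoh.transR_projR]
    exact RingHom.mem_ker.1 hx
  rw [hkX, Ideal.mem_map_iff_of_surjective _ (FSchCoh.projR_surjective 𝔛 h𝔛.1 hU 1)] at hx'
  obtain ⟨y, hy, hyx⟩ := hx'
  refine Submodule.mem_sup.2 ⟨y, hy, x - y, ?_, add_sub_cancel _ _⟩
  rw [smul_eq_mul, ← sq]
  have hk : x - y ∈ RingHom.ker (projR 𝔛 h𝔛.1 U 1) := by rw [RingHom.mem_ker, map_sub, hyx, sub_self]
  rwa [hpow 1] at hk

include hf hV in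
lemma gensIdeal_base {σ : Type u} [Fintype σ] {t : σ → OA 𝔜 h𝔜.1 V} (ht : tI t = JA 𝔜 h𝔜.1 V) :
    GensIdeal 𝔛 h𝔛 t (phiV h𝔛 h𝔜 f V) := fun U e hU => by
  rw [scl_phiV, ht]
  exact map_JA h𝔛 h𝔜 f V hf hV e hU

include hf hV in
lemma properBase_base : ProperBase 𝔛 h𝔛 (phiV h𝔛 h𝔜 f V) := by
  let g := (f : FSch.Hom 𝔛 𝔜).app 0
  have e : 𝔛.lvU h𝔛.1 0 (Wof f V) = g ⁻¹ᵁ 𝔜.lvU h𝔜.1 0 V := by
    rw [FormBlow.lvU_zero h𝔛.1, FormBlow.lvU_zero h𝔜.1]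
  haveI : IsIso ((𝔛.X 0).homOfLE e.le) :=
    ⟨(𝔛.X 0).homOfLE e.ge, by simp, by simp⟩
  haveI : IsProper (g ∣_ 𝔜.lvU h𝔜.1 0 V) := IsZariskiLocalAtTarget.restrict (P := @IsProper) hf.2 _
  have hVY := FSchAff.isAffineOpen_lvU 𝔜 h𝔜.1 hV 0
  haveI : IsIso (𝔜.lvU h𝔜.1 0 V).toSpecΓ := by
    rw [← hVY.isoSpec_hom]
    infer_instance
  haveI : IsClosedImmersion (Spec.map (CommRingCat.ofHom (projR 𝔜 h𝔜.1 V 0))) :=
    IsClosedImmersion.spec_of_surjective _ (FSchCoh.projR_surjective 𝔜 h𝔜.1 hV 0)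
  have key : lvStr 𝔛 h𝔛.1 (phiV h𝔛 h𝔜 f V) 0 = (𝔛.X 0).homOfLE e.le ≫ (g ∣_ 𝔜.lvU h𝔜.1 0 V) ≫
      (𝔜.lvU h𝔜.1 0 V).toSpecΓ ≫ Spec.map (CommRingCat.ofHom (projR 𝔜 h𝔜.1 V 0)) := by
    have h1 : CommRingCat.ofHom ((projR 𝔛 h𝔛.1 (Wof f V) 0).comp (phiV h𝔛 h𝔜 f V)) =
        CommRingCat.ofHom (projR 𝔜 h𝔜.1 V 0) ≫ g.app (𝔜.lvU h𝔜.1 0 V) ≫ (𝔛.X 0).presheaf.map (homOfLE e.le).op :=
      CommRingCat.hom_ext (RingHom.ext fun a => FormBlow.projR_shPb h𝔜.1 h𝔛.1 f (le_refl (Wof f V)) 0 a)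
    rw [lvStr, h1, Spec.map_comp, Spec.map_comp]
    simp only [Category.assoc]
    rw [← Category.assoc (Scheme.Opens.toSpecΓ _), Scheme.Opens.toSpecΓ_SpecMap_presheaf_map _ _ e.le,
      Category.assoc]
    refine congrArg ((𝔛.X 0).homOfLE e.le ≫ ·) ?_
    exact (Category.assoc _ _ _).symm.trans ((congrArg (· ≫ Spec.map _)
      (Scheme.Opens.toSpecΓ_naturality g (𝔜.lvU h𝔜.1 0 V))).trans (Category.assoc _ _ _))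
  rw [ProperBase, key]
  infer_instance

include hf hV in
lemma exists_setting_base : ∃ (σ : Type u) (_ : Fintype σ) (t : σ → OA 𝔜 h𝔜.1 V) (ι : Type u) (_ : Finite ι)
    (U : ι → (𝔛.X 0).Opens), tI t = JA 𝔜 h𝔜.1 V ∧ iSup U = Wof f V ∧
      (∀ (n : ℕ) (a : Fin (n + 1) → ι), IsAffineOpen (tupleProd U a)) ∧
      GensIdeal 𝔛 h𝔛 t (phiV h𝔛 h𝔜 f V) ∧ ProperBase 𝔛 h𝔛 (phiV h𝔛 h𝔜 f V) := by
  haveI := hf.2
  haveI := (FSchCoh.main 𝔜 h𝔜.1 h𝔜 hV).1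
  obtain ⟨m, g, hg⟩ := Submodule.fg_iff_exists_fin_generating_family.1 (IsNoetherian.noetherian (JA 𝔜 h𝔜.1 V))
  have ht : tI (fun i : ULift.{u} (Fin m) => g i.down) = JA 𝔜 h𝔜.1 V :=
    (congrArg Ideal.span (ULift.down_surjective.range_comp g)).trans hg
  let W := Wof f V
  haveI : IsAffine V.toScheme := hV
  haveI : IsSeparated (((f : FSch.Hom 𝔛 𝔜).app 0) ∣_ V) :=
    IsZariskiLocalAtTarget.restrict (P := @IsSeparated) (inferInstance : IsSeparated ((f : FSch.Hom 𝔛 𝔜).app 0)) V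
  haveI : W.toScheme.IsSeparated := ⟨by
    rw [← terminal.comp_from (((f : FSch.Hom 𝔛 𝔜).app 0) ∣_ V)]
    infer_instance⟩
  obtain ⟨ι, hι, U, hU, hle, hcov⟩ := QC.exists_finite_affine_cover (X := 𝔛.X 0) (W := W)
    (((f : FSch.Hom 𝔛 𝔜).app 0).isCompact_preimage hV.isCompact)
  refine ⟨ULift.{u} (Fin m), inferInstance, _, ι, inferInstance, U, ht,
    le_antisymm (iSup_le hle) fun x hx => Opens.mem_iSup.2 (hcov x hx), fun n a => ?_,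
    gensIdeal_base h𝔛 h𝔜 f V hf hV ht, properBase_base h𝔛 h𝔜 f V hf hV⟩
  have h1 := isAffineOpen_tupleProd_sep (fun i => W.ι ⁻¹ᵁ U i) (fun i => by
    rw [← Scheme.Hom.isAffineOpen_iff_of_isOpenImmersion W.ι, Scheme.Hom.image_preimage_eq_opensRange_inf,
      Scheme.Opens.opensRange_ι, inf_eq_right.2 (hle i)]
    exact hU i) n a
  rw [← Scheme.Hom.isAffineOpen_iff_of_isOpenImmersion W.ι] at h1
  have h2 : tupleProd (fun i => W.ι ⁻¹ᵁ U i) a = W.ι ⁻¹ᵁ tupleProd U a :=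
    (CechX.preimage_tupleProd W.ι.base U a).symm
  rw [h2, Scheme.Hom.image_preimage_eq_opensRange_inf, Scheme.Opens.opensRange_ι,
    inf_eq_right.2 (tupleProd_le' U hle a)] at h1
  exact h1

end Groth.Agent.FSProper
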