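import Groth.Agent.FSProper.Data

/-!
# Cohomology of a coherent system on a proper formal scheme over an affine base

Comparison of the cohomology of the limit with the cohomology of the levels: Mittag-Leffler with a
uniform bound, injectivity and surjectivity.
-/

set_option autoImplicit false
set_option backward.isDefEq.respectTransparency false
set_option backward.isDefEq.respectTransparency.types false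
set_option linter.style.haveILetI false
set_option maxHeartbeats 1000000

universe u

open CategoryTheory CategoryTheory.Limits AlgebraicGeometry TopologicalSpace Opposite
open Groth.Agent.SiteCoh Groth.Agent.ProjCech
open Groth.Agent.FSchCoh (MA ML OA RA JA projM transM projR transR)

noncomputable section

namespace Groth.Agent.FSProper

section Maps

variable {X : TopCat.{u}} {O : TopCat.Sheaf CommRingCat.{u} X} (V : Opens X)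

/-- The map on cohomology over an open induced by a map of modules. -/
abbrev hum {M N : ModSite.Mod O} (f : M ⟶ N) (p : ℕ) :
    CohSite.HU (ModSite.toAb M) p V →+ CohSite.HU (ModSite.toAb N) p V :=
  huMap V ((SheafOfModules.toSheaf _).map f) p

lemma hum_comp {M N P : ModSite.Mod O} (f : M ⟶ N) (g : N ⟶ P) (p : ℕ)
    (x : CohSite.HU (ModSite.toAb M) p V) : hum V (f ≫ g) p x = hum V g p (hum V f p x) := by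
  simp only [huMap, Functor.map_comp]
  change Abelian.Ext.comp x _ (add_zero p) = Abelian.Ext.comp (Abelian.Ext.comp x _ (add_zero p)) _ (add_zero p)
  rw [Abelian.Ext.comp_assoc_of_second_deg_zero, Abelian.Ext.mk₀_comp_mk₀]

lemma hum_id (M : ModSite.Mod O) (p : ℕ) (x : CohSite.HU (ModSite.toAb M) p V) :
    hum V (𝟙 M) p x = x := by
  simp only [huMap, CategoryTheory.Functor.map_id]
  exact Abelian.Ext.comp_mk₀_id x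

variable {A : Type u} [CommRing A] {W : Opens X} (φ : A →+* RSFin.sc O W) {ι : Type u} (U : ι → Opens X)
  (hle : ∀ i, U i ≤ W)

lemma CFmap_comp_apply {F G H : ModSite.Mod O} (f : F ⟶ G) (g : G ⟶ H) (n : ℕ)
    (x : ((CF φ U hle F).X n : Type u)) :
    ((CFmap φ U hle (f ≫ g)).f n).hom x = ((CFmap φ U hle g).f n).hom (((CFmap φ U hle f).f n).hom x) := rfl

lemma CFmap_comm {F G : ModSite.Mod O} (f : F ⟶ G) (i j : ℕ) (x : ((CF φ U hle F).X i : Type u)) :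
    ((CFmap φ U hle f).f j).hom (((CF φ U hle F).d i j).hom x) =
      ((CF φ U hle G).d i j).hom (((CFmap φ U hle f).f i).hom x) :=
  (ConcreteCategory.congr_hom ((CFmap φ U hle f).comm i j) x).symm

end Maps

variable (𝔛 : FSch.Sys.{u}) (h𝔛 : 𝔛.IsLocNoethFormal) {A : Type u} [CommRing A] [IsNoetherianRing A]
  {σ : Type u} [Fintype σ] {t : σ → A}
  {ι : Type u} [Finite ι] (U : ι → (𝔛.X 0).Opens) {φ : A →+* OA 𝔛 h𝔛.1 (iSup U)} (𝔐 : FSch.ModSys 𝔛)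
  (hU : ∀ (n : ℕ) (a : Fin (n + 1) → ι), IsAffineOpen (tupleProd U a))
  (hJ : GensIdeal 𝔛 h𝔛 t φ) (hM : 𝔐.IsCoh) (hP : ProperBase 𝔛 h𝔛 φ)

/-- The module of a level. -/
abbrev LF (k : ℕ) : FSch.ModF 𝔛 h𝔛.1 := (FSch.levelMor 𝔛 h𝔛.1 k).push.obj (𝔐.F k)

/-- The projection to the module of a level. -/
abbrev lp (k : ℕ) : 𝔐.realMod h𝔛.1 ⟶ LF 𝔛 h𝔛 𝔐 k := FSch.realProj 𝔛 h𝔛.1 𝔐.F 𝔐.toPush k

/-- The projection of cochains. -/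
abbrev cp (φ : A →+* OA 𝔛 h𝔛.1 (iSup U)) (k n : ℕ) :
    ((CM 𝔛 h𝔛.1 φ 𝔐 U (le_iSup U)).X n : Type u) →ₗ[A]
      ((CF (X := (𝔛.X 0).carrier) (O := 𝔛.Osh h𝔛.1) φ U (le_iSup U) (LF 𝔛 h𝔛 𝔐 k)).X n : Type u) :=
  ((CFmap (X := (𝔛.X 0).carrier) (O := 𝔛.Osh h𝔛.1) φ U (le_iSup U) (lp 𝔛 h𝔛 𝔐 k)).f n).hom

include hU hJ hM in
lemma cp_eq_zero_iff (k n : ℕ) (x : ((CM 𝔛 h𝔛.1 φ 𝔐 U (le_iSup U)).X n : Type u)) :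
    cp 𝔛 h𝔛 U 𝔐 φ k n x = 0 ↔ x ∈ fil (tI t) ((CM 𝔛 h𝔛.1 φ 𝔐 U (le_iSup U)).X n : Type u) (k + 1) :=
  (show cp 𝔛 h𝔛 U 𝔐 φ k n x = 0 ↔ ∀ a, projM 𝔛 h𝔛.1 𝔐 (tupleProd U a) k (x a) = 0 from funext_iff).trans
    (mem_fil_CM 𝔛 h𝔛 𝔐 U (le_iSup U) hU hJ hM n k x).symm

include hU hJ hM in
lemma cp_surjective (k n : ℕ) : Function.Surjective (cp 𝔛 h𝔛 U 𝔐 φ k n) := fun y => by
  obtain ⟨x, hx⟩ := exists_CM_lift 𝔛 h𝔛 𝔐 U (le_iSup U) hU hJ hM n k y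
  exact ⟨x, funext hx⟩

include hU hM in
omit [Finite ι] in
lemma acF_realMod : AcF (X := (𝔛.X 0).carrier) (O := 𝔛.Osh h𝔛.1) U (𝔐.realMod h𝔛.1) := fun n a q =>
  FSchCoh.realMod_acyclic 𝔛 h𝔛.1 𝔐 hM (hU n a) q

include hU hM in
omit [Finite ι] in
lemma acF_LF (k : ℕ) : AcF (X := (𝔛.X 0).carrier) (O := 𝔛.Osh h𝔛.1) U (LF 𝔛 h𝔛 𝔐 k) := fun n a q =>
  haveI : (𝔐.F k).IsQuasicoherent := (hM k).1
  FSchCoh.hu_level_push_vanish 𝔛 h𝔛.1 k (𝔐.F k) (hU n a) q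

/-- The transition of the modules of the levels. -/
abbrev ltr (k : ℕ) : LF 𝔛 h𝔛 𝔐 (k + 1) ⟶ LF 𝔛 h𝔛 𝔐 k :=
  (FSch.levelMor 𝔛 h𝔛.1 (k + 1)).push.map (𝔐.toPush k) ≫ (FSch.pushCompare 𝔛 h𝔛.1 k).app (𝔐.F k)

include hU hJ hM hP in
/-- **Mittag-Leffler, with a uniform bound.** -/
theorem ml_hu (p : ℕ) : ∃ D : ℕ, ∀ (n m : ℕ), n + D ≤ m →
    ∀ g : LF 𝔛 h𝔛 𝔐 m ⟶ LF 𝔛 h𝔛 𝔐 n, lp 𝔛 h𝔛 𝔐 m ≫ g = lp 𝔛 h𝔛 𝔐 n →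
    ∀ c, ∃ y, hum (iSup U) g p c = hum (iSup U) (lp 𝔛 h𝔛 𝔐 n) p y := by
  haveI := fun j => isAdicComplete_CM (φ := φ) (t := t) 𝔛 h𝔛 𝔐 U (le_iSup U) hU hJ hM j
  obtain ⟨cl, hsurj, -, hnat⟩ := exists_cls (X := (𝔛.X 0).carrier) (O := 𝔛.Osh h𝔛.1) φ U (le_iSup U)
    p ((ComplexShape.up ℕ).prev p) (p + 1) rfl (CochainComplex.next ℕ p)
  obtain ⟨D, hD⟩ := exists_lift (J := tI t) (d := ((CM 𝔛 h𝔛.1 φ 𝔐 U (le_iSup U)).d p (p + 1)).hom)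
    (d' := ((CM 𝔛 h𝔛.1 φ 𝔐 U (le_iSup U)).d (p + 1) (p + 1 + 1)).hom)
    (congrArg ModuleCat.Hom.hom ((CM 𝔛 h𝔛.1 φ 𝔐 U (le_iSup U)).d_comp_d p (p + 1) (p + 1 + 1)))
    (grFin_CM 𝔛 h𝔛 𝔐 U (le_iSup U) hU hJ hM rfl hP p (p + 1) (p + 1 + 1)
      (CochainComplex.prev_nat_succ p) (CochainComplex.next ℕ (p + 1)))
  refine ⟨D, fun n m hnm g hg c => ?_⟩
  obtain ⟨⟨z, hz⟩, rfl⟩ := hsurj _ (acF_LF 𝔛 h𝔛 U 𝔐 hU hM m) c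
  obtain ⟨x, rfl⟩ := cp_surjective 𝔛 h𝔛 U 𝔐 hU hJ hM m p z
  have hdx : ((CM 𝔛 h𝔛.1 φ 𝔐 U (le_iSup U)).d p (p + 1)).hom x ∈
      fil (tI t) ((CM 𝔛 h𝔛.1 φ 𝔐 U (le_iSup U)).X (p + 1) : Type u) (n + 1 + D) :=
    fil_anti _ (by omega) ((cp_eq_zero_iff 𝔛 h𝔛 U 𝔐 hU hJ hM m (p + 1) _).1
      ((CFmap_comm φ U (le_iSup U) (lp 𝔛 h𝔛 𝔐 m) p (p + 1) x).trans (LinearMap.mem_ker.1 hz)))
  obtain ⟨y, hy, hxy⟩ := hD (n + 1) x hdx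
  have hyn : cp 𝔛 h𝔛 U 𝔐 φ n p y = cp 𝔛 h𝔛 U 𝔐 φ n p x :=
    (sub_eq_zero.1 ((map_sub _ _ _).symm.trans ((cp_eq_zero_iff 𝔛 h𝔛 U 𝔐 hU hJ hM n p _).2 hxy))).symm
  have hgx : ((CFmap (X := (𝔛.X 0).carrier) (O := 𝔛.Osh h𝔛.1) φ U (le_iSup U) g).f p).hom
      (cp 𝔛 h𝔛 U 𝔐 φ m p x) = cp 𝔛 h𝔛 U 𝔐 φ n p x := by
    refine (CFmap_comp_apply φ U (le_iSup U) (lp 𝔛 h𝔛 𝔐 m) g p x).symm.trans ?_
    rw [hg]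
  refine ⟨cl _ (acF_realMod 𝔛 h𝔛 U 𝔐 hU hM) ⟨y, hy⟩, ?_⟩
  have h1 : ((CFmap (X := (𝔛.X 0).carrier) (O := 𝔛.Osh h𝔛.1) φ U (le_iSup U) g).f p).hom
      (cp 𝔛 h𝔛 U 𝔐 φ m p x) ∈ LinearMap.ker
        ((CF (X := (𝔛.X 0).carrier) (O := 𝔛.Osh h𝔛.1) φ U (le_iSup U) (LF 𝔛 h𝔛 𝔐 n)).d p (p + 1)).hom :=
    LinearMap.mem_ker.2 ((CFmap_comm φ U (le_iSup U) g p (p + 1) _).symm.trans
      ((congrArg _ (LinearMap.mem_ker.1 hz)).trans (map_zero _)))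
  have h2 : cp 𝔛 h𝔛 U 𝔐 φ n p y ∈ LinearMap.ker
        ((CF (X := (𝔛.X 0).carrier) (O := 𝔛.Osh h𝔛.1) φ U (le_iSup U) (LF 𝔛 h𝔛 𝔐 n)).d p (p + 1)).hom :=
    LinearMap.mem_ker.2 ((CFmap_comm φ U (le_iSup U) (lp 𝔛 h𝔛 𝔐 n) p (p + 1) y).symm.trans
      ((congrArg _ hy).trans (map_zero _)))
  refine (hnat _ _ (acF_LF 𝔛 h𝔛 U 𝔐 hU hM m) (acF_LF 𝔛 h𝔛 U 𝔐 hU hM n) g ⟨_, hz⟩ h1).trans
    (Eq.trans ?_ (hnat _ _ (acF_realMod 𝔛 h𝔛 U 𝔐 hU hM) (acF_LF 𝔛 h𝔛 U 𝔐 hU hM n)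
      (lp 𝔛 h𝔛 𝔐 n) ⟨y, hy⟩ h2).symm)
  exact congrArg _ (Subtype.ext (hgx.trans hyn.symm))

include hU hJ hM hP in
/-- **A class vanishing on every level vanishes.** -/
theorem hu_eq_zero (p : ℕ) (c : CohSite.HU (ModSite.toAb (𝔐.realMod h𝔛.1)) p (iSup U))
    (hc : ∀ k, hum (iSup U) (lp 𝔛 h𝔛 𝔐 k) p c = 0) : c = 0 := by
  haveI := fun j => isAdicComplete_CM (φ := φ) (t := t) 𝔛 h𝔛 𝔐 U (le_iSup U) hU hJ hM j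
  obtain ⟨cl, hsurj, hker, hnat⟩ := exists_cls (X := (𝔛.X 0).carrier) (O := 𝔛.Osh h𝔛.1) φ U (le_iSup U)
    p ((ComplexShape.up ℕ).prev p) (p + 1) rfl (CochainComplex.next ℕ p)
  obtain ⟨⟨z, hz⟩, rfl⟩ := hsurj _ (acF_realMod 𝔛 h𝔛 U 𝔐 hU hM) c
  refine (hker _ _ _).2 (mem_range_of_forall (J := tI t)
    (congrArg ModuleCat.Hom.hom ((CM 𝔛 h𝔛.1 φ 𝔐 U (le_iSup U)).d_comp_d _ p (p + 1)))
    (grFin_CM 𝔛 h𝔛 𝔐 U (le_iSup U) hU hJ hM rfl hP _ p (p + 1) rfl (CochainComplex.next ℕ p)) fun k => ?_)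
  refine SetLike.le_def.1 (sup_le_sup_left (fil_anti (tI t) k.le_succ) _) ?_
  have h1 : cp 𝔛 h𝔛 U 𝔐 φ k p z ∈ LinearMap.ker
        ((CF (X := (𝔛.X 0).carrier) (O := 𝔛.Osh h𝔛.1) φ U (le_iSup U) (LF 𝔛 h𝔛 𝔐 k)).d p (p + 1)).hom :=
    LinearMap.mem_ker.2 ((CFmap_comm φ U (le_iSup U) (lp 𝔛 h𝔛 𝔐 k) p (p + 1) z).symm.trans
      ((congrArg _ (LinearMap.mem_ker.1 hz)).trans (map_zero _)))
  obtain ⟨w, hw⟩ := (hker _ _ ⟨_, h1⟩).1 ((hnat _ _ _ (acF_LF 𝔛 h𝔛 U 𝔐 hU hM k)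
    (lp 𝔛 h𝔛 𝔐 k) ⟨z, hz⟩ h1).symm.trans (hc k))
  obtain ⟨v, rfl⟩ := cp_surjective 𝔛 h𝔛 U 𝔐 hU hJ hM k _ w
  refine Submodule.mem_sup.2 ⟨_, ⟨v, rfl⟩, _, (cp_eq_zero_iff 𝔛 h𝔛 U 𝔐 hU hJ hM k p _).1 ?_, add_sub_cancel _ z⟩
  exact (map_sub _ _ _).trans (sub_eq_zero.2 (hw.symm.trans (CFmap_comm φ U (le_iSup U) (lp 𝔛 h𝔛 𝔐 k) _ p v).symm))

include hU hJ hM hP in
/-- **Compatible classes on the levels come from a class.** -/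
theorem exists_hu_of_compatible (p : ℕ) (g : ∀ k, LF 𝔛 h𝔛 𝔐 (k + 1) ⟶ LF 𝔛 h𝔛 𝔐 k)
    (hg : ∀ k, lp 𝔛 h𝔛 𝔐 (k + 1) ≫ g k = lp 𝔛 h𝔛 𝔐 k)
    (c : ∀ k, CohSite.HU (ModSite.toAb (LF 𝔛 h𝔛 𝔐 k)) p (iSup U))
    (hc : ∀ k, hum (iSup U) (g k) p (c (k + 1)) = c k) :
    ∃ y, ∀ k, hum (iSup U) (lp 𝔛 h𝔛 𝔐 k) p y = c k := by
  haveI := fun j => isAdicComplete_CM (φ := φ) (t := t) 𝔛 h𝔛 𝔐 U (le_iSup U) hU hJ hM j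
  obtain ⟨cl, hsurj, hker, hnat⟩ := exists_cls (X := (𝔛.X 0).carrier) (O := 𝔛.Osh h𝔛.1) φ U (le_iSup U)
    p ((ComplexShape.up ℕ).prev p) (p + 1) rfl (CochainComplex.next ℕ p)
  choose z hz using fun k => hsurj _ (acF_LF 𝔛 h𝔛 U 𝔐 hU hM k) (c k)
  choose x hx using fun k => cp_surjective 𝔛 h𝔛 U 𝔐 hU hJ hM k p (z k).1
  have hdx : ∀ k, ((CM 𝔛 h𝔛.1 φ 𝔐 U (le_iSup U)).d p (p + 1)).hom (x k) ∈
      fil (tI t) ((CM 𝔛 h𝔛.1 φ 𝔐 U (le_iSup U)).X (p + 1) : Type u) (k + 1) := fun k =>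
    (cp_eq_zero_iff 𝔛 h𝔛 U 𝔐 hU hJ hM k (p + 1) _).1
      ((CFmap_comm φ U (le_iSup U) (lp 𝔛 h𝔛 𝔐 k) p (p + 1) _).trans
        ((congrArg _ (hx k)).trans (LinearMap.mem_ker.1 (z k).2)))
  have hcx : ∀ k, x (k + 1) - x k ∈ LinearMap.range ((CM 𝔛 h𝔛.1 φ 𝔐 U (le_iSup U)).d
      ((ComplexShape.up ℕ).prev p) p).hom ⊔
        fil (tI t) ((CM 𝔛 h𝔛.1 φ 𝔐 U (le_iSup U)).X p : Type u) (k + 1) := fun k => by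
    have hgx : ((CFmap (X := (𝔛.X 0).carrier) (O := 𝔛.Osh h𝔛.1) φ U (le_iSup U) (g k)).f p).hom
        (z (k + 1)).1 = cp 𝔛 h𝔛 U 𝔐 φ k p (x (k + 1)) := by
      rw [← hx (k + 1)]
      refine (CFmap_comp_apply φ U (le_iSup U) (lp 𝔛 h𝔛 𝔐 (k + 1)) (g k) p _).symm.trans ?_
      rw [hg]
    have h1 : ((CFmap (X := (𝔛.X 0).carrier) (O := 𝔛.Osh h𝔛.1) φ U (le_iSup U) (g k)).f p).hom
        (z (k + 1)).1 ∈ LinearMap.ker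
          ((CF (X := (𝔛.X 0).carrier) (O := 𝔛.Osh h𝔛.1) φ U (le_iSup U) (LF 𝔛 h𝔛 𝔐 k)).d p (p + 1)).hom :=
      LinearMap.mem_ker.2 ((CFmap_comm φ U (le_iSup U) (g k) p (p + 1) _).symm.trans
        ((congrArg _ (LinearMap.mem_ker.1 (z (k + 1)).2)).trans (map_zero _)))
    have h2 : cl _ (acF_LF 𝔛 h𝔛 U 𝔐 hU hM k) (⟨_, h1⟩ - z k) = 0 := by
      refine (map_sub _ _ _).trans (sub_eq_zero.2 ?_)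
      refine (hnat _ _ (acF_LF 𝔛 h𝔛 U 𝔐 hU hM (k + 1)) _ (g k) (z (k + 1)) h1).symm.trans ?_
      exact ((congrArg (hum (iSup U) (g k) p) (hz (k + 1))).trans (hc k)).trans (hz k).symm
    obtain ⟨w, hw⟩ := (hker _ _ _).1 h2
    obtain ⟨v, rfl⟩ := cp_surjective 𝔛 h𝔛 U 𝔐 hU hJ hM k _ w
    refine Submodule.mem_sup.2 ⟨_, ⟨v, rfl⟩, _, (cp_eq_zero_iff 𝔛 h𝔛 U 𝔐 hU hJ hM k p _).1 ?_, add_sub_cancel _ _⟩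
    have h3 : cp 𝔛 h𝔛 U 𝔐 φ k p (((CM 𝔛 h𝔛.1 φ 𝔐 U (le_iSup U)).d ((ComplexShape.up ℕ).prev p) p).hom v) =
        cp 𝔛 h𝔛 U 𝔐 φ k p (x (k + 1) - x k) := by
      refine (CFmap_comm φ U (le_iSup U) (lp 𝔛 h𝔛 𝔐 k) _ p v).trans (hw.trans ?_)
      rw [map_sub, ← hgx, hx k]
      rfl
    exact (map_sub _ _ _).trans (sub_eq_zero.2 h3.symm)
  obtain ⟨y, hy, hyx⟩ := exists_cocycle_of_compatible (J := tI t)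
    (d := ((CM 𝔛 h𝔛.1 φ 𝔐 U (le_iSup U)).d ((ComplexShape.up ℕ).prev p) p).hom)
    (d' := ((CM 𝔛 h𝔛.1 φ 𝔐 U (le_iSup U)).d p (p + 1)).hom)
    ((CM 𝔛 h𝔛.1 φ 𝔐 U (le_iSup U)).d (p + 1) (p + 1 + 1)).hom
    (congrArg ModuleCat.Hom.hom ((CM 𝔛 h𝔛.1 φ 𝔐 U (le_iSup U)).d_comp_d p (p + 1) (p + 1 + 1)))
    (grFin_CM 𝔛 h𝔛 𝔐 U (le_iSup U) hU hJ hM rfl hP p (p + 1) (p + 1 + 1)
      (CochainComplex.prev_nat_succ p) (CochainComplex.next ℕ (p + 1))) x hdx hcx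
    (congrArg ModuleCat.Hom.hom ((CM 𝔛 h𝔛.1 φ 𝔐 U (le_iSup U)).d_comp_d _ p (p + 1)))
  refine ⟨cl _ (acF_realMod 𝔛 h𝔛 U 𝔐 hU hM) ⟨y, hy⟩, fun k => ?_⟩
  have h1 : cp 𝔛 h𝔛 U 𝔐 φ k p y ∈ LinearMap.ker
        ((CF (X := (𝔛.X 0).carrier) (O := 𝔛.Osh h𝔛.1) φ U (le_iSup U) (LF 𝔛 h𝔛 𝔐 k)).d p (p + 1)).hom :=
    LinearMap.mem_ker.2 ((CFmap_comm φ U (le_iSup U) (lp 𝔛 h𝔛 𝔐 k) p (p + 1) y).symm.trans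
      ((congrArg _ hy).trans (map_zero _)))
  refine (hnat _ _ _ (acF_LF 𝔛 h𝔛 U 𝔐 hU hM k) _ ⟨y, hy⟩ h1).trans ?_
  rw [← hz k]
  refine sub_eq_zero.1 ((map_sub _ _ _).symm.trans ((hker _ _ _).2 ?_))
  obtain ⟨-, ⟨v, rfl⟩, b, hb, hab⟩ := Submodule.mem_sup.1 (hyx k)
  refine ⟨cp 𝔛 h𝔛 U 𝔐 φ k _ v, (CFmap_comm φ U (le_iSup U) (lp 𝔛 h𝔛 𝔐 k) _ p v).symm.trans ?_⟩
  refine ((add_zero _).symm.trans ((congrArg (_ + ·) ((cp_eq_zero_iff 𝔛 h𝔛 U 𝔐 hU hJ hM k p b).2 hb).symm).trans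
    (map_add _ _ _).symm)).trans ?_
  rw [hab, map_sub, hx k]
  rfl

end Groth.Agent.FSProper
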