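import Groth.Agent.FSProper.IndWS
import Groth.Agent.FSProper.CohPush

/-!
# Total direct images and weak Serre properties
-/

set_option autoImplicit false
set_option backward.isDefEq.respectTransparency false
set_option linter.style.haveILetI false
set_option maxHeartbeats 1000000

universe u

open CategoryTheory CategoryTheory.Limits AlgebraicGeometry TopologicalSpace Opposite
open Groth.Agent.FSchCoh (isIso_H_rpush_of_high limPres_of_coh ind_of_limPres)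

attribute [local instance] HasDerivedCategory.standard

noncomputable section

namespace Groth.Agent.FSProper

variable {𝔛 𝔜 : FSch.Sys.{u}} (h𝔛 : 𝔛.IsLocNoethFormal) (h𝔜 : 𝔜.IsLocNoethFormal)
  [CompactSpace (𝔛.X 0)] [CompactSpace (𝔜.X 0)] (f : 𝔛 ⟶ 𝔜)
  [HasInjectiveResolutions (FSch.ModF 𝔛 h𝔛.1)] [SiteCmp.HasRpushD (FSch.homMor f h𝔛.1 h𝔜.1)]

theorem prop_hmod_rpush (P : ObjectProperty (FSch.ModF 𝔛 h𝔛.1)) (Q : ObjectProperty (FSch.ModF 𝔜 h𝔜.1))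
    [WSerre.IsWeakSerre P] [WSerre.IsWeakSerre Q] (hP : P ≤ Ind h𝔛)
    (hPQ : ∀ (F : FSch.ModF 𝔛 h𝔛.1), P F → ∀ q : ℕ, Q ((FSch.RpushF f h𝔛.1 h𝔜.1 q).obj F))
    (K : DerivedCategory (FSch.ModF 𝔛 h𝔛.1)) (hK : ∀ i : ℤ, P (SiteCmp.HMod K i)) (j : ℤ) :
    Q (SiteCmp.HMod ((SiteCmp.RpushD (FSch.homMor f h𝔛.1 h𝔜.1)).obj K) j) := by
  haveI : IsLocallyNoetherian (𝔛.X 0) := h𝔛.2.2 0
  haveI : IsNoetherian (𝔛.X 0) := ⟨⟩
  haveI : AlgebraicGeometry.QuasiCompact ((f : FSch.Hom 𝔛 𝔜).app 0) := ⟨fun U _ _ => NoetherianSpace.isCompact _⟩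
  obtain ⟨d, hd⟩ := FSchCoh.exists_preimage_bound ((f : FSch.Hom 𝔛 𝔜).app 0)
  let t : Triangulated.TStructure (DerivedCategory (FSch.ModF 𝔛 h𝔛.1)) := DerivedCategory.TStructure.t
  let m : ℕ := ((d : ℤ) + 1 - j).toNat
  let T := (t.truncGE (-(m : ℤ))).obj K
  haveI hT : T.IsGE (-(m : ℤ)) := HDU.isGE_truncGE K _
  have hTq : WSerre.cohIn P T := fun k => by
    rcases lt_or_ge k (-(m : ℤ)) with hk | hk
    · obtain ⟨Z, hZ, hPZ⟩ := P.exists_prop_of_containsZero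
      exact P.prop_of_iso (hZ.iso ((DerivedCategory.isGE_iff _ _).1 hT k hk)) hPZ
    · have := HDU.isIso_H_truncGEπ K (-(m : ℤ)) k hk
      exact P.prop_of_iso
        (asIso ((DerivedCategory.homologyFunctor _ k).map ((t.truncGEπ (-(m : ℤ))).app K))) (hK k)
  haveI : IsIso ((DerivedCategory.homologyFunctor (FSch.ModF 𝔜 h𝔜.1) j).map
      ((SiteCmp.RpushD (FSch.homMor f h𝔛.1 h𝔜.1)).map ((t.truncGEπ (-(m : ℤ))).app K))) :=
    isIso_H_rpush_of_high h𝔛 h𝔜.1 f _ (fun i => hP _ (hK i)) (fun i => hP _ (hTq i)) j m d (by omega)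
      (fun i hi => HDU.isIso_H_truncGEπ K _ i hi) hd
  exact Q.prop_of_iso
    (asIso ((DerivedCategory.homologyFunctor (FSch.ModF 𝔜 h𝔜.1) j).map
      ((SiteCmp.RpushD (FSch.homMor f h𝔛.1 h𝔜.1)).map ((t.truncGEπ (-(m : ℤ))).app K)))).symm
    (RPushSite.cohIn_rpush_boundedBelow (FSch.homMor f h𝔛.1 h𝔜.1) P Q
      (fun F hF p => hPQ F hF p) T _ hT hTq j)

theorem isCohF_hmod (hf : FSch.IsProperHom f) (K : DerivedCategory (FSch.ModF 𝔛 h𝔛.1))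
    (hK : ∀ i : ℤ, FSch.IsCohF 𝔛 h𝔛.1 (SiteCmp.HMod K i)) (j : ℤ) :
    FSch.IsCohF 𝔜 h𝔜.1 (SiteCmp.HMod ((SiteCmp.RpushD (FSch.homMor f h𝔛.1 h𝔜.1)).obj K) j) := by
  haveI := isWeakSerre_coh h𝔛
  haveI := isWeakSerre_coh h𝔜
  exact prop_hmod_rpush h𝔛 h𝔜 f (CohP h𝔛) (CohP h𝔜) (fun M hM => ind_of_limPres (limPres_of_coh h𝔛 hM))
    (fun F hF q => isCohF_rpush h𝔛 h𝔜 f hf F hF q) K hK j

end Groth.Agent.FSProper
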