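import Groth.Agent.FSProper.RpushD

/-!
# Higher direct images of ind-coherent modules along proper morphisms
-/

set_option autoImplicit false
set_option backward.isDefEq.respectTransparency false
set_option linter.style.haveILetI false
set_option maxHeartbeats 1000000

universe u

open CategoryTheory CategoryTheory.Limits AlgebraicGeometry TopologicalSpace Opposite
open Groth.Agent.FSchCoh (LimPres limPres_cokernel limPres_kernel limPres_of_iso limPres_of_ind limPres_of_coh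
  ind_of_limPres limPres_sigma exists_rpush_bound preservesColimit_rpush_ind hasCoproducts_D preservesCoproducts_HD
  exists_coprod_cofan IndCohD)

noncomputable section

namespace Groth.Agent.FSProper

theorem exists_cokernel_iso {𝒞 : Type*} [Category 𝒞] [Abelian 𝒞] {A X K T : 𝒞} {g : A ⟶ X} {d : X ⟶ K}
    {w : g ≫ d = 0} (h : (ShortComplex.mk g d w).Exact) [Epi d] (ψ : X ⟶ T) :
    ∃ θ : K ⟶ cokernel (g ≫ ψ), Nonempty (cokernel θ ≅ cokernel ψ) := by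
  let p : T ⟶ cokernel (g ≫ ψ) := cokernel.π _
  have hz : g ≫ ψ ≫ p = 0 := by rw [← Category.assoc]; exact cokernel.condition _
  let θ : K ⟶ cokernel (g ≫ ψ) := h.desc (ψ ≫ p) hz
  have hθ : d ≫ θ = ψ ≫ p := h.g_desc _ _
  let q : T ⟶ cokernel θ := p ≫ cokernel.π θ
  have hq : ψ ≫ q = 0 := by rw [← Category.assoc, ← hθ, Category.assoc, cokernel.condition, comp_zero]
  let r : cokernel (g ≫ ψ) ⟶ cokernel ψ :=
    cokernel.desc _ (cokernel.π ψ) (by rw [Category.assoc, cokernel.condition, comp_zero])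
  have hr : θ ≫ r = 0 := by
    rw [← cancel_epi d, comp_zero, ← Category.assoc, hθ, Category.assoc, cokernel.π_desc, cokernel.condition]
  exact ⟨θ, ⟨{ hom := cokernel.desc θ r hr
               inv := cokernel.desc ψ q hq
               hom_inv_id := by
                 rw [← cancel_epi (cokernel.π θ), cokernel.π_desc_assoc, ← cancel_epi (cokernel.π (g ≫ ψ)),
                   cokernel.π_desc_assoc, cokernel.π_desc, Category.comp_id]
               inv_hom_id := by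
                 rw [← cancel_epi (cokernel.π ψ), cokernel.π_desc_assoc, Category.comp_id]
                 show (p ≫ cokernel.π θ) ≫ cokernel.desc θ r hr = cokernel.π ψ
                 rw [Category.assoc, cokernel.π_desc, cokernel.π_desc] }⟩⟩

section alg

variable {𝔜 : FSch.Sys.{u}} (h𝔜 : 𝔜.IsLocNoethFormal)

/-- every map to an ind-coherent module has ind-coherent cokernel -/
def CokLim (X : FSch.ModF 𝔜 h𝔜.1) : Prop :=
  ∀ (T : FSch.ModF 𝔜 h𝔜.1) (ψ : X ⟶ T), LimPres h𝔜 T → LimPres h𝔜 (cokernel ψ)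

variable {h𝔜} {A X B C : FSch.ModF 𝔜 h𝔜.1} {g : A ⟶ X} {δ : X ⟶ B} {b : B ⟶ C} {w₁ : g ≫ δ = 0} {w₂ : δ ≫ b = 0}
  (h₁ : (ShortComplex.mk g δ w₁).Exact) (h₂ : (ShortComplex.mk δ b w₂).Exact)
  (hA : LimPres h𝔜 A) (hB : LimPres h𝔜 B) (hC : LimPres h𝔜 C)

include h₁ h₂ hA hB hC in
theorem cokLim_middle : CokLim h𝔜 X := fun T ψ hT => by
  let δ' : X ⟶ kernel b := kernel.lift b δ w₂
  haveI : Epi δ' := h₂.epi_kernelLift
  have h₁' : (ShortComplex.mk g δ' (by rw [← cancel_mono (kernel.ι b)]; simp [δ', w₁])).Exact := by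
    let φ : ShortComplex.mk g δ' (by rw [← cancel_mono (kernel.ι b)]; simp [δ', w₁]) ⟶ ShortComplex.mk g δ w₁ :=
      { τ₁ := 𝟙 _, τ₂ := 𝟙 _, τ₃ := kernel.ι b, comm₁₂ := by simp, comm₂₃ := by simp [δ'] }
    exact (ShortComplex.exact_iff_of_epi_of_isIso_of_mono φ).2 h₁
  obtain ⟨θ, ⟨e⟩⟩ := exists_cokernel_iso h₁' ψ
  exact limPres_of_iso e (limPres_cokernel (h𝔛 := h𝔜) θ (limPres_kernel (h𝔛 := h𝔜) b hB hC)
    (limPres_cokernel (h𝔛 := h𝔜) (g ≫ ψ) hA hT))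

variable [CompactSpace (𝔜.X 0)] {A' : FSch.ModF 𝔜 h𝔜.1} {g₀ : A' ⟶ A} {w₀ : g₀ ≫ g = 0}
  (h₀ : (ShortComplex.mk g₀ g w₀).Exact) (hA' : CokLim h𝔜 A')

include h₀ h₁ h₂ hA hB hC hA' in
theorem limPres_middle : LimPres h𝔜 X := by
  let i : cokernel g₀ ⟶ X := cokernel.desc g₀ g w₀
  haveI : Mono i := h₀.mono_cokernelDesc
  have hid : i ≫ δ = 0 := by rw [← cancel_epi (cokernel.π g₀)]; simp [i, w₁]
  refine limPres_five h𝔜 (ComposableArrows.mk₄ (0 : cokernel g₀ ⟶ cokernel g₀) i δ b) ?_ (hA' A g₀ hA) (hA' A g₀ hA) hB hC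
  refine ComposableArrows.exact_of_δ₀ (ComposableArrows.exact₂_mk _ (by simp) ?_)
    (ComposableArrows.exact_of_δ₀ (ComposableArrows.exact₂_mk _ hid ?_) (ComposableArrows.exact₂_mk _ w₂ h₂))
  · exact (ShortComplex.exact_iff_mono _ rfl).2 ‹Mono i›
  · let φ : ShortComplex.mk g δ w₁ ⟶ ShortComplex.mk i δ hid :=
      { τ₁ := cokernel.π g₀, τ₂ := 𝟙 _, τ₃ := 𝟙 _, comm₁₂ := by simp [i], comm₂₃ := by simp }
    exact (ShortComplex.exact_iff_of_epi_of_isIso_of_mono φ).1 h₁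

end alg

variable {𝔛 𝔜 : FSch.Sys.{u}} (h𝔛 : 𝔛.IsLocNoethFormal) (h𝔜 : 𝔜.IsLocNoethFormal)
  [CompactSpace (𝔛.X 0)] [CompactSpace (𝔜.X 0)] (f : 𝔛 ⟶ 𝔜)
  [HasInjectiveResolutions (FSch.ModF 𝔛 h𝔛.1)]

attribute [local instance] HasDerivedCategory.standard

variable [SiteCmp.HasRpushD (FSch.homMor f h𝔛.1 h𝔜.1)]

theorem limPres_rpush_coprod (q : ℕ) {T : Type u} (M : T → FSch.ModF 𝔛 h𝔛.1)
    (hI : ∀ t, (Ind h𝔛) (M t)) (hq : ∀ t, LimPres h𝔜 ((FSch.RpushF f h𝔛.1 h𝔜.1 q).obj (M t))) :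
    LimPres h𝔜 ((FSch.RpushF f h𝔛.1 h𝔜.1 q).obj (∐ M)) := by
  haveI : IsGrothendieckAbelian.{u} (FSch.ModF 𝔛 h𝔛.1) := KFlat.isGrothendieck _
  haveI : IsGrothendieckAbelian.{u} (FSch.ModF 𝔜 h𝔜.1) := KFlat.isGrothendieck _
  haveI := hasCoproducts_D (A := FSch.ModF 𝔛 h𝔛.1) T
  haveI := hasCoproducts_D (A := FSch.ModF 𝔜 h𝔜.1) T
  let F := FSch.homMor f h𝔛.1 h𝔜.1
  let R := SiteCmp.RpushD F
  let H := DerivedCategory.homologyFunctor (FSch.ModF 𝔜 h𝔜.1) (q : ℤ)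
  let S₀ := DerivedCategory.singleFunctor (FSch.ModF 𝔛 h𝔛.1) 0
  let S := HomologicalComplex.single (FSch.ModF 𝔛 h𝔛.1) (ComplexShape.up ℤ) 0
  let K := fun t => S₀.obj (M t)
  have hK : ∀ t, IndCohD h𝔛 (K t) := fun t i => by
    rcases eq_or_ne i 0 with rfl | hi
    · exact (Ind h𝔛).prop_of_iso ((DerivedCategory.singleFunctorCompHomologyFunctorIso _ 0).app (M t)).symm (hI t)
    · obtain ⟨Z, hZ, hc⟩ := isCohF_zero h𝔛
      refine (Ind h𝔛).prop_of_iso (hZ.iso ?_) (ind_of_limPres (limPres_of_coh h𝔛 hc))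
      rcases lt_or_gt_of_ne hi with hi | hi
      · exact DerivedCategory.isZero_of_isGE (K t) 0 i hi
      · exact DerivedCategory.isZero_of_isLE (K t) 0 i hi
  haveI := preservesColimit_rpush_ind h𝔛 h𝔜.1 f K hK
  haveI := preservesCoproducts_HD (A := FSch.ModF 𝔜 h𝔜.1) T (q : ℤ)
  let e' : ∀ t, DerivedCategory.Q.obj (S.obj (M t)) ≅ K t := fun t =>
    ((DerivedCategory.singleFunctorIsoCompQ (FSch.ModF 𝔛 h𝔛.1) 0).app (M t)).symm
  obtain ⟨hc⟩ := exists_coprod_cofan K (fun t => S.obj (M t)) e'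
  let eK : S₀.obj (∐ M) ≅ ∐ K :=
    (DerivedCategory.singleFunctorIsoCompQ (FSch.ModF 𝔛 h𝔛.1) 0).app _ ≪≫
      DerivedCategory.Q.mapIso (PreservesCoproduct.iso S M) ≪≫ hc.coconePointUniqueUpToIso (coproductIsCoproduct K)
  exact limPres_of_iso ((Limits.Sigma.mapIso fun t => (RPushSite.nonempty_homology_single F (M t) q).some.symm) ≪≫
    (PreservesCoproduct.iso H fun t => R.obj (K t)).symm ≪≫
      H.mapIso ((PreservesCoproduct.iso R K).symm ≪≫ R.mapIso eK.symm) ≪≫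
        (RPushSite.nonempty_homology_single F (∐ M) q).some) (limPres_sigma _ hq)

theorem exists_epi_coprod {K : FSch.ModF 𝔛 h𝔛.1} (hK : LimPres h𝔛 K) :
    ∃ (T : Type u) (M : T → FSch.ModF 𝔛 h𝔛.1) (π : (∐ M) ⟶ K), Epi π ∧ ∀ t, FSch.IsCohF 𝔛 h𝔛.1 (M t) := by
  haveI : IsGrothendieckAbelian.{u} (FSch.ModF 𝔛 h𝔛.1) := KFlat.isGrothendieck _
  obtain ⟨J, _, _, pres, hc, -⟩ := hK
  refine ⟨J, fun j => pres.diag.obj j, Sigma.desc fun j => pres.ι.app j, ?_, hc⟩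
  refine ⟨fun {Z} a b hab => pres.isColimit.hom_ext fun j => ?_⟩
  have := congrArg (fun x => Sigma.ι (fun j => pres.diag.obj j) j ≫ x) hab
  simp only [Sigma.ι_desc_assoc] at this
  exact this

variable (hf : FSch.IsProperHom f)

include hf in
theorem limPres_rpush (q : ℕ) (K : FSch.ModF 𝔛 h𝔛.1) (hK : LimPres h𝔛 K) :
    LimPres h𝔜 ((FSch.RpushF f h𝔛.1 h𝔜.1 q).obj K) := by
  haveI : IsGrothendieckAbelian.{u} (FSch.ModF 𝔛 h𝔛.1) := KFlat.isGrothendieck _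
  obtain ⟨d, hd⟩ := exists_rpush_bound (h𝔜 := h𝔜) (h𝔛 := h𝔛) f
  let P := FSch.pushF f h𝔛.1 h𝔜.1
  haveI : P.IsRightAdjoint := (FSch.homMor f h𝔛.1 h𝔜.1).adj.isRightAdjoint
  haveI : P.Additive := Functor.additive_of_preserves_binary_products _
  suffices h : ∀ (k q : ℕ), d + 1 ≤ q + k → ∀ K, LimPres h𝔛 K → LimPres h𝔜 ((P.rightDerived q).obj K) from
    h (d + 1) q (Nat.le_add_left _ _) K hK
  intro k
  induction k with
  | zero =>
    intro q hq K hK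
    obtain ⟨Z, hZ, hc⟩ := isCohF_zero h𝔜
    exact limPres_of_iso (hZ.iso (hd K (ind_of_limPres hK) q (by omega))) (limPres_of_coh h𝔜 hc)
  | succ k ih =>
    intro q hq
    have hcop : ∀ {T : Type u} (M : T → FSch.ModF 𝔛 h𝔛.1), (∀ t, FSch.IsCohF 𝔛 h𝔛.1 (M t)) →
        ∀ p, LimPres h𝔜 ((P.rightDerived p).obj (∐ M)) := fun M hM p =>
      limPres_rpush_coprod h𝔛 h𝔜 f p M (fun t => ind_of_limPres (limPres_of_coh h𝔛 (hM t)))
        fun t => limPres_of_coh h𝔜 (isCohF_rpush h𝔛 h𝔜 f hf _ (hM t) p)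
    have step : ∀ K, LimPres h𝔛 K → CokLim h𝔜 ((P.rightDerived q).obj K) := by
      intro K hK
      obtain ⟨T, M, π, hπ, hM⟩ := exists_epi_coprod h𝔛 hK
      haveI := hπ
      let S : ShortComplex (FSch.ModF 𝔛 h𝔛.1) := ShortComplex.mk (kernel.ι π) π (kernel.condition π)
      have hS : S.ShortExact := { exact := ShortComplex.exact_kernel π, mono_f := inferInstanceAs (Mono (kernel.ι π)), epi_g := hπ }
      have hK' : LimPres h𝔛 (kernel π) :=
        limPres_kernel (h𝔛 := h𝔛) π (limPres_sigma M fun t => limPres_of_coh h𝔛 (hM t)) hK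
      exact cokLim_middle (RDerLib.exact₃ P (RDerLib.res hS) q (q + 1) rfl)
        (RDerLib.exact₁ P (RDerLib.res hS) q (q + 1) rfl) (hcop M hM q) (ih (q + 1) (by omega) _ hK')
        (hcop M hM (q + 1))
    intro K hK
    obtain ⟨T, M, π, hπ, hM⟩ := exists_epi_coprod h𝔛 hK
    haveI := hπ
    let S : ShortComplex (FSch.ModF 𝔛 h𝔛.1) := ShortComplex.mk (kernel.ι π) π (kernel.condition π)
    have hS : S.ShortExact := { exact := ShortComplex.exact_kernel π, mono_f := inferInstanceAs (Mono (kernel.ι π)), epi_g := hπ }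
    have hK' : LimPres h𝔛 (kernel π) :=
      limPres_kernel (h𝔛 := h𝔛) π (limPres_sigma M fun t => limPres_of_coh h𝔛 (hM t)) hK
    exact limPres_middle (RDerLib.exact₃ P (RDerLib.res hS) q (q + 1) rfl)
      (RDerLib.exact₁ P (RDerLib.res hS) q (q + 1) rfl) (hcop M hM q) (ih (q + 1) (by omega) _ hK')
      (hcop M hM (q + 1)) (RDerLib.exact₂ P (RDerLib.res hS) q) (step _ hK')

include hf in
theorem ind_hmod (K : DerivedCategory (FSch.ModF 𝔛 h𝔛.1)) (hK : ∀ i : ℤ, Ind h𝔛 (SiteCmp.HMod K i)) (j : ℤ) :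
    Ind h𝔜 (SiteCmp.HMod ((SiteCmp.RpushD (FSch.homMor f h𝔛.1 h𝔜.1)).obj K) j) := by
  haveI := isWeakSerre_ind h𝔛
  haveI := isWeakSerre_ind h𝔜
  exact prop_hmod_rpush h𝔛 h𝔜 f (Ind h𝔛) (Ind h𝔜) le_rfl
    (fun F hF q => ind_of_limPres (limPres_rpush h𝔛 h𝔜 f hf q F (limPres_of_ind h𝔛 hF))) K hK j

end Groth.Agent.FSProper
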