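import Groth.Agent.FSProper.RpushPre
import Groth.Agent.GrothSS.CompAcyclicNat
import Groth.Agent.FSchCoh.LevelRpush
import Groth.Agent.FSchCoh.RpushVanish

/-!
# Higher direct images on formal schemes as sheafified cohomology presheaves; those of levels
-/

set_option autoImplicit false
set_option backward.isDefEq.respectTransparency false
set_option backward.isDefEq.respectTransparency.types false
set_option linter.style.haveILetI false
set_option maxHeartbeats 1000000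

universe u

open CategoryTheory CategoryTheory.Limits AlgebraicGeometry TopologicalSpace Opposite
open Groth.Agent.SiteCoh

noncomputable section

namespace Groth.Agent.FSProper

variable {𝔛 𝔜 : FSch.Sys.{u}} (f : 𝔛 ⟶ 𝔜) (h𝔛 : 𝔛.IsFormal) (h𝔜 : 𝔜.IsFormal)
  [HasInjectiveResolutions (FSch.ModF 𝔛 h𝔛)]

/-- The map of spaces. -/
abbrev f0 : TopCat.of (𝔛.X 0) ⟶ TopCat.of (𝔜.X 0) := ((f : FSch.Hom 𝔛 𝔜).app 0).base

/-- The direct image of abelian sheaves. -/
abbrev pushA := CohSite.push (Opens.grothendieckTopology (𝔛.X 0)) (Opens.grothendieckTopology (𝔜.X 0))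
  (Opens.map (f0 f))

theorem isZero_rpushA_flasque (G : Sheaf (Opens.grothendieckTopology (𝔛.X 0)) AddCommGrpCat.{u})
    [TopCat.Sheaf.IsFlasque (X := TopCat.of (𝔛.X 0)) G] (q : ℕ) :
    IsZero (((pushA f).rightDerived (q + 1)).obj G) :=
  SiteCoh.isZero_rpush_of_acyclic (Opens.map (f0 f)) (q + 1) fun V =>
    SiteCoh.flasque_acyclic G ((Opens.map (f0 f)).obj V) q

/-- **Higher direct images are the sheafified cohomology presheaves**, naturally in the module. -/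
theorem nonempty_rpushF_iso (q : ℕ) :
    Nonempty (FSch.RpushF f h𝔛 h𝔜 q ⋙ SheafOfModules.toSheaf.{u} (ModSite.ringSh (𝔜.Osh h𝔜)) ≅
      (SheafOfModules.toSheaf.{u} (ModSite.ringSh (𝔛.Osh h𝔛)) ⋙ PH (f0 f) q) ⋙
        presheafToSheaf (Opens.grothendieckTopology (𝔜.X 0)) AddCommGrpCat.{u}) := by
  let T := SheafOfModules.toSheaf.{u} (ModSite.ringSh (𝔛.Osh h𝔛))
  let T' := SheafOfModules.toSheaf.{u} (ModSite.ringSh (𝔜.Osh h𝔜))
  have : PreservesFiniteColimits T := CohQC.toSheaf_preservesFiniteColimits (ModSite.ringSh (𝔛.Osh h𝔛))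
  have : PreservesFiniteColimits T' := CohQC.toSheaf_preservesFiniteColimits (ModSite.ringSh (𝔜.Osh h𝔜))
  have : T'.PreservesHomology := Functor.preservesHomologyOfExact T'
  let P := FSch.pushF f h𝔛 h𝔜
  haveI : P.IsRightAdjoint := (FSch.homMor f h𝔛 h𝔜).adj.isRightAdjoint
  haveI : P.Additive := Functor.additive_of_preserves_binary_products _
  haveI : IsGrothendieckAbelian.{u} (FSch.ModF 𝔛 h𝔛) := KFlat.isGrothendieck _
  haveI : EnoughInjectives (FSch.ModF 𝔛 h𝔛) := inferInstance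
  let sq : P ⋙ T' ≅ T ⋙ pushA f := NatIso.ofComponents (fun _ => Iso.refl _) fun _ => by simp; rfl
  let A := Sheaf.cohomologyPresheafFunctor (Opens.grothendieckTopology (𝔛.X 0)) q
  let B := (Functor.whiskeringLeft (Opens (𝔜.X 0))ᵒᵖ (Opens (𝔛.X 0))ᵒᵖ AddCommGrpCat.{u}).obj
    (Opens.map (f0 f)).op
  let C := presheafToSheaf (Opens.grothendieckTopology (𝔜.X 0)) AddCommGrpCat.{u}
  let i : T ⋙ A ⋙ B ⋙ C ≅ (T ⋙ PH (f0 f) q) ⋙ C :=
    Functor.isoWhiskerLeft T (Functor.associator A B C).symm ≪≫ (Functor.associator T (A ⋙ B) C).symm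
  obtain ⟨c⟩ := GrothSS.nonempty_rightDerived_comp_acyclic_nat (G := T) (S := pushA f)
    (fun Q hQ k => by
      haveI := hQ
      haveI := FSchCoh.isFlasque_toAb_injective (X := TopCat.of (𝔛.X 0)) (𝔛.Osh h𝔛) Q
      exact isZero_rpushA_flasque f (ModSite.toAb Q) k) q
  exact ⟨(W7SiteFunctor.rightDerivedCompExactIso P T' q).symm ≪≫ GrothSS.rightDerivedMapIso sq q ≪≫ c ≪≫
    Functor.isoWhiskerLeft T (W7SiteFunctor.rpushNatIso (J := Opens.grothendieckTopology (𝔛.X 0))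
      (Opens.grothendieckTopology (𝔜.X 0)) (Opens.map (f0 f)) q) ≪≫ i⟩

/-- The higher direct image of abelian sheaves of a module. -/
theorem nonempty_rpushA_toAb_iso (q : ℕ) (M : FSch.ModF 𝔛 h𝔛) :
    Nonempty ((CohSite.Rpush (Opens.grothendieckTopology (𝔛.X 0)) (Opens.grothendieckTopology (𝔜.X 0))
        (Opens.map (f0 f)) q).obj (ModSite.toAb M) ≅ ModSite.toAb ((FSch.RpushF f h𝔛 h𝔜 q).obj M)) := by
  obtain ⟨e⟩ := nonempty_rpushF_iso f h𝔛 h𝔜 q
  exact ⟨(W7SiteFunctor.rpushNatIso (J := Opens.grothendieckTopology (𝔛.X 0))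
      (Opens.grothendieckTopology (𝔜.X 0)) (Opens.map (f0 f)) q).app _ ≪≫ (e.app M).symm⟩

end Groth.Agent.FSProper

namespace Groth.Agent.FSProper

variable {𝔛 𝔜 : FSch.Sys.{u}} (f : 𝔛 ⟶ 𝔜) (h𝔛 : 𝔛.IsLocNoethFormal) (h𝔜 : 𝔜.IsLocNoethFormal)
  [HasInjectiveResolutions (FSch.ModF 𝔛 h𝔛.1)]

set_option maxHeartbeats 4000000 in
/-- Higher direct images of the levels are higher direct images on the levels, naturally. -/
theorem nonempty_rpush_level_natIso (n : ℕ) [HasInjectiveResolutions (𝔛.X n).Modules] (q : ℕ) :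
    Nonempty ((FSch.levelMor 𝔛 h𝔛.1 n).push ⋙ FSch.RpushF f h𝔛.1 h𝔜.1 q ≅
      Coh.Rpush ((f : FSch.Hom 𝔛 𝔜).app n) q ⋙ (FSch.levelMor 𝔜 h𝔜.1 n).push) := by
  let P := FSch.pushF f h𝔛.1 h𝔜.1
  let P' := Coh.push ((f : FSch.Hom 𝔛 𝔜).app n)
  let L := (FSch.levelMor 𝔛 h𝔛.1 n).push
  let L' := (FSch.levelMor 𝔜 h𝔜.1 n).push
  haveI : P.IsRightAdjoint := (FSch.homMor f h𝔛.1 h𝔜.1).adj.isRightAdjoint
  haveI : P.Additive := Functor.additive_of_preserves_binary_products _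
  haveI : PreservesFiniteLimits P := inferInstance
  haveI : P'.IsRightAdjoint := (Scheme.Modules.pullbackPushforwardAdjunction ((f : FSch.Hom 𝔛 𝔜).app n)).isRightAdjoint
  haveI : P'.Additive := Functor.additive_of_preserves_binary_products _
  haveI : L.IsRightAdjoint := (FSch.levelMor 𝔛 h𝔛.1 n).adj.isRightAdjoint
  haveI : L.Additive := Functor.additive_of_preserves_binary_products _
  haveI : PreservesFiniteLimits L := inferInstance
  haveI : L'.IsRightAdjoint := (FSch.levelMor 𝔜 h𝔜.1 n).adj.isRightAdjoint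
  haveI : L'.Additive := Functor.additive_of_preserves_binary_products _
  haveI : PreservesFiniteColimits L := (L.preservesFiniteColimits_tfae.out 0 3 rfl rfl).1 fun S hS => by
    obtain ⟨w, hT⟩ := FSchCoh.shortExact_level h𝔛 n hS
    exact ⟨hT.exact, hT.epi_g⟩
  haveI : PreservesFiniteColimits L' := (L'.preservesFiniteColimits_tfae.out 0 3 rfl rfl).1 fun S hS => by
    obtain ⟨w, hT⟩ := FSchCoh.shortExact_level h𝔜 n hS
    exact ⟨hT.exact, hT.epi_g⟩
  haveI : L'.PreservesHomology := Functor.preservesHomologyOfExact L'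
  haveI : IsGrothendieckAbelian.{u} (ModSite.Mod (𝔛.X n).sheaf) := KFlat.isGrothendieck _
  haveI : EnoughInjectives (𝔛.X n).Modules :=
    show EnoughInjectives (ModSite.Mod (𝔛.X n).sheaf) from inferInstance
  obtain ⟨c⟩ := GrothSS.nonempty_rightDerived_comp_acyclic_nat (G := L) (S := P) (fun Q hQ k => by
    haveI := hQ
    haveI := FSchCoh.isFlasque_toAb_injective (X := TopCat.of (𝔛.X n)) (𝔛.X n).sheaf Q
    haveI : TopCat.Sheaf.IsFlasque (X := TopCat.of (𝔛.X 0)) (ModSite.toAb (L.obj Q)) :=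
      { epi := fun {U V} i => TopCat.Presheaf.IsFlasque.epi (F := (ModSite.toAb (show ModSite.Mod (𝔛.X n).sheaf from Q)).obj)
          ((Opens.map (𝔛.gInv h𝔛.1 n)).map i.unop).op }
    obtain ⟨e⟩ := nonempty_rpushA_toAb_iso f h𝔛.1 h𝔜.1 (k + 1) (L.obj Q)
    have hz : IsZero (ModSite.toAb ((FSch.RpushF f h𝔛.1 h𝔜.1 (k + 1)).obj (L.obj Q))) :=
      (isZero_rpushA_flasque f (ModSite.toAb (L.obj Q)) k).of_iso e.symm
    exact (IsZero.iff_id_eq_zero _).2 ((SheafOfModules.toSheaf.{u} (ModSite.ringSh (𝔜.Osh h𝔜.1))).map_injective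
      (hz.eq_of_src _ _))) q
  exact ⟨c.symm ≪≫ GrothSS.rightDerivedMapIso (FSch.lvPushSq f h𝔛.1 h𝔜.1 n) q ≪≫
    W7SiteFunctor.rightDerivedCompExactIso P' L' q⟩

variable (hf : FSch.IsProperHom f) (n : ℕ) (G : (𝔛.X n).Modules) (hG : Coh.IsCoh G)

include hf hG in
/-- Higher direct images of coherent modules of a level are coherent modules of the level. -/
theorem exists_rpush_level_coh (q : ℕ) : ∃ H : (𝔜.X n).Modules, Coh.IsCoh H ∧
    Nonempty ((FSch.RpushF f h𝔛.1 h𝔜.1 q).obj ((FSch.levelMor 𝔛 h𝔛.1 n).push.obj G) ≅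
      (FSch.levelMor 𝔜 h𝔜.1 n).push.obj H) := by
  haveI := hf.2
  haveI : IsLocallyNoetherian (𝔜.X n) := h𝔜.2.2 n
  haveI := FSchCoh.isProper_app h𝔛 h𝔜.1 f n
  haveI : IsGrothendieckAbelian.{u} (ModSite.Mod (𝔛.X n).sheaf) := KFlat.isGrothendieck _
  haveI : HasInjectiveResolutions (𝔛.X n).Modules :=
    show HasInjectiveResolutions (ModSite.Mod (𝔛.X n).sheaf) from inferInstance
  obtain ⟨c⟩ := nonempty_rpush_level_natIso f h𝔛 h𝔜 n q
  exact ⟨_, CohFinite.isCoh_rpush _ G hG q, ⟨c.app G⟩⟩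

include h𝔜 hf hG in
/-- Sheafified cohomology of a coherent module of a level has the cohomology as sections over affines. -/
theorem bijective_toSheafify_level (q : ℕ) {V : (𝔜.X 0).Opens} (hV : IsAffineOpen V) :
    Function.Bijective ((toSheafify (Opens.grothendieckTopology (𝔜.X 0))
      ((PH (f0 f) q).obj (ModSite.toAb ((FSch.levelMor 𝔛 h𝔛.1 n).push.obj G)))).app (op V)) := by
  refine bijective_toSheafify_PH (f0 f) (B := {V : (𝔜.X 0).Opens | IsAffineOpen V})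
    (Scheme.isBasis_affineOpens _) _ (fun m V' hV' => ?_) q hV
  obtain ⟨H, hH, ⟨e⟩⟩ := exists_rpush_level_coh f h𝔛 h𝔜 hf n G hG m
  obtain ⟨e'⟩ := nonempty_rpushA_toAb_iso f h𝔛.1 h𝔜.1 m ((FSch.levelMor 𝔛 h𝔛.1 n).push.obj G)
  refine acyc_of_iso (e' ≪≫ (SheafOfModules.toSheaf _).mapIso e).symm fun p => ?_
  haveI : H.IsQuasicoherent := hH.1
  exact FSchCoh.hu_level_push_vanish 𝔜 h𝔜.1 n H hV' p

end Groth.Agent.FSProper
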