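import Groth.Agent.SiteCoh.AcyclicCx
import Groth.Agent.SiteCoh.DirectTop
import Groth.Agent.CohQC.AcycResolution
import Groth.Agent.W7SiteFunctor.RpushNat
import Groth.Agent.ProjCech.CompareNat

/-!
# Sections of sheafified cohomology presheaves on a basis of acyclic opens
-/

set_option autoImplicit false
set_option backward.isDefEq.respectTransparency false
set_option backward.isDefEq.respectTransparency.types false
set_option linter.style.haveILetI false
set_option maxHeartbeats 1000000

universe u

open CategoryTheory CategoryTheory.Limits Opposite TopologicalSpace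
open Groth.Agent.SiteCoh

noncomputable section

namespace Groth.Agent.FSProper

variable {X Y : TopCat.{u}} (g : X ⟶ Y)

/-- Cohomology of the inverse images of the opens, as a presheaf. -/
def PH (q : ℕ) : CohTop.Ab X ⥤ ((Opens Y)ᵒᵖ ⥤ AddCommGrpCat.{u}) :=
  Sheaf.cohomologyPresheafFunctor (Opens.grothendieckTopology X) q ⋙
    (Functor.whiskeringLeft (Opens Y)ᵒᵖ (Opens X)ᵒᵖ AddCommGrpCat.{u}).obj (Opens.map g).op

lemma PH_map_app {F G : CohTop.Ab X} (f : F ⟶ G) (q : ℕ) (V : Opens Y)
    (c : CohSite.HU F q ((Opens.map g).obj V)) :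
    ((PH g q).map f).app (op V) c = Groth.Agent.ProjCech.huMap ((Opens.map g).obj V) f q c := rfl

section Local

variable {B : Set (Opens Y)} (hB : Opens.IsBasis B) {P Q : (Opens Y)ᵒᵖ ⥤ AddCommGrpCat.{u}} (φ : P ⟶ Q)
  (h : ∀ V ∈ B, Function.Bijective (φ.app (op V)))

include hB h in
/-- A map bijective on a basis is locally bijective. -/
lemma W_of_bijective_basis : (Opens.grothendieckTopology Y).W φ := by
  haveI : Presheaf.IsLocallyInjective (Opens.grothendieckTopology Y) φ := ⟨fun {V} x y hxy z hz => by
    obtain ⟨V', hV', hzV', hle⟩ := Opens.isBasis_iff_nbhd.1 hB hz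
    refine ⟨V', homOfLE hle, (h V' hV').1 ?_, hzV'⟩
    rw [NatTrans.naturality_apply, NatTrans.naturality_apply, hxy]⟩
  haveI : Presheaf.IsLocallySurjective (Opens.grothendieckTopology Y) φ := ⟨fun {V} x z hz => by
    obtain ⟨V', hV', hzV', hle⟩ := Opens.isBasis_iff_nbhd.1 hB hz
    exact ⟨V', homOfLE hle, (h V' hV').2 _, hzV'⟩⟩
  exact (Opens.grothendieckTopology Y).W_of_isLocallyBijective φ

include hB h in
/-- Bijectivity on a basis into a sheaf gives bijectivity of the sheafification map there. -/
lemma bijective_toSheafify_of_basis (hQ : Presheaf.IsSheaf (Opens.grothendieckTopology Y) Q)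
    {V : Opens Y} (hV : V ∈ B) :
    Function.Bijective ((toSheafify (Opens.grothendieckTopology Y) P).app (op V)) := by
  have hW : (Opens.grothendieckTopology Y).W φ := W_of_bijective_basis hB φ h
  haveI : IsIso ((presheafToSheaf (Opens.grothendieckTopology Y) AddCommGrpCat.{u}).map φ) :=
    (GrothendieckTopology.W_iff _ φ).1 hW
  haveI : IsIso (toSheafify (Opens.grothendieckTopology Y) Q) := isIso_toSheafify _ hQ
  let ψ := sheafifyMap (Opens.grothendieckTopology Y) φ ≫ inv (toSheafify (Opens.grothendieckTopology Y) Q)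
  have e : toSheafify _ P ≫ ψ = φ := by
    rw [← Category.assoc, ← toSheafify_naturality, Category.assoc, IsIso.hom_inv_id, Category.comp_id]
  haveI : IsIso (sheafifyMap (Opens.grothendieckTopology Y) φ) :=
    inferInstanceAs (IsIso ((sheafToPresheaf _ _).map ((presheafToSheaf _ _).map φ)))
  haveI : IsIso ψ := inferInstance
  have hψ := ConcreteCategory.bijective_of_isIso (ψ.app (op V))
  exact (hψ.of_comp_iff' _).1 (by
    convert h V hV using 1
    funext x
    exact (ConcreteCategory.congr_hom (NatTrans.congr_app e (op V)) x))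

end Local

variable {B : Set (Opens Y)} (hB : Opens.IsBasis B) (F : CohTop.Ab X)
  (hH : ∀ n, ∀ V ∈ B, Acyc V ((CohSite.Rpush (Opens.grothendieckTopology X) (Opens.grothendieckTopology Y)
    (Opens.map g) n).obj F))

include hB hH in
/-- **Sections of the sheafified cohomology presheaf are cohomology on the acyclic basis.** -/
theorem bijective_toSheafify_PH (q : ℕ) {V : Opens Y} (hV : V ∈ B) :
    Function.Bijective ((toSheafify (Opens.grothendieckTopology Y) ((PH g q).obj F)).app (op V)) := by
  let J := Opens.grothendieckTopology Y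
  let R := injectiveResolution F
  let pu := CohSite.push (Opens.grothendieckTopology X) J (Opens.map g)
  let K := (pu.mapHomologicalComplex (ComplexShape.up ℕ)).obj R.cocomplex
  let Fg := sheafToPresheaf J AddCommGrpCat.{u}
  let Qp := CohQC.preK K
  let W := (Functor.whiskeringLeft (Opens Y)ᵒᵖ (Opens X)ᵒᵖ AddCommGrpCat.{u}).obj (Opens.map g).op
  haveI : W.PreservesHomology := Functor.preservesHomologyOfExact _
  have hK : ∀ V' ∈ B, ∀ n, Acyc V' (K.X n) := fun V' _ n p =>
    push_injective_acyclic g (R.cocomplex.X n) V' p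
  have hKH : ∀ V' ∈ B, ∀ n, Acyc V' (K.homology n) := fun V' hV' n =>
    acyc_of_iso (R.isoRightDerivedObj pu n) (hH n V' hV')
  -- cycles of sheaves are cycles of presheaves
  have hi : ∀ n U', Function.Injective ((CohQC.toPreCycles K n).app U') := fun n U' => by
    have : Mono (K.iCycles n).hom := inferInstanceAs (Mono (Fg.map (K.iCycles n)))
    have h1 : Function.Injective ((K.iCycles n).hom.app U') := (AddCommGrpCat.mono_iff_injective _).mp inferInstance
    refine Function.Injective.of_comp (f := (Qp.iCycles n).app U') ?_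
    intro a b hab
    have e := fun x => ConcreteCategory.congr_hom (NatTrans.congr_app (CohQC.toPreCycles_i K n) U') x
    exact h1 ((e a).symm.trans (hab.trans (e b)))
  have hs : ∀ n U', Function.Surjective ((CohQC.toPreCycles K n).app U') := fun n U' z => by
    have hd : (K.d n (n + 1)).hom.app U' ((Qp.iCycles n).app U' z) = 0 :=
      ConcreteCategory.congr_hom (NatTrans.congr_app (Qp.iCycles_d n (n + 1)) U') z
    obtain ⟨y, hy⟩ := exists_cycle_section (U := U'.unop) K n _ hd
    refine ⟨y, (AddCommGrpCat.mono_iff_injective ((Qp.iCycles n).app U')).mp inferInstance ?_⟩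
    exact (ConcreteCategory.congr_hom (NatTrans.congr_app (CohQC.toPreCycles_i K n) U') y).trans hy
  haveI hiso : ∀ n, IsIso (CohQC.toPreCycles K n) := fun n => by
    have : ∀ U', IsIso ((CohQC.toPreCycles K n).app U') := fun U' =>
      (ConcreteCategory.isIso_iff_bijective _).2 ⟨hi n U', hs n U'⟩
    exact NatIso.isIso_of_isIso_app _
  let p := (ComplexShape.up ℕ).prev q
  have hw : Qp.toCycles p q ≫ (inv (CohQC.toPreCycles K q) ≫ Fg.map (K.homologyπ q)) = 0 := by
    have e : Qp.toCycles p q = Fg.map (K.toCycles p q) ≫ CohQC.toPreCycles K q := by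
      rw [← cancel_mono (Qp.iCycles q), Category.assoc, CohQC.toPreCycles_i, HomologicalComplex.toCycles_i]
      exact (congrArg Fg.map (K.toCycles_i p q)).symm.trans (Fg.map_comp _ _)
    rw [e, Category.assoc, IsIso.hom_inv_id_assoc, ← Functor.map_comp, K.toCycles_comp_homologyπ, Functor.map_zero]
  let c : Qp.homology q ⟶ Fg.obj (K.homology q) :=
    (Qp.homologyIsCokernel p q rfl).desc (CokernelCofork.ofπ _ hw)
  have hc : ∀ U' y, c.app U' ((Qp.homologyπ q).app U' ((CohQC.toPreCycles K q).app U' y)) =
      (K.homologyπ q).hom.app U' y := fun U' y => by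
    have h1 : Qp.homologyπ q ≫ c = inv (CohQC.toPreCycles K q) ≫ Fg.map (K.homologyπ q) :=
      (Qp.homologyIsCokernel p q rfl).fac _ WalkingParallelPair.one
    refine (ConcreteCategory.congr_hom (NatTrans.congr_app h1 U') _).trans ?_
    have h2 := ConcreteCategory.congr_hom (NatTrans.congr_app (IsIso.hom_inv_id (CohQC.toPreCycles K q)) U') y
    exact congrArg ((K.homologyπ q).hom.app U') h2
  have hbij : ∀ V' ∈ B, Function.Bijective (c.app (op V')) := fun V' hV' => by
    have hπ : Function.Surjective ((Qp.homologyπ q).app (op V')) :=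
      (AddCommGrpCat.epi_iff_surjective _).mp inferInstance
    refine ⟨(injective_iff_map_eq_zero _).2 fun x hx => ?_, fun x => ?_⟩
    · obtain ⟨z, rfl⟩ := hπ x
      obtain ⟨y, rfl⟩ := hs q (op V') z
      rw [hc] at hx
      rcases q with _ | m
      · have : y = 0 := (ConcreteCategory.bijective_of_isIso
          ((Fg.map (K.homologyπ 0)).app (op V'))).1 (hx.trans (map_zero _).symm)
        rw [this, map_zero, map_zero]
      · obtain ⟨k, rfl⟩ := homologyπ_eq_zero (U := V') K (hK V' hV') (hKH V' hV') m y hx
        have e : (CohQC.toPreCycles K (m + 1)).app (op V') ((K.toCycles m (m + 1)).hom.app (op V') k) =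
            (Qp.toCycles m (m + 1)).app (op V') k := by
          refine (AddCommGrpCat.mono_iff_injective ((Qp.iCycles (m + 1)).app (op V'))).mp inferInstance ?_
          refine (ConcreteCategory.congr_hom (NatTrans.congr_app (CohQC.toPreCycles_i K (m + 1)) (op V')) _).trans ?_
          refine Eq.trans ?_ (ConcreteCategory.congr_hom (NatTrans.congr_app (Qp.toCycles_i m (m + 1)) (op V')) k).symm
          exact ConcreteCategory.congr_hom (NatTrans.congr_app (congrArg Fg.map (K.toCycles_i m (m + 1))) (op V')) k
        rw [e]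
        exact ConcreteCategory.congr_hom (NatTrans.congr_app (Qp.toCycles_comp_homologyπ m (m + 1)) (op V')) k
    · obtain ⟨y, rfl⟩ := homologyπ_surjective (U := V') K (hK V' hV') (hKH V' hV') q x
      exact ⟨_, hc (op V') y⟩
  let e : (PH g q).obj F ≅ Qp.homology q :=
    W.mapIso (homologyIsoCohomology F q).symm ≪≫ (((preCx R).sc q).mapHomologyIso W).symm
  refine bijective_toSheafify_of_basis hB (e.hom ≫ c) (fun V' hV' => ?_) (K.homology q).property hV
  exact (hbij V' hV').comp (ConcreteCategory.bijective_of_isIso (e.hom.app (op V')))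

end Groth.Agent.FSProper
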