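import Groth.Agent.FSProper.LevelCx
import Groth.Agent.FSProper.Cech
import Groth.Agent.FSchCoh.Vanish
import Groth.Agent.FSchCoh.Pres

/-!
# The Čech complex of a coherent system on a formal scheme over an affine base
-/

set_option autoImplicit false
set_option backward.isDefEq.respectTransparency false
set_option backward.isDefEq.respectTransparency.types false
set_option linter.style.haveILetI false
set_option maxHeartbeats 1000000

universe u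

open CategoryTheory CategoryTheory.Limits AlgebraicGeometry TopologicalSpace Opposite
open Groth.Agent.QC (res resO res_res res_smul app_res res_self)
open Groth.Agent.SiteCoh
open Groth.Agent.FSchCoh (MA ML OA RA JA projM transM projR transR)

noncomputable section

namespace Groth.Agent.FSProper

variable (𝔛 : FSch.Sys.{u}) (h : 𝔛.IsFormal)

/-- The transition to the bottom level. -/
def tau (𝔐 : FSch.ModSys 𝔛) : ∀ k, 𝔐.F k ⟶ (Scheme.Modules.pushforward (𝔛.toX k)).obj (𝔐.F 0)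
  | 0 => (Scheme.Modules.pushforwardId _).inv.app _
  | k + 1 => 𝔐.toPush k ≫ (Scheme.Modules.pushforward (𝔛.ι k)).map (tau 𝔐 k) ≫
      (Scheme.Modules.pushforwardComp (𝔛.toX k) (𝔛.ι k)).hom.app _

lemma tau_succ_app (𝔐 : FSch.ModSys 𝔛) (k : ℕ) (O : (𝔛.X (k + 1)).Opens) (y : Γ(𝔐.F (k + 1), O)) :
    (tau 𝔛 𝔐 (k + 1)).app O y = (tau 𝔛 𝔐 k).app (𝔛.ι k ⁻¹ᵁ O) ((𝔐.toPush k).app O y) := by
  rw [tau]
  rfl

lemma lvU_zero_le (k : ℕ) (V : (𝔛.X 0).Opens) : 𝔛.lvU h 0 V ≤ 𝔛.toX k ⁻¹ᵁ 𝔛.lvU h k V :=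
  (FSchCoh.lvU_toX 𝔛 h k).le

lemma tau_projM (𝔐 : FSch.ModSys 𝔛) (V : (𝔛.X 0).Opens) : ∀ (k : ℕ) (x : ML 𝔛 h 𝔐 V),
    res (𝔐.F 0) (lvU_zero_le 𝔛 h k V) ((tau 𝔛 𝔐 k).app (𝔛.lvU h k V) (projM 𝔛 h 𝔐 V k x)) =
      (show Γ(𝔐.F 0, 𝔛.lvU h 0 V) from projM 𝔛 h 𝔐 V 0 x)
  | 0, x => res_self _ _ _
  | k + 1, x => by
    have hy : res (𝔐.F k) (𝔛.lvU_le h k V) ((𝔐.toPush k).app (𝔛.lvU h (k + 1) V)
        (projM 𝔛 h 𝔐 V (k + 1) x)) = (show Γ(𝔐.F k, 𝔛.lvU h k V) from projM 𝔛 h 𝔐 V k x) :=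
      FSchCoh.transM_projM 𝔛 h 𝔐 V k x
    refine Eq.trans ?_ ((congrArg (fun z => res (𝔐.F 0) (lvU_zero_le 𝔛 h k V) ((tau 𝔛 𝔐 k).app (𝔛.lvU h k V) z))
      hy).trans (tau_projM 𝔐 V k x))
    refine ((congrArg (res (𝔐.F 0) (lvU_zero_le 𝔛 h k V)) (app_res (tau 𝔛 𝔐 k) (𝔛.lvU_le h k V) _).symm).trans ?_).symm
    refine (res_res _ _ _ _).trans ?_
    exact congrArg _ (tau_succ_app 𝔛 𝔐 k _ _).symm

variable {A : Type u} [CommRing A] {W : (𝔛.X 0).Opens} (φ : A →+* OA 𝔛 h W)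

lemma restrictMap_app {X Y : Scheme.{u}} (f : X ⟶ Y) [IsOpenImmersion f] {M N : Y.Modules} (ψ : M ⟶ N)
    (O : X.Opens) : ((Scheme.Modules.restrictFunctor f).map ψ).app O = ψ.app (f ''ᵁ O) := rfl

lemma pushMap_presheaf {X Y : Scheme.{u}} (f : X ⟶ Y) (M : X.Modules) {O O' : Y.Opens} (i : O ⟶ O') :
    ((Scheme.Modules.pushforward f).obj M).presheaf.map i.op = M.presheaf.map ((Opens.map f.base).map i).op := rfl

lemma map_map_map_eq_res {X : Scheme.{u}} (M : X.Modules) {a b c d : X.Opens} (i : op a ⟶ op b) (j : op b ⟶ op c)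
    (l : op c ⟶ op d) (h : d ≤ a) (z : Γ(M, a)) :
    M.presheaf.map l (M.presheaf.map j (M.presheaf.map i z)) = res M h z := by
  rw [← ConcreteCategory.comp_apply, ← ConcreteCategory.comp_apply, ← Functor.map_comp, ← Functor.map_comp]
  rfl

/-- A level over the base open. -/
abbrev Lv (W : (𝔛.X 0).Opens) (k : ℕ) : Scheme.{u} := (𝔛.lvU h k W).toScheme

/-- The structure morphism of a level over the base open. -/
def lvStr (k : ℕ) : Lv 𝔛 h W k ⟶ Spec (CommRingCat.of A) :=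
  (𝔛.lvU h k W).toSpecΓ ≫ Spec.map (CommRingCat.ofHom ((projR 𝔛 h W k).comp φ))

/-- The structure of a level over the base open. -/
abbrev lvOver (k : ℕ) : (Lv 𝔛 h W k).Over (Spec (CommRingCat.of A)) := ⟨lvStr 𝔛 h φ k⟩

lemma ι_image_le (k : ℕ) (O : (Lv 𝔛 h W k).Opens) : (𝔛.lvU h k W).ι ''ᵁ O ≤ 𝔛.lvU h k W :=
  (𝔛.lvU h k W).ι_image_le O

lemma secRing_lv (k : ℕ) (O : (Lv 𝔛 h W k).Opens) (a : A) :
    letI := lvOver 𝔛 h φ k
    W7Cech.secRing A O a =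
      resO (𝔛.X k) (ι_image_le 𝔛 h k O) (projR 𝔛 h W k (φ a)) := by
  letI := lvOver 𝔛 h φ k
  have h1 : Coh.toGlobal (Lv 𝔛 h W k ↘ Spec (CommRingCat.of A)) a =
      (𝔛.lvU h k W).topIso.inv (projR 𝔛 h W k (φ a)) := by
    change ((lvStr 𝔛 h φ k).appTop).hom ((Scheme.ΓSpecIso (CommRingCat.of A)).inv.hom a) = _
    rw [lvStr, Scheme.Hom.comp_appTop, Scheme.Opens.toSpecΓ_appTop]
    have h2 := congr($((Scheme.ΓSpecIso_inv_naturality (CommRingCat.ofHom ((projR 𝔛 h W k).comp φ))).symm).hom a)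
    rw [CommRingCat.comp_apply, CommRingCat.comp_apply]
    refine congrArg _ ?_
    exact (congrArg _ h2).trans (congr($((Scheme.ΓSpecIso Γ(𝔛.X k, 𝔛.lvU h k W)).inv_hom_id).hom (projR 𝔛 h W k (φ a))))
  change resO (Lv 𝔛 h W k) _ (Coh.toGlobal (Lv 𝔛 h W k ↘ Spec (CommRingCat.of A)) a) = _
  rw [h1, Scheme.Opens.topIso_inv]
  change ((𝔛.X k).presheaf.map _ ≫ (𝔛.X k).presheaf.map _).hom _ = _
  rw [← Functor.map_comp]
  rfl

variable (𝔐 : FSch.ModSys 𝔛)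

/-- The restricted module of a level. -/
abbrev Mres (W : (𝔛.X 0).Opens) (k : ℕ) : (Lv 𝔛 h W k).Modules :=
  (Scheme.Modules.restrictFunctor (𝔛.lvU h k W).ι).obj (𝔐.F k)

/-- The immersion of the bottom level over the base open. -/
abbrev cRes (W : (𝔛.X 0).Opens) (k : ℕ) : Lv 𝔛 h W 0 ⟶ Lv 𝔛 h W k :=
  (𝔛.toX k).resLE (𝔛.lvU h k W) (𝔛.lvU h 0 W) (lvU_zero_le 𝔛 h k W)

lemma image_preimage_le (W : (𝔛.X 0).Opens) (k : ℕ) (O : (Lv 𝔛 h W k).Opens) :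
    (𝔛.lvU h 0 W).ι ''ᵁ (cRes 𝔛 h W k ⁻¹ᵁ O) ≤ 𝔛.toX k ⁻¹ᵁ ((𝔛.lvU h k W).ι ''ᵁ O) :=
  (Scheme.Hom.le_resLE_preimage_iff _ _ O _).1 le_rfl

set_option maxHeartbeats 8000000 in
/-- The reduction over the base open. -/
def redMor (W : (𝔛.X 0).Opens) (k : ℕ) :
    Mres 𝔛 h 𝔐 W k ⟶ (Scheme.Modules.pushforward (cRes 𝔛 h W k)).obj (Mres 𝔛 h 𝔐 W 0) :=
  ((Scheme.Modules.restrictAdjunction (𝔛.lvU h k W).ι).homEquiv _ _).symm
    (tau 𝔛 𝔐 k ≫
      (Scheme.Modules.pushforward (𝔛.toX k)).map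
        ((Scheme.Modules.restrictAdjunction (𝔛.lvU h 0 W).ι).unit.app (𝔐.F 0)) ≫
      (Scheme.Modules.pushforwardComp (𝔛.lvU h 0 W).ι (𝔛.toX k)).hom.app _ ≫
      (Scheme.Modules.pushforwardCongr
        (Scheme.Hom.resLE_comp_ι (𝔛.toX k) (lvU_zero_le 𝔛 h k W)).symm).hom.app _ ≫
      (Scheme.Modules.pushforwardComp (cRes 𝔛 h W k) (𝔛.lvU h k W).ι).inv.app _)

set_option maxHeartbeats 8000000 in
lemma redMor_app (W : (𝔛.X 0).Opens) (k : ℕ) (O : (Lv 𝔛 h W k).Opens) (y : Γ(𝔐.F k, (𝔛.lvU h k W).ι ''ᵁ O)) :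
    (redMor 𝔛 h 𝔐 W k).app O y =
      res (𝔐.F 0) (image_preimage_le 𝔛 h W k O) ((tau 𝔛 𝔐 k).app ((𝔛.lvU h k W).ι ''ᵁ O) y) := by
  rw [redMor, Adjunction.homEquiv_counit]
  simp only [Functor.map_comp, Scheme.Modules.Hom.comp_app, ConcreteCategory.comp_apply,
    Scheme.Modules.restrictAdjunction_counit_app_app, restrictMap_app,
    Scheme.Modules.pushforwardComp_inv_app_app, Scheme.Modules.pushforwardComp_hom_app_app,
    Scheme.Modules.pushforward_map_app, Scheme.Modules.restrictAdjunction_unit_app_app,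
    Scheme.Modules.pushforwardCongr_hom_app_app, Scheme.Modules.restrict_map, ConcreteCategory.id_apply]
  generalize (tau 𝔛 𝔐 k).app ((𝔛.lvU h k W).ι ''ᵁ O) y = z
  rw [pushMap_presheaf, Scheme.Modules.restrict_map]
  exact map_map_map_eq_res (𝔐.F 0) _ _ _ _ z

lemma lv_affine {V : (𝔛.X 0).Opens} (e : V ≤ W) (hV : IsAffineOpen V) (k : ℕ) :
    IsAffineOpen ((𝔛.lvU h k W).ι ⁻¹ᵁ 𝔛.lvU h k V) := by
  rw [← Scheme.Hom.isAffineOpen_iff_of_isOpenImmersion (𝔛.lvU h k W).ι, Scheme.Hom.image_preimage_eq_opensRange_inf,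
    Scheme.Opens.opensRange_ι, inf_eq_right.2 ((Opens.map (𝔛.gInv h k)).monotone e)]
  exact FSchAff.isAffineOpen_lvU 𝔛 h hV k

lemma lv_image {V : (𝔛.X 0).Opens} (e : V ≤ W) (k : ℕ) :
    (𝔛.lvU h k W).ι ''ᵁ ((𝔛.lvU h k W).ι ⁻¹ᵁ 𝔛.lvU h k V) = 𝔛.lvU h k V := by
  rw [Scheme.Hom.image_preimage_eq_opensRange_inf, Scheme.Opens.opensRange_ι,
    inf_eq_right.2 ((Opens.map (𝔛.gInv h k)).monotone e)]

lemma appLE_surjective_congr {X Y : Scheme.{u}} (f : X ⟶ Y) {U U' : Y.Opens} {V V' : X.Opens}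
    (hU : U = U') (hV : V = V') (e : V ≤ f ⁻¹ᵁ U) (e' : V' ≤ f ⁻¹ᵁ U')
    (hs : Function.Surjective (f.appLE U V e).hom) : Function.Surjective (f.appLE U' V' e').hom := by
  subst hU hV
  exact hs

lemma toX_appLE_surjective {V : (𝔛.X 0).Opens} (hV : IsAffineOpen V) (k : ℕ) :
    Function.Surjective ((𝔛.toX k).appLE (𝔛.lvU h k V) (𝔛.lvU h 0 V) (lvU_zero_le 𝔛 h k V)).hom := by
  rw [← FSchCoh.ringSys_toZero 𝔛 h hV k]
  exact ThickSys.RingSys.toZero_surjective (FSchCoh.ringSys 𝔛 h hV) k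

section Complex

variable {ι : Type u} (U : ι → (𝔛.X 0).Opens) (hle : ∀ i, U i ≤ W)

/-- The Čech complex of the limit module. -/
abbrev CM : CochainComplex (ModuleCat.{u} A) ℕ :=
  CF (X := (𝔛.X 0).carrier) (O := 𝔛.Osh h) φ U hle (𝔐.realMod h)

/-- The opens on the bottom level. -/
abbrev U0 : ι → (Lv 𝔛 h W 0).Opens := fun i => (𝔛.lvU h 0 W).ι ⁻¹ᵁ 𝔛.lvU h 0 (U i)

lemma tupleProd_U0 {n : ℕ} (a : Fin (n + 1) → ι) :
    tupleProd (U0 𝔛 h U) a = (𝔛.lvU h 0 W).ι ⁻¹ᵁ 𝔛.lvU h 0 (tupleProd U a) := by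
  have h1 := CechX.preimage_tupleProd (𝔛.gInv h 0) U a
  have h2 := CechX.preimage_tupleProd (𝔛.lvU h 0 W).ι.base (fun i => 𝔛.lvU h 0 (U i)) a
  change tupleProd (U0 𝔛 h U) a = (Opens.map (𝔛.lvU h 0 W).ι.base).obj ((Opens.map (𝔛.gInv h 0)).obj (tupleProd U a))
  rw [h1]
  exact h2.symm

/-- The open of a level over an intersection. -/
abbrev Wl (k : ℕ) {n : ℕ} (a : Fin (n + 1) → ι) : (Lv 𝔛 h W k).Opens :=
  (𝔛.lvU h k W).ι ⁻¹ᵁ 𝔛.lvU h k (tupleProd U a)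

/-- The projection to a level, componentwise. -/
def prC (k n : ℕ) (a : Fin (n + 1) → ι) :
    letI := lvOver 𝔛 h φ k
    ((CM 𝔛 h φ 𝔐 U hle).X n : Type u) →ₗ[A] ((W7Cech.secA A (Wl 𝔛 h U k a)).obj (Mres 𝔛 h 𝔐 W k) : Type u) :=
  letI := lvOver 𝔛 h φ k
  { toFun := fun x => (res (𝔐.F k) (lv_image 𝔛 h (tupleProd_le' U hle a) k).le
      (show Γ(𝔐.F k, 𝔛.lvU h k (tupleProd U a)) from projM 𝔛 h 𝔐 (tupleProd U a) k (x a)) :)
    map_add' := fun x y => (congrArg _ (map_add (projM 𝔛 h 𝔐 (tupleProd U a) k) _ _)).trans (map_add _ _ _)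
    map_smul' := fun r x => by
      refine (congrArg (res (𝔐.F k) _) (map_smul (projM 𝔛 h 𝔐 (tupleProd U a) k) (scl φ (tupleProd_le' U hle a) r)
        (show ML 𝔛 h 𝔐 (tupleProd U a) from x a))).trans ?_
      refine (res_smul (𝔐.F k) _ (projR 𝔛 h (tupleProd U a) k (scl φ (tupleProd_le' U hle a) r))
        (show Γ(𝔐.F k, 𝔛.lvU h k (tupleProd U a)) from projM 𝔛 h 𝔐 (tupleProd U a) k (x a))).trans ?_
      refine congrArg (· • _) ?_
      have hid : ∀ z, ((𝔛.lvU h k W).ι.appIso (Wl 𝔛 h U k a)).inv.hom z = z := fun z => by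
        rw [Scheme.Opens.ι_appIso]
        rfl
      refine Eq.trans ?_ ((hid _).trans (secRing_lv 𝔛 h φ k (Wl 𝔛 h U k a) r)).symm
      have hn : projR 𝔛 h (tupleProd U a) k (scl φ (tupleProd_le' U hle a) r) =
          resO (𝔛.X k) ((Opens.map (𝔛.gInv h k)).monotone (tupleProd_le' U hle a)) (projR 𝔛 h W k (φ r)) :=
        congr(($((𝔛.OshProj h k).hom.naturality (homOfLE (tupleProd_le' U hle a)).op)).hom (φ r))
      rw [hn]
      exact QC.resO_resO _ _ _ }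

variable (t : ι → A)

end Complex

end Groth.Agent.FSProper
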