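import Groth.Agent.FSProper.Loc

/-!
# The Mittag-Leffler bound is uniform on basic opens
-/

set_option autoImplicit false
set_option backward.isDefEq.respectTransparency false
set_option backward.isDefEq.respectTransparency.types false
set_option linter.style.haveILetI false
set_option maxHeartbeats 1000000

universe u

open CategoryTheory CategoryTheory.Limits AlgebraicGeometry TopologicalSpace Opposite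
open Groth.Agent.SiteCoh Groth.Agent.ProjCech
open Groth.Agent.FSchCoh (MA ML OA RA JA projM transM projR transR pullSys toReal isIso_toReal isCoh_pullSys)

noncomputable section

namespace Groth.Agent.FSProper

variable (𝔛 : FSch.Sys.{u}) (h𝔛 : 𝔛.IsLocNoethFormal) {A : Type u} [CommRing A] [IsNoetherianRing A]
  {σ : Type u} [Fintype σ] {t : σ → A}
  {ι : Type u} [Finite ι] (U : ι → (𝔛.X 0).Opens) {φ : A →+* OA 𝔛 h𝔛.1 (iSup U)} (𝔐 : FSch.ModSys 𝔛)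
  (hU : ∀ (n : ℕ) (a : Fin (n + 1) → ι), IsAffineOpen (tupleProd U a))
  (hJ : GensIdeal 𝔛 h𝔛 t φ) (hM : 𝔐.IsCoh) (hP : ProperBase 𝔛 h𝔛 φ)

include hU hJ hM hP in
/-- Mittag-Leffler on cochains. -/
theorem ml_cochain (p : ℕ) : ∃ D : ℕ, ∀ (n m : ℕ), n + D ≤ m →
    ∀ x : ((CM 𝔛 h𝔛.1 φ 𝔐 U (le_iSup U)).X p : Type u),
      cp 𝔛 h𝔛 U 𝔐 φ m (p + 1) (((CM 𝔛 h𝔛.1 φ 𝔐 U (le_iSup U)).d p (p + 1)).hom x) = 0 →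
      ∃ y, ((CM 𝔛 h𝔛.1 φ 𝔐 U (le_iSup U)).d p (p + 1)).hom y = 0 ∧
        cp 𝔛 h𝔛 U 𝔐 φ n p y = cp 𝔛 h𝔛 U 𝔐 φ n p x := by
  haveI := fun j => isAdicComplete_CM (φ := φ) (t := t) 𝔛 h𝔛 𝔐 U (le_iSup U) hU hJ hM j
  obtain ⟨D, hD⟩ := exists_lift (J := tI t) (d := ((CM 𝔛 h𝔛.1 φ 𝔐 U (le_iSup U)).d p (p + 1)).hom)
    (d' := ((CM 𝔛 h𝔛.1 φ 𝔐 U (le_iSup U)).d (p + 1) (p + 1 + 1)).hom)
    (congrArg ModuleCat.Hom.hom ((CM 𝔛 h𝔛.1 φ 𝔐 U (le_iSup U)).d_comp_d p (p + 1) (p + 1 + 1)))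
    (grFin_CM 𝔛 h𝔛 𝔐 U (le_iSup U) hU hJ hM rfl hP p (p + 1) (p + 1 + 1)
      (CochainComplex.prev_nat_succ p) (CochainComplex.next ℕ (p + 1)))
  refine ⟨D, fun n m hnm x hx => ?_⟩
  obtain ⟨y, hy, hxy⟩ := hD (n + 1) x
    (fil_anti _ (by omega) ((cp_eq_zero_iff 𝔛 h𝔛 U 𝔐 hU hJ hM m (p + 1) _).1 hx))
  exact ⟨y, hy, (sub_eq_zero.1 ((map_sub _ _ _).symm.trans
    ((cp_eq_zero_iff 𝔛 h𝔛 U 𝔐 hU hJ hM n p _).2 hxy))).symm⟩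

include hU hJ hM hP in
/-- **The bound is uniform on the basic opens.** -/
theorem ml_hu_basic (p : ℕ) : ∃ D : ℕ, ∀ (b : A) (n m : ℕ), n + D ≤ m →
    ∀ g : LF 𝔛 h𝔛 𝔐 m ⟶ LF 𝔛 h𝔛 𝔐 n, lp 𝔛 h𝔛 𝔐 m ≫ g = lp 𝔛 h𝔛 𝔐 n →
    ∀ c, ∃ y, hum (iSup (Ub 𝔛 h𝔛 φ U b)) g p c =
      hum (iSup (Ub 𝔛 h𝔛 φ U b)) (lp 𝔛 h𝔛 𝔐 n) p y := by
  obtain ⟨D, hD⟩ := ml_cochain 𝔛 h𝔛 U 𝔐 hU hJ hM hP p
  refine ⟨D, fun b n m hnm g hg c => ?_⟩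
  have hB : iSup (Ub 𝔛 h𝔛 φ U b) = bop 𝔛 h𝔛 (φ b) :=
    (iSup_inf_eq (fun i => U i) (bop 𝔛 h𝔛 (φ b))).symm.trans (inf_eq_right.2 (bop_le 𝔛 h𝔛 (φ b)))
  let e : iSup (Ub 𝔛 h𝔛 φ U b) ≤ iSup U := hB.le.trans (bop_le 𝔛 h𝔛 (φ b))
  let φ' : A →+* OA 𝔛 h𝔛.1 (iSup (Ub 𝔛 h𝔛 φ U b)) := scl (X := (𝔛.X 0).carrier) (O := 𝔛.Osh h𝔛.1) φ e
  let U' := Ub 𝔛 h𝔛 φ U b
  have hUU : ∀ i, U' i ≤ U i := fun _ => inf_le_left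
  have hU' := affine_Ub 𝔛 h𝔛 φ U b (le_iSup U) hU
  have hb : IsUnit (scl (X := (𝔛.X 0).carrier) (O := 𝔛.Osh h𝔛.1) φ e b) := by
    have h0 := (isUnit_rsR_bop 𝔛 h𝔛 (φ b)).map (RSFin.rsR (O := 𝔛.Osh h𝔛.1) hB.le)
    rwa [RSFin.rsR_rsR] at h0
  obtain ⟨cl, hsurj, -, hnat⟩ := exists_cls (X := (𝔛.X 0).carrier) (O := 𝔛.Osh h𝔛.1) φ' U' (le_iSup U')
    p ((ComplexShape.up ℕ).prev p) (p + 1) rfl (CochainComplex.next ℕ p)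
  have hacF : AcF (X := (𝔛.X 0).carrier) (O := 𝔛.Osh h𝔛.1) U' (𝔐.realMod h𝔛.1) := fun k a q =>
    FSchCoh.realMod_acyclic 𝔛 h𝔛.1 𝔐 hM (hU' k a) q
  have hacL : ∀ k, AcF (X := (𝔛.X 0).carrier) (O := 𝔛.Osh h𝔛.1) U' (LF 𝔛 h𝔛 𝔐 k) := fun k i a q =>
    haveI : (𝔐.F k).IsQuasicoherent := (hM k).1
    FSchCoh.hu_level_push_vanish 𝔛 h𝔛.1 k (𝔐.F k) (hU' i a) q
  let R := fun M j => resC (X := (𝔛.X 0).carrier) (O := 𝔛.Osh h𝔛.1) φ e (le_iSup U) (le_iSup U') hUU M j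
  obtain ⟨⟨z, hz⟩, rfl⟩ := hsurj _ (hacL m) c
  have hloc : IsLocC (X := (𝔛.X 0).carrier) (O := 𝔛.Osh h𝔛.1) φ e (le_iSup U) (le_iSup U') hUU b
      (LF 𝔛 h𝔛 𝔐 m) := isLocC_level 𝔛 h𝔛 φ U (le_iSup U) b hU m (𝔐.F m) (hM m).1
  obtain ⟨N, z₁, hz₁, hzN⟩ := exists_cocycle_extend φ e (le_iSup U) (le_iSup U') hUU (LF 𝔛 h𝔛 𝔐 m)
    hloc p z (LinearMap.mem_ker.1 hz)
  obtain ⟨x, rfl⟩ := cp_surjective 𝔛 h𝔛 U 𝔐 hU hJ hM m p z₁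
  obtain ⟨y, hy, hyx⟩ := hD n m hnm x
    ((CFmap_comm φ U (le_iSup U) (lp 𝔛 h𝔛 𝔐 m) p (p + 1) x).trans hz₁)
  obtain ⟨y', hy'⟩ := (smul_bijective (X := (𝔛.X 0).carrier) (O := 𝔛.Osh h𝔛.1) φ e (U' := U') (le_iSup U')
    (𝔐.realMod h𝔛.1) hb N p).2 (R _ p y)
  have hy'' : ((CF (X := (𝔛.X 0).carrier) (O := 𝔛.Osh h𝔛.1) φ' U' (le_iSup U')
      (𝔐.realMod h𝔛.1)).d p (p + 1)).hom y' = 0 := by
    refine (smul_bijective (X := (𝔛.X 0).carrier) (O := 𝔛.Osh h𝔛.1) φ e (U' := U') (le_iSup U')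
      (𝔐.realMod h𝔛.1) hb N (p + 1)).1 ?_
    refine (map_smul _ (b ^ N) y').symm.trans ((congrArg _ hy').trans ?_)
    refine (resC_d φ e (le_iSup U) (le_iSup U') hUU (𝔐.realMod h𝔛.1) p y).symm.trans ?_
    exact ((congrArg _ hy).trans (map_zero _)).trans (smul_zero _).symm
  refine ⟨cl _ hacF ⟨y', hy''⟩, ?_⟩
  let M' := fun {P Q : FSch.ModF 𝔛 h𝔛.1} (f : P ⟶ Q) (j : ℕ) =>
    ((CFmap (X := (𝔛.X 0).carrier) (O := 𝔛.Osh h𝔛.1) φ' U' (le_iSup U') f).f j).hom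
  have hkey : M' g p z = M' (lp 𝔛 h𝔛 𝔐 n) p y' := by
    refine (smul_bijective (X := (𝔛.X 0).carrier) (O := 𝔛.Osh h𝔛.1) φ e (U' := U') (le_iSup U')
      (LF 𝔛 h𝔛 𝔐 n) hb N p).1 ?_
    refine ((map_smul (M' g p) (b ^ N) z).symm.trans ?_).trans (map_smul (M' (lp 𝔛 h𝔛 𝔐 n) p) (b ^ N) y')
    refine ((congrArg (M' g p) hzN.symm).trans ?_).trans (congrArg (M' (lp 𝔛 h𝔛 𝔐 n) p) hy').symm
    refine ((resC_mapF φ e (le_iSup U) (le_iSup U') hUU g p _).symm.trans ?_).trans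
      (resC_mapF φ e (le_iSup U) (le_iSup U') hUU (lp 𝔛 h𝔛 𝔐 n) p y)
    refine congrArg (R _ p) ?_
    refine (CFmap_comp_apply φ U (le_iSup U) (lp 𝔛 h𝔛 𝔐 m) g p x).symm.trans ?_
    rw [hg]
    exact hyx.symm
  have h1 : M' g p z ∈ LinearMap.ker
      ((CF (X := (𝔛.X 0).carrier) (O := 𝔛.Osh h𝔛.1) φ' U' (le_iSup U') (LF 𝔛 h𝔛 𝔐 n)).d p (p + 1)).hom :=
    LinearMap.mem_ker.2 ((CFmap_comm φ' U' (le_iSup U') g p (p + 1) z).symm.trans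
      ((congrArg _ (LinearMap.mem_ker.1 hz)).trans (map_zero _)))
  have h2 : M' (lp 𝔛 h𝔛 𝔐 n) p y' ∈ LinearMap.ker
      ((CF (X := (𝔛.X 0).carrier) (O := 𝔛.Osh h𝔛.1) φ' U' (le_iSup U') (LF 𝔛 h𝔛 𝔐 n)).d p (p + 1)).hom :=
    hkey ▸ h1
  refine (hnat _ _ (hacL m) (hacL n) g ⟨z, hz⟩ h1).trans
    (Eq.trans ?_ (hnat _ _ hacF (hacL n) (lp 𝔛 h𝔛 𝔐 n) ⟨y', hy''⟩ h2).symm)
  exact congrArg _ (Subtype.ext hkey)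

end Groth.Agent.FSProper
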