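import Groth.Agent.FSProper.Affine
import Groth.Agent.FSProper.RpushNat
import Groth.Agent.FSProper.LocBase
import Groth.Agent.FSProper.Uniform

/-!
# From cohomology over affine opens to higher direct images
-/

set_option autoImplicit false
set_option backward.isDefEq.respectTransparency false
set_option backward.isDefEq.respectTransparency.types false
set_option linter.style.haveILetI false
set_option maxHeartbeats 1000000

universe u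

open CategoryTheory CategoryTheory.Limits AlgebraicGeometry TopologicalSpace Opposite
open Groth.Agent.SiteCoh Groth.Agent.ProjCech
open Groth.Agent.RSFin (ap)
open Groth.Agent.FSchCoh (OA RA pullSys isIso_toReal isCoh_pullSys toReal)

noncomputable section

namespace Groth.Agent.FSProper

section Basic

variable (𝔛 : FSch.Sys.{u}) (h𝔛 : 𝔛.IsLocNoethFormal) {A : Type u} [CommRing A] [IsNoetherianRing A]
  {σ : Type u} [Fintype σ] {t : σ → A} {W : (𝔛.X 0).Opens}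
  {ι : Type u} [Finite ι] (U : ι → (𝔛.X 0).Opens) (hcov : iSup U = W) {φ : A →+* OA 𝔛 h𝔛.1 W}
  (hU : ∀ (n : ℕ) (a : Fin (n + 1) → ι), IsAffineOpen (tupleProd U a))
  (hJ : GensIdeal 𝔛 h𝔛 t φ) (hP : ProperBase 𝔛 h𝔛 φ)
  (F : FSch.ModF 𝔛 h𝔛.1) (hF : FSch.IsCohF 𝔛 h𝔛.1 F)

include hcov hU hJ hP hF in
/-- The uniform Mittag-Leffler bound for a coherent module. -/
theorem ml_coh_basic (p : ℕ) : ∃ D : ℕ, ∀ (b : A) (T : (𝔛.X 0).Opens), T = bop 𝔛 h𝔛 (φ b) →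
    ∀ (n m : ℕ), n + D ≤ m → ∀ g : FL 𝔛 h𝔛 F m ⟶ FL 𝔛 h𝔛 F n, un 𝔛 h𝔛 F m ≫ g = un 𝔛 h𝔛 F n →
    ∀ c, ∃ y, hum T g p c = hum T (un 𝔛 h𝔛 F n) p y := by
  subst hcov
  haveI := isIso_toReal h𝔛 hF
  obtain ⟨D, hD⟩ := ml_hu_basic 𝔛 h𝔛 U (pullSys 𝔛 h𝔛.1 F) hU hJ (isCoh_pullSys 𝔛 h𝔛.1 F h𝔛 hF) hP p
  refine ⟨D, fun b T hT n m hnm g hg => ?_⟩
  have hB : iSup (Ub 𝔛 h𝔛 φ U b) = T :=
    ((iSup_inf_eq (fun i => U i) (bop 𝔛 h𝔛 (φ b))).symm.trans (inf_eq_right.2 (bop_le 𝔛 h𝔛 (φ b)))).trans hT.symm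
  subst hB
  intro c
  obtain ⟨y, hy⟩ := hD b n m hnm g (by rw [lp_eq 𝔛 h𝔛 F hF, lp_eq 𝔛 h𝔛 F hF, Category.assoc, hg]) c
  refine ⟨hum _ (inv (toReal 𝔛 h𝔛.1 F)) p y, hy.trans ?_⟩
  rw [lp_eq 𝔛 h𝔛 F hF, hum_comp]
  rfl

end Basic

section Theta

variable {𝔛 𝔜 : FSch.Sys.{u}} (h𝔛 : 𝔛.IsLocNoethFormal) (h𝔜 : 𝔜.IsLocNoethFormal) (f : 𝔛 ⟶ 𝔜)
  [HasInjectiveResolutions (FSch.ModF 𝔛 h𝔛.1)] (q : ℕ)

/-- A generic unit to the sheafification seen through an isomorphism. -/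
def unitPre {C : Type*} [Category C] {Y : TopCat.{u}} (H : C ⥤ TopCat.Presheaf AddCommGrpCat.{u} Y)
    (R : C ⥤ Sheaf (Opens.grothendieckTopology Y) AddCommGrpCat.{u})
    (e : R ≅ H ⋙ presheafToSheaf (Opens.grothendieckTopology Y) AddCommGrpCat.{u}) (M : C) :
    H.obj M ⟶ (R.obj M).obj :=
  toSheafify (Opens.grothendieckTopology Y) (H.obj M) ≫ (e.inv.app M).hom

lemma unitPre_natural {C : Type*} [Category C] {Y : TopCat.{u}} (H : C ⥤ TopCat.Presheaf AddCommGrpCat.{u} Y)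
    (R : C ⥤ Sheaf (Opens.grothendieckTopology Y) AddCommGrpCat.{u})
    (e : R ≅ H ⋙ presheafToSheaf (Opens.grothendieckTopology Y) AddCommGrpCat.{u}) {M N : C} (g : M ⟶ N) :
    H.map g ≫ unitPre H R e N = unitPre H R e M ≫ (R.map g).hom := by
  rw [unitPre, unitPre, ← Category.assoc, toSheafify_naturality, Category.assoc, Category.assoc]
  exact congrArg (toSheafify _ _ ≫ ·) (congrArg (fun z => z.hom) (e.inv.naturality g))

lemma unitPre_bijective {C : Type*} [Category C] {Y : TopCat.{u}}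
    (H : C ⥤ TopCat.Presheaf AddCommGrpCat.{u} Y)
    (R : C ⥤ Sheaf (Opens.grothendieckTopology Y) AddCommGrpCat.{u})
    (e : R ≅ H ⋙ presheafToSheaf (Opens.grothendieckTopology Y) AddCommGrpCat.{u}) (M : C) (V : Opens Y)
    (h : Function.Bijective ((toSheafify (Opens.grothendieckTopology Y) (H.obj M)).app (op V))) :
    Function.Bijective ((unitPre H R e M).app (op V)) :=
  (ConcreteCategory.bijective_of_isIso ((e.inv.app M).hom.app (op V))).comp h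

/-- The chosen natural isomorphism with the sheafified cohomology presheaves. -/
def thetaIso := (nonempty_rpushF_iso f h𝔛.1 h𝔜.1 q).some

/-- The presheaf map underlying `theta`. -/
def thetaPre (M : FSch.ModF 𝔛 h𝔛.1) : (PH (f0 f) q).obj (ModSite.toAb M) ⟶
    ((SheafOfModules.toSheaf (ModSite.ringSh (𝔜.Osh h𝔜.1))).obj ((FSch.RpushF f h𝔛.1 h𝔜.1 q).obj M)).obj :=
  unitPre (Y := TopCat.of (𝔜.X 0)) (SheafOfModules.toSheaf _ ⋙ PH (f0 f) q)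
    (FSch.RpushF f h𝔛.1 h𝔜.1 q ⋙ SheafOfModules.toSheaf _) (thetaIso h𝔛 h𝔜 f q) M

lemma thetaPre_natural {M N : FSch.ModF 𝔛 h𝔛.1} (g : M ⟶ N) :
    (PH (f0 f) q).map ((SheafOfModules.toSheaf _).map g) ≫ thetaPre h𝔛 h𝔜 f q N =
      thetaPre h𝔛 h𝔜 f q M ≫
        ((SheafOfModules.toSheaf _).map ((FSch.RpushF f h𝔛.1 h𝔜.1 q).map g)).hom :=
  unitPre_natural (Y := TopCat.of (𝔜.X 0)) (SheafOfModules.toSheaf _ ⋙ PH (f0 f) q)
    (FSch.RpushF f h𝔛.1 h𝔜.1 q ⋙ SheafOfModules.toSheaf _) (thetaIso h𝔛 h𝔜 f q) g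

/-- Cohomology over the inverse image to sections of the higher direct image. -/
def theta (M : FSch.ModF 𝔛 h𝔛.1) (V : (𝔜.X 0).Opens) :
    CohSite.HU (ModSite.toAb M) q (Wof f V) →+ ModSite.sect ((FSch.RpushF f h𝔛.1 h𝔜.1 q).obj M) V :=
  ((thetaPre h𝔛 h𝔜 f q M).app (op V)).hom

lemma thetaPre_app (M : FSch.ModF 𝔛 h𝔛.1) (V : (𝔜.X 0).Opens) (c : CohSite.HU (ModSite.toAb M) q (Wof f V)) :
    (thetaPre h𝔛 h𝔜 f q M).app (op V) c = theta h𝔛 h𝔜 f q M V c := rfl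

lemma theta_natural {M N : FSch.ModF 𝔛 h𝔛.1} (g : M ⟶ N) (V : (𝔜.X 0).Opens)
    (c : CohSite.HU (ModSite.toAb M) q (Wof f V)) :
    theta h𝔛 h𝔜 f q N V (hum (X := (𝔛.X 0).carrier) (O := 𝔛.Osh h𝔛.1) (Wof f V) g q c) =
      ap ((FSch.RpushF f h𝔛.1 h𝔜.1 q).map g) V (theta h𝔛 h𝔜 f q M V c) :=
  ConcreteCategory.congr_hom (NatTrans.congr_app (thetaPre_natural h𝔛 h𝔜 f q g) (op V)) c

variable (hf : FSch.IsProperHom f)

include hf in
theorem theta_bijective_level (n : ℕ) (G : (𝔛.X n).Modules) (hG : Coh.IsCoh G) {V : (𝔜.X 0).Opens}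
    (hV : IsAffineOpen V) :
    Function.Bijective (theta h𝔛 h𝔜 f q ((FSch.levelMor 𝔛 h𝔛.1 n).push.obj G) V) :=
  unitPre_bijective (Y := TopCat.of (𝔜.X 0)) (SheafOfModules.toSheaf _ ⋙ PH (f0 f) q)
    (FSch.RpushF f h𝔛.1 h𝔜.1 q ⋙ SheafOfModules.toSheaf _) (thetaIso h𝔛 h𝔜 f q) _ V
    (bijective_toSheafify_level f h𝔛 h𝔜 hf n G hG q hV)

end Theta

end Groth.Agent.FSProper
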