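import Groth.Agent.FSProper.Affine
import Groth.Agent.QC.Localisation

/-!
# Mittag-Leffler and comparison of cohomology over a formal spectrum
-/

set_option autoImplicit false
set_option backward.isDefEq.respectTransparency false
set_option backward.isDefEq.respectTransparency.types false
set_option linter.style.haveILetI false
set_option maxHeartbeats 1000000

universe u

open CategoryTheory CategoryTheory.Limits AlgebraicGeometry TopologicalSpace Opposite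
open Groth.Agent.SiteCoh Groth.Agent.ProjCech

noncomputable section

namespace Groth.Agent.FSProper

variable (𝔛 : FSch.Sys.{u}) (h𝔛 : 𝔛.IsLocNoethFormal) {A : Type u} [CommRing A] [IsNoetherianRing A]
  (J : Ideal A) (f : 𝔛 ⟶ FSch.spf A J) (hf : FSch.IsProperHom f)
  (F : FSch.ModF 𝔛 h𝔛.1) (hF : FSch.IsCohF 𝔛 h𝔛.1 F) (p : ℕ)

/-- The map on global cohomology. -/
abbrev hmapF {M N : FSch.ModF 𝔛 h𝔛.1} (g : M ⟶ N) :
    FSch.HF 𝔛 h𝔛.1 M p →+ FSch.HF 𝔛 h𝔛.1 N p :=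
  Sheaf.H.map ((SheafOfModules.toSheaf _).map g) p

/-- Global cohomology as cohomology over the whole space. -/
abbrev topEq (M : FSch.ModF 𝔛 h𝔛.1) :
    FSch.HF 𝔛 h𝔛.1 M p ≃+ CohSite.HU (ModSite.toAb M) p (⊤ : (𝔛.X 0).Opens) :=
  huTerminalEquiv (Opens.grothendieckTopology (𝔛.X 0)) isTerminalTop (ModSite.toAb M) p

lemma topEq_hmapF {M N : FSch.ModF 𝔛 h𝔛.1} (g : M ⟶ N) (x : FSch.HF 𝔛 h𝔛.1 M p) :
    topEq 𝔛 h𝔛 p N (hmapF 𝔛 h𝔛 p g x) = hum (X := (𝔛.X 0).carrier) (O := 𝔛.Osh h𝔛.1) ⊤ g p (topEq 𝔛 h𝔛 p M x) :=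
  huTerminalEquiv_natural (Opens.grothendieckTopology (𝔛.X 0)) isTerminalTop ((SheafOfModules.toSheaf _).map g) p x

include hf in
lemma exists_setting : ∃ (σ : Type u) (_ : Fintype σ) (t : σ → A) (ι : Type u) (_ : Finite ι)
    (U : ι → (𝔛.X 0).Opens), iSup U = ⊤ ∧ (∀ (n : ℕ) (a : Fin (n + 1) → ι), IsAffineOpen (tupleProd U a)) ∧
      GensIdeal 𝔛 h𝔛 t (phiT 𝔛 h𝔛 J f) ∧ ProperBase 𝔛 h𝔛 (phiT 𝔛 h𝔛 J f) := by
  obtain ⟨m, g, hg⟩ := Submodule.fg_iff_exists_fin_generating_family.1 (IsNoetherian.noetherian J)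
  haveI := hf.2
  haveI : IsAffine ((FSch.spf A J).X 0) := inferInstanceAs (IsAffine (Spec _))
  haveI : CompactSpace (𝔛.X 0) := QuasiCompact.compactSpace_of_compactSpace ((f : FSch.Hom 𝔛 _).app 0)
  haveI : (𝔛.X 0).IsSeparated := ⟨by
    rw [← terminal.comp_from ((f : FSch.Hom 𝔛 _).app 0)]
    infer_instance⟩
  obtain ⟨ι, hι, U, hU, -, hcov⟩ := QC.exists_finite_affine_cover (X := 𝔛.X 0) (W := ⊤) isCompact_univ
  refine ⟨ULift.{u} (Fin m), inferInstance, fun i => g i.down, ι, inferInstance, U,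
    eq_top_iff.2 fun x hx => Opens.mem_iSup.2 (hcov x hx), isAffineOpen_tupleProd_sep U hU,
    gensIdeal_spf 𝔛 h𝔛 J f hf.1 ?_, properBase_spf 𝔛 h𝔛 J f hf.2⟩
  refine (congrArg Ideal.span ?_).trans hg
  exact (ULift.down_surjective.range_comp g)

include hf hF in
theorem isML_HF : ARSys.IsML (Functor.ofOpSequence
      (X := fun k => AddCommGrpCat.of (FSch.HF 𝔛 h𝔛.1 (FL 𝔛 h𝔛 F k) p))
      (fun k => AddCommGrpCat.ofHom (hmapF 𝔛 h𝔛 p (FSch.levelTrans 𝔛 h𝔛.1 F k)))) := by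
  obtain ⟨σ, _, t, ι, _, U, hcov, hU, hJ, hP⟩ := exists_setting 𝔛 h𝔛 J f hf
  let S : ℕᵒᵖ ⥤ FSch.ModF 𝔛 h𝔛.1 := Functor.ofOpSequence (X := fun k => FL 𝔛 h𝔛 F k)
    (FSch.levelTrans 𝔛 h𝔛.1 F)
  let Hf : FSch.ModF 𝔛 h𝔛.1 ⥤ AddCommGrpCat.{u} :=
    { obj := fun M => AddCommGrpCat.of (FSch.HF 𝔛 h𝔛.1 M p)
      map := fun g => AddCommGrpCat.ofHom (hmapF 𝔛 h𝔛 p g)
      map_id := fun M => by
        refine ConcreteCategory.hom_ext _ _ fun x => ?_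
        change Sheaf.H.map ((SheafOfModules.toSheaf _).map (𝟙 M)) p x = x
        rw [CategoryTheory.Functor.map_id]
        exact Sheaf.H.map_id_apply x
      map_comp := fun {M N P} g g' => by
        refine ConcreteCategory.hom_ext _ _ fun x => ?_
        change Sheaf.H.map ((SheafOfModules.toSheaf _).map (g ≫ g')) p x = _
        rw [Functor.map_comp]
        exact Sheaf.H.map_comp_apply _ _ x }
  let G : ℕᵒᵖ ⥤ AddCommGrpCat.{u} := Functor.ofOpSequence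
      (X := fun k => AddCommGrpCat.of (FSch.HF 𝔛 h𝔛.1 (FL 𝔛 h𝔛 F k) p))
      (fun k => AddCommGrpCat.ofHom (hmapF 𝔛 h𝔛 p (FSch.levelTrans 𝔛 h𝔛.1 F k)))
  have hS : ∀ {a b : ℕ} (h : a ≤ b), un 𝔛 h𝔛 F b ≫ ARSys.tr S h = un 𝔛 h𝔛 F a := fun {a b} h => by
    induction b, h using Nat.le_induction with
    | base => exact (congrArg (un 𝔛 h𝔛 F a ≫ ·) (S.map_id _)).trans (Category.comp_id _)
    | succ b hb ih =>
      have e : ARSys.tr S (Nat.le_succ_of_le hb) = S.map (homOfLE (Nat.le_add_right b 1)).op ≫ ARSys.tr S hb :=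
        (congrArg S.map (Subsingleton.elim _ _)).trans (S.map_comp _ _)
      rw [show un 𝔛 h𝔛 F (b + 1) ≫ ARSys.tr S (Nat.le_succ_of_le hb) = _ from congrArg _ e,
        Functor.ofOpSequence_map_homOfLE_succ, ← Category.assoc, FSch.unit_levelTrans]
      exact ih
  have hG : ∀ {a b : ℕ} (h : a ≤ b), ARSys.tr G h = Hf.map (ARSys.tr S h) := fun {a b} h => by
    induction b, h using Nat.le_induction with
    | base => exact (G.map_id _).trans ((Hf.map_id _).symm.trans (congrArg Hf.map (S.map_id _).symm))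
    | succ b hb ih =>
      have eG : ARSys.tr G (Nat.le_succ_of_le hb) = G.map (homOfLE (Nat.le_add_right b 1)).op ≫ ARSys.tr G hb :=
        (congrArg G.map (Subsingleton.elim _ _)).trans (G.map_comp _ _)
      have eS : ARSys.tr S (Nat.le_succ_of_le hb) = S.map (homOfLE (Nat.le_add_right b 1)).op ≫ ARSys.tr S hb :=
        (congrArg S.map (Subsingleton.elim _ _)).trans (S.map_comp _ _)
      refine eG.trans ((?_ : _ = _).trans (congrArg Hf.map eS).symm)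
      rw [Functor.ofOpSequence_map_homOfLE_succ, Functor.ofOpSequence_map_homOfLE_succ, ih, Hf.map_comp]
  refine isML_of_cone G (fun k => Hf.map (un 𝔛 h𝔛 F k)) (fun n m h => ?_) fun n => ?_
  · rw [hG h, ← Hf.map_comp, hS h]
  · obtain ⟨D, hD⟩ := ml_coh 𝔛 h𝔛 U hcov hU hJ hP F hF p
    refine ⟨D, ConcreteCategory.hom_ext _ _ fun c => ?_⟩
    obtain ⟨y, hy⟩ := hD n (n + D) le_rfl _ (hS (Nat.le_add_right n D)) (topEq 𝔛 h𝔛 p _ c)
    have he : (ARSys.shiftMap G D n) c = Hf.map (un 𝔛 h𝔛 F n) ((topEq 𝔛 h𝔛 p F).symm y) := by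
      refine (congrArg (fun ψ => ψ c) (hG (Nat.le_add_right n D))).trans ((topEq 𝔛 h𝔛 p _).injective ?_)
      change topEq 𝔛 h𝔛 p _ (hmapF 𝔛 h𝔛 p _ c) = topEq 𝔛 h𝔛 p _ (hmapF 𝔛 h𝔛 p _ _)
      rw [topEq_hmapF, topEq_hmapF, AddEquiv.apply_symm_apply]
      exact hy
    refine (ConcreteCategory.comp_apply _ _ c).trans ?_
    refine (congrArg (cokernel.π (Hf.map (un 𝔛 h𝔛 F n))) he).trans ?_
    exact ConcreteCategory.congr_hom (cokernel.condition (Hf.map (un 𝔛 h𝔛 F n))) _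

include hf hF in
theorem bijective_HF :
    (∀ x : FSch.HF 𝔛 h𝔛.1 F p, (∀ k : ℕ, hmapF 𝔛 h𝔛 p (un 𝔛 h𝔛 F k) x = 0) → x = 0) ∧
    (∀ y : ∀ k : ℕ, FSch.HF 𝔛 h𝔛.1 (FL 𝔛 h𝔛 F k) p,
      (∀ k : ℕ, hmapF 𝔛 h𝔛 p (FSch.levelTrans 𝔛 h𝔛.1 F k) (y (k + 1)) = y k) →
      ∃ x : FSch.HF 𝔛 h𝔛.1 F p, ∀ k : ℕ, hmapF 𝔛 h𝔛 p (un 𝔛 h𝔛 F k) x = y k) := by
  obtain ⟨σ, _, t, ι, _, U, hcov, hU, hJ, hP⟩ := exists_setting 𝔛 h𝔛 J f hf
  refine ⟨fun x hx => ?_, fun y hy => ?_⟩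
  · refine (topEq 𝔛 h𝔛 p F).map_eq_zero_iff.1 (hu_coh_eq_zero 𝔛 h𝔛 U hcov hU hJ hP F hF p _ fun k => ?_)
    rw [← topEq_hmapF, hx k, map_zero]
  · obtain ⟨x, hx⟩ := exists_hu_coh 𝔛 h𝔛 U hcov hU hJ hP F hF p (fun k => topEq 𝔛 h𝔛 p _ (y k)) fun k => by
      rw [← topEq_hmapF, hy]
    refine ⟨(topEq 𝔛 h𝔛 p F).symm x, fun k => (topEq 𝔛 h𝔛 p _).injective ?_⟩
    rw [topEq_hmapF, AddEquiv.apply_symm_apply]
    exact hx k

end Groth.Agent.FSProper
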